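import Cfsg.Agent.Lib.Frobenius.KernelNilpotent
import Cfsg.Agent.Lib.PComplement.Thompson

/-!
# Thompson's theorem and nilpotency of the Frobenius kernel
-/

set_option autoImplicit false

namespace Cfsg.Agent.Frobenius

universe u

/-- Thompson: a fixed-point-free automorphism of prime order forces nilpotency. -/
theorem isNilpotent_of_fixedPointFree (G : Type u) [Group G] [Finite G] (φ : G ≃* G)
    (hφ : ∀ g, φ g = g → g = 1) {r : ℕ} (hr : r.Prime) (hrφ : φ ^ r = 1) :
    Group.IsNilpotent G :=
  isNilpotent_of_fixedPointFree_of_criterion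
    (fun _ _ _ _ _ hp P h1 h2 =>
      Cfsg.Agent.PComplement.thompson_normal_p_complement hp P h1 h2) G φ hφ hr hrφ

/-- The Frobenius kernel is a nilpotent normal subgroup. -/
theorem frobeniusKernel_isNilpotent {G : Type u} [Group G] [Finite G] {H : Subgroup G}
    (hH : IsFrobeniusComplement H) :
    ∃ N : Subgroup G, (N : Set G) = frobeniusKernel H ∧ N.Normal ∧ Group.IsNilpotent N :=
  exists_nilpotent_frobeniusKernel (fun N _ _ φ hφ _ hr hrφ =>
    isNilpotent_of_fixedPointFree N φ hφ hr hrφ) hH

end Cfsg.Agent.Frobenius
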