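import Cfsg.Agent.Lib.Frobenius.Basic
import Cfsg.Agent.Lib.CharCore.Basic
import Cfsg.Agent.Lib.CharInd.Basic
import Cfsg.Agent.Lib.CharInd.Char

/-!
# Frobenius' theorem: the Frobenius kernel is a normal complement
-/

set_option autoImplicit false
set_option linter.style.haveILetI false

open scoped ComplexConjugate

namespace Cfsg.Agent.Frobenius

variable {G : Type*} [Group G] {H : Subgroup G}

section

variable [Fintype G] [Fintype H]

theorem indFun_apply_of_mem (hH : IsFrobeniusComplement H) {θ : H → ℂ}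
    (hθ : IsClassFunction H θ) (h1 : θ 1 = 0) (h : H) : indFun H θ h = θ h := by
  classical
  by_cases hh : (h : G) = 1
  · have hh' : h = 1 := Subtype.ext hh
    subst hh'
    rw [OneMemClass.coe_one, CharInd.indFun_apply_one, h1, mul_zero]
  · rw [CharInd.indFun_apply,
      ← Finset.sum_subset (Finset.subset_univ (Finset.univ.filter (· ∈ H))) ?_]
    · rw [Finset.sum_congr rfl (g := fun _ => θ h) ?_]
      · rw [Finset.sum_const, nsmul_eq_mul, ← mul_assoc]
        have hc : (Finset.univ.filter (· ∈ H)).card = Nat.card H := by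
          rw [Nat.card_eq_fintype_card, Fintype.card_subtype]
        rw [hc, inv_mul_cancel₀ (by exact_mod_cast Nat.card_pos.ne'), one_mul]
      · intro x hx
        simp only [Finset.mem_filter, Finset.mem_univ, true_and] at hx
        rw [CharInd.extendByZero_mem θ (mul_mem (mul_mem (inv_mem hx) h.2) hx)]
        have := hθ h (⟨x, hx⟩ : H)⁻¹
        rw [← this]
        congr 1
        ext
        simp
    · intro x _ hx
      refine CharInd.extendByZero_notMem θ fun hm => hx ?_
      simp only [Finset.mem_filter, Finset.mem_univ, true_and]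
      exact mem_of_conj_mem hH hh h.2 hm

theorem indFun_apply_of_mem_kernel {θ : H → ℂ} (h1 : θ 1 = 0) {g : G}
    (hg : g ∈ frobeniusKernel H) : indFun H θ g = 0 := by
  rcases hg with hg | hg
  · rw [hg, CharInd.indFun_apply_one, h1, mul_zero]
  · exact CharInd.indFun_eq_zero_of_forall_notMem H θ fun x hx => hg x (mem_conj_smul.2 hx)

/-- Every irreducible character of the complement extends to a character of the group which is
constant on the kernel. -/
theorem exists_character_extension (hH : IsFrobeniusComplement H) (φ : IrrCharacter H) :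
    ∃ χ : G → ℂ, IsCharacter G χ ∧ (∀ h : H, χ h = (φ : H → ℂ) h) ∧
      ∀ g ∈ frobeniusKernel H, χ g = (φ : H → ℂ) 1 := by
  classical
  obtain ⟨d, hd⟩ : ∃ d : ℕ, (φ : H → ℂ) 1 = d := by
    obtain ⟨n, ρ, hρ, hχ⟩ := φ.2
    exact ⟨n, by rw [← hχ]; simp [Representation.character]⟩
  have hd0 : d ≠ 0 := by
    rintro rfl
    exact CharCore.irr_apply_one_ne_zero φ (by simpa using hd)
  let θ : H → ℂ := (φ : H → ℂ) - fun _ => (d : ℂ)
  have hθc : IsClassFunction H θ := fun g h => by
    simp only [θ, Pi.sub_apply, CharCore.irr_isClassFunction φ g h]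
  have hθ1 : θ 1 = 0 := by simp [θ, hd]
  let Λ : G → ℂ := indFun H θ + fun _ => (d : ℂ)
  have hΛH : ∀ h : H, Λ h = (φ : H → ℂ) h := fun h => by
    simp only [Λ, Pi.add_apply, indFun_apply_of_mem hH hθc hθ1]
    simp [θ]
  have hΛK : ∀ g ∈ frobeniusKernel H, Λ g = d := fun g hg => by
    simp [Λ, indFun_apply_of_mem_kernel hθ1 hg]
  have hone : IsClassFunction G (fun _ : G => (d : ℂ)) := fun _ _ => rfl
  -- the norm of `Λ`
  have hnorm : classInner Λ Λ = 1 := by
    have hφ : classInner (φ : H → ℂ) (φ : H → ℂ) = 1 := CharCore.classInner_irr_self φ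
    have e1 : classInner (indFun H θ) (indFun H θ) = classInner θ θ := by
      rw [CharInd.classInner_indFun_left H θ (CharInd.isClassFunction_indFun H θ)]
      congr 1
      funext h
      exact indFun_apply_of_mem hH hθc hθ1 h
    have e2 : classInner (indFun H θ) (fun _ : G => (d : ℂ)) = classInner θ (fun _ => (d : ℂ)) := by
      rw [CharInd.classInner_indFun_left H θ hone]
    have e3 : classInner (fun _ : G => (d : ℂ)) (indFun H θ) = classInner (fun _ => (d : ℂ)) θ := by
      rw [CharInd.classInner_indFun_right H θ hone]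
    have e4 : classInner (fun _ : G => (d : ℂ)) (fun _ : G => (d : ℂ))
        = classInner (fun _ : H => (d : ℂ)) (fun _ => (d : ℂ)) := by
      simp only [CharCore.classInner_def, Finset.sum_const, Finset.card_univ, nsmul_eq_mul,
        Nat.card_eq_fintype_card]
      have hG : (Fintype.card G : ℂ) ≠ 0 := Nat.cast_ne_zero.2 Fintype.card_ne_zero
      have hH' : (Fintype.card H : ℂ) ≠ 0 := Nat.cast_ne_zero.2 Fintype.card_ne_zero
      field_simp
    have hsplit : (φ : H → ℂ) = θ + fun _ => (d : ℂ) := by funext h; simp [θ]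
    simp only [Λ, CharCore.classInner_add_left, CharCore.classInner_add_right, e1, e2, e3, e4]
    rw [hsplit] at hφ
    simp only [CharCore.classInner_add_left, CharCore.classInner_add_right] at hφ
    exact hφ
  -- `Λ` is a difference of characters
  have hA : IsCharacter G (indFun H (φ : H → ℂ) + fun _ => (d : ℂ)) :=
    CharCore.isCharacter_add (CharInd.isCharacter_indFun H (CharCore.irr_isCharacter φ))
      (CharCore.isCharacter_natCast d)
  have hB : IsCharacter G (indFun H (fun _ => (d : ℂ))) :=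
    CharInd.isCharacter_indFun H (CharCore.isCharacter_natCast d)
  have hΛAB : Λ = (indFun H (φ : H → ℂ) + fun _ => (d : ℂ)) - indFun H (fun _ => (d : ℂ)) := by
    simp only [Λ, θ, CharInd.indFun_sub]
    abel
  obtain ⟨m, hm⟩ := CharCore.IsCharacter.exists_sum hA
  obtain ⟨n, hn⟩ := CharCore.IsCharacter.exists_sum hB
  let c : IrrCharacter G → ℤ := fun χ => (m χ : ℤ) - n χ
  have hΛc : Λ = ∑ χ, (c χ : ℂ) • (χ : G → ℂ) := by
    rw [hΛAB, hm, hn, ← Finset.sum_sub_distrib]
    exact Finset.sum_congr rfl fun χ _ => by simp [c, sub_smul]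
  have hc2 : ∑ χ, c χ * c χ = 1 := by
    have h2 := hnorm
    rw [hΛc, CharCore.classInner_sum_sum] at h2
    simp only [map_intCast] at h2
    exact_mod_cast h2
  obtain ⟨χ₀, -, hχ₀⟩ := Finset.exists_ne_zero_of_sum_ne_zero (hc2.trans_ne one_ne_zero)
  have hc0 : c χ₀ ≠ 0 := fun h => hχ₀ (by simp [h])
  have hsplit' := Finset.add_sum_erase Finset.univ (fun χ => c χ * c χ) (Finset.mem_univ χ₀)
  rw [hc2] at hsplit'
  have hrest : ∑ χ ∈ Finset.univ.erase χ₀, c χ * c χ = 0 := by
    have h1 : 1 ≤ c χ₀ * c χ₀ := by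
      rcases Int.lt_or_gt_of_ne hc0 with h | h <;> nlinarith
    have h2 : 0 ≤ ∑ χ ∈ Finset.univ.erase χ₀, c χ * c χ :=
      Finset.sum_nonneg fun χ _ => mul_self_nonneg _
    linarith
  have hzero : ∀ χ, χ ≠ χ₀ → c χ = 0 := fun χ hχ =>
    mul_self_eq_zero.1 ((Finset.sum_eq_zero_iff_of_nonneg fun χ _ => mul_self_nonneg _).1 hrest χ
      (Finset.mem_erase.2 ⟨hχ, Finset.mem_univ _⟩))
  have hΛ1 : Λ = (c χ₀ : ℂ) • (χ₀ : G → ℂ) := by
    rw [hΛc]
    refine Finset.sum_eq_single χ₀ (fun χ _ hχ => ?_) (by simp)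
    simp [hzero χ hχ]
  have hsq : c χ₀ * c χ₀ = 1 := by rw [hrest, add_zero] at hsplit'; exact hsplit'
  have hpos : c χ₀ = 1 := by
    rcases Int.eq_one_or_neg_one_of_mul_eq_one' hsq with h | h
    · exact h.1
    · exfalso
      obtain ⟨e, ρ, hρ, hχ⟩ := χ₀.2
      have h3 := hΛK 1 one_mem_frobeniusKernel
      rw [hΛ1, h.1] at h3
      simp only [Int.cast_neg, Int.cast_one, neg_smul, one_smul, Pi.neg_apply] at h3
      rw [← hχ, Representation.char_one] at h3
      simp only [Module.finrank_fin_fun] at h3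
      have h4 : ((e + d : ℕ) : ℂ) = 0 := by rw [Nat.cast_add, ← h3]; ring
      have : e + d = 0 := by exact_mod_cast h4
      omega
  refine ⟨Λ, ?_, hΛH, fun g hg => by rw [hΛK g hg, hd]⟩
  rw [hΛ1, hpos, Int.cast_one, one_smul]
  exact CharCore.irr_isCharacter χ₀

/-- The irreducible characters separate the identity. -/
theorem eq_one_of_forall_irr {h : H}
    (hall : ∀ φ : IrrCharacter H, (φ : H → ℂ) h = (φ : H → ℂ) 1) : h = 1 := by
  classical
  let R : H → ℂ := indFun (⊥ : Subgroup H) (fun _ => (1 : ℂ))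
  have hR : IsCharacter H R :=
    CharInd.isCharacter_indFun _ (by simpa using CharCore.isCharacter_natCast (G := (⊥ : Subgroup H)) 1)
  obtain ⟨m, hm⟩ := CharCore.IsCharacter.exists_sum hR
  have h1 : R h = R 1 := by
    rw [hm]
    simp only [Finset.sum_apply, Pi.smul_apply, hall]
  by_contra hne
  have h0 : R h = 0 := CharInd.indFun_eq_zero_of_forall_notMem _ _ fun x hx => hne (by
    rw [Subgroup.mem_bot] at hx
    have e : h = x * (x⁻¹ * h * x) * x⁻¹ := by group
    rw [e, hx]
    group)
  rw [h0] at h1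
  simp only [R, CharInd.indFun_apply_one, mul_one] at h1
  exact Subgroup.index_ne_zero_of_finite (H := (⊥ : Subgroup H)) (by exact_mod_cast h1.symm)

end

/-- **Frobenius' theorem.** -/
theorem exists_frobeniusKernel_subgroup [Finite G] (hH : IsFrobeniusComplement H) :
    ∃ N : Subgroup G, (N : Set G) = frobeniusKernel H ∧ N.Normal ∧
      Subgroup.IsComplement' N H := by
  classical
  haveI := Fintype.ofFinite G
  haveI := Fintype.ofFinite H
  choose χ hχ hχH hχK using exists_character_extension hH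
  choose n ρ hρ using hχ
  let N : Subgroup G := ⨅ φ : IrrCharacter H, (ρ φ).ker
  have hN : ∀ g, g ∈ N ↔ ∀ φ, ρ φ g = 1 := fun g => by
    simp [N, Subgroup.mem_iInf, MonoidHom.mem_ker]
  have hKN : frobeniusKernel H ⊆ (N : Set G) := by
    intro g hg
    rw [SetLike.mem_coe, hN]
    intro φ
    have h1 : (ρ φ).character g = (Module.finrank ℂ (Fin (n φ) → ℂ) : ℂ) := by
      rw [← Representation.char_one (ρ := ρ φ), hρ, hχK φ g hg,
        hχK φ 1 one_mem_frobeniusKernel]
    exact (CharCore.character_eq_finrank_iff (ρ φ) g).1 h1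
  have hdisj : N ⊓ H = ⊥ := by
    rw [Subgroup.eq_bot_iff_forall]
    rintro x ⟨hxN, hxH⟩
    have := eq_one_of_forall_irr (h := (⟨x, hxH⟩ : H)) fun φ => by
      rw [← hχH φ ⟨x, hxH⟩, ← hχH φ 1, ← hρ φ]
      simp only [Representation.character, OneMemClass.coe_one, map_one, ((hN x).1 hxN) φ]
    exact congrArg Subtype.val this
  have hnormal : N.Normal := Subgroup.normal_iInf_normal fun φ => inferInstance
  have heq : (N : Set G) = frobeniusKernel H := by
    refine Set.Subset.antisymm (fun g hg => ?_) hKN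
    by_contra hk
    obtain ⟨hg1, a, ha⟩ := exists_conj_of_not_mem_frobeniusKernel hk
    rw [mem_conj_smul] at ha
    have h2 : a⁻¹ * g * a ∈ N := by simpa using hnormal.conj_mem g hg a⁻¹
    have h3 : a⁻¹ * g * a = 1 := Subgroup.mem_bot.1 (hdisj ▸ Subgroup.mem_inf.2 ⟨h2, ha⟩)
    refine hg1 ?_
    have e : g = a * (a⁻¹ * g * a) * a⁻¹ := by group
    rw [e, h3]
    group
  refine ⟨N, heq, hnormal, Subgroup.isComplement'_of_card_mul_and_disjoint ?_
    (disjoint_iff.2 hdisj)⟩
  have : Nat.card N = H.index := by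
    rw [← ncard_frobeniusKernel hH, ← heq, ← Nat.card_coe_set_eq]
    rfl
  rw [this, H.index_mul_card]

end Cfsg.Agent.Frobenius
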