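import Mathlib.GroupTheory.Complement
import Mathlib.Tactic.Group
import Mathlib.GroupTheory.Index
import Mathlib.GroupTheory.OrderOfElement
import Mathlib.GroupTheory.GroupAction.Quotient

/-!
# Gaschütz's theorem
-/

set_option autoImplicit false
set_option linter.style.haveILetI false

open scoped Pointwise IsMulCommutative

namespace Cfsg.Agent.Frobenius

variable {G : Type*} [Group G] [Finite G]

theorem gaschuetz_exists (K U : Subgroup G) [K.Normal] [IsMulCommutative K] (hKU : K ≤ U)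
    (hcop : (Nat.card K).Coprime U.index) (A : Subgroup G) (hAU : A ≤ U) (hAK : A ⊓ K = ⊥)
    (hKA : K ⊔ A = U) : ∃ H : Subgroup G, Subgroup.IsComplement' K H := by
  classical
  haveI := Fintype.ofFinite (G ⧸ U)
  have hconj : ∀ (g k : G), k ∈ K → g * k * g⁻¹ ∈ K :=
    fun g k hk => Subgroup.Normal.conj_mem ‹_› k hk g
  have hdec : ∀ (g : G) (q : G ⧸ U), ∃ k : K, ∃ a ∈ A, g * q.out = k * (g • q).out * a := by
    intro g q
    have hu : (g • q).out⁻¹ * (g * q.out) ∈ U := QuotientGroup.eq.1 (by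
      rw [QuotientGroup.out_eq']
      show g • q = g • (QuotientGroup.mk q.out : G ⧸ U)
      rw [QuotientGroup.out_eq'])
    have hu' : (g • q).out⁻¹ * (g * q.out) ∈ ((K ⊔ A : Subgroup G) : Set G) := by
      rw [hKA]; exact hu
    rw [Subgroup.normal_mul] at hu'
    obtain ⟨k, hk, a, ha, he⟩ := hu'
    refine ⟨⟨_, hconj (g • q).out k hk⟩, a, ha, ?_⟩
    show g * q.out = (g • q).out * k * (g • q).out⁻¹ * (g • q).out * a
    rw [inv_mul_cancel_right, mul_assoc (g • q).out k a, show k * a = _ from he,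
      mul_inv_cancel_left]
  choose κ a ha hκ using hdec
  have huniq : ∀ (g : G) (q : G ⧸ U) (k : K) (b : G), b ∈ A →
      g * q.out = k * (g • q).out * b → k = κ g q := by
    intro g q k b hb he
    have h1 : (k : G) * (g • q).out * b = κ g q * (g • q).out * a g q := he.symm.trans (hκ g q)
    have h2 : (g • q).out⁻¹ * ((κ g q : G)⁻¹ * k) * (g • q).out = a g q * b⁻¹ := by
      rw [eq_mul_inv_iff_mul_eq]
      calc (g • q).out⁻¹ * ((κ g q : G)⁻¹ * k) * (g • q).out * b
          = (g • q).out⁻¹ * (κ g q : G)⁻¹ * ((k : G) * (g • q).out * b) := by group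
        _ = a g q := by rw [h1]; group
    have h3 : a g q * b⁻¹ ∈ A ⊓ K := ⟨A.mul_mem (ha g q) (A.inv_mem hb), by
      rw [← h2]
      simpa using hconj (g • q).out⁻¹ _ (K.mul_mem (K.inv_mem (κ g q).2) k.2)⟩
    rw [hAK, Subgroup.mem_bot] at h3
    rw [h3] at h2
    have h4 : (κ g q : G)⁻¹ * k = 1 := by
      rwa [mul_assoc, inv_mul_eq_one, eq_comm, mul_eq_right] at h2
    exact Subtype.ext (inv_mul_eq_one.1 h4).symm
  let c : G → K →* K := fun g =>
    { toFun := fun k => ⟨g * k * g⁻¹, hconj g k k.2⟩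
      map_one' := by ext; simp
      map_mul' := fun x y => by ext; simp [mul_assoc] }
  let Φ : G → K := fun g => ∏ q : G ⧸ U, κ g q
  have hmul : ∀ g h : G, Φ (g * h) = c g (Φ h) * Φ g := by
    intro g h
    have e : ∀ q, κ (g * h) q = c g (κ h q) * κ g (h • q) := by
      intro q
      refine (huniq (g * h) q _ (a g (h • q) * a h q) (mul_mem (ha g (h • q)) (ha h q)) ?_).symm
      rw [mul_smul]
      have h1 := hκ h q
      have h2 := hκ g (h • q)
      show g * h * q.out = g * (κ h q : G) * g⁻¹ * (κ g (h • q) : G) * _ * _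
      calc g * h * q.out = g * (h * q.out) := by group
        _ = g * (κ h q : G) * g⁻¹ * (g * (h • q).out) * a h q := by rw [h1]; group
        _ = _ := by rw [h2]; group
    show ∏ q, κ (g * h) q = c g (∏ q, κ h q) * ∏ q, κ g q
    rw [Finset.prod_congr rfl fun q _ => e q, Finset.prod_mul_distrib, map_prod]
    congr 1
    exact Equiv.prod_comp (MulAction.toPerm h) (fun q => κ g q)
  have hK : ∀ k : K, Φ k = k ^ U.index := by
    intro k
    have e : ∀ q : G ⧸ U, κ (k : G) q = k := by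
      intro q
      refine (huniq (k : G) q k 1 (one_mem A) ?_).symm
      have hq : (k : G) • q = q := by
        conv_lhs => rw [← QuotientGroup.out_eq' q]
        conv_rhs => rw [← QuotientGroup.out_eq' q]
        show QuotientGroup.mk ((k : G) * q.out) = QuotientGroup.mk q.out
        rw [QuotientGroup.eq]
        refine hKU ?_
        simpa [mul_assoc] using hconj q.out⁻¹ _ (inv_mem k.2)
      rw [hq, mul_one]
    show ∏ q, κ (k : G) q = _
    rw [Finset.prod_congr rfl fun q _ => e q, Finset.prod_const, Finset.card_univ, Subgroup.index,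
      Nat.card_eq_fintype_card]
  have hΦ1 : Φ 1 = 1 := by
    rw [← OneMemClass.coe_one K, hK, one_pow]
  let H : Subgroup G :=
    { carrier := {g | Φ g = 1}
      one_mem' := hΦ1
      mul_mem' := fun {x y} (hx : Φ x = 1) (hy : Φ y = 1) => by
        show Φ (x * y) = 1
        rw [hmul, hx, hy, map_one, one_mul]
      inv_mem' := fun {x} (hx : Φ x = 1) => by
        show Φ x⁻¹ = 1
        have := hmul x⁻¹ x
        rw [inv_mul_cancel, hΦ1, hx, map_one, one_mul] at this
        exact this.symm }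
  refine ⟨H, Subgroup.isComplement'_of_disjoint_and_mul_eq_univ ?_ (Set.eq_univ_of_forall ?_)⟩
  · rw [disjoint_iff, Subgroup.eq_bot_iff_forall]
    rintro x ⟨hx, hxH⟩
    have h1 : Φ ((⟨x, hx⟩ : K) : G) = 1 := hxH
    rw [hK] at h1
    have h2 : (⟨x, hx⟩ : K) = 1 := (powCoprime hcop).injective
      (show (⟨x, hx⟩ : K) ^ U.index = 1 ^ U.index by simpa using h1)
    exact congrArg Subtype.val h2
  · intro g
    obtain ⟨k, hk⟩ := (powCoprime hcop).surjective (Φ g)⁻¹
    have hk' : k ^ U.index = (Φ g)⁻¹ := hk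
    refine ⟨(k : G)⁻¹, inv_mem k.2, (k : G) * g, ?_, by group⟩
    show Φ ((k : G) * g) = 1
    have hck : c (k : G) (Φ g) = Φ g := by
      apply Subtype.ext
      show (k : G) * (Φ g : G) * (k : G)⁻¹ = Φ g
      exact mul_inv_eq_iff_eq_mul.2 (congrArg Subtype.val (mul_comm k (Φ g)) :)
    rw [hmul, hK, hk', hck, mul_inv_cancel]

theorem gaschuetz_conj (K U : Subgroup G) [K.Normal] [IsMulCommutative K] (hKU : K ≤ U)
    (hcop : (Nat.card K).Coprime U.index) (H₀ H₁ : Subgroup G)
    (h₀ : Subgroup.IsComplement' K H₀) (h₁ : Subgroup.IsComplement' K H₁)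
    (hU : H₀ ⊓ U = H₁ ⊓ U) : ∃ g : G, MulAut.conj g • H₀ = H₁ := by
  classical
  have hdec : ∀ h : G, ∃ k : K, (k : G) * h ∈ H₁ := by
    intro h
    have hmem : h ∈ (K : Set G) * (H₁ : Set G) := by rw [h₁.mul_eq]; trivial
    obtain ⟨k, hk, x, hx, he⟩ := hmem
    refine ⟨⟨k, hk⟩⁻¹, ?_⟩
    rw [← he]
    simpa using hx
  choose κ hκ using hdec
  have huniq : ∀ (h : G) (k : K), (k : G) * h ∈ H₁ → k = κ h := by
    intro h k hk
    have h2 : (k : G) * (κ h : G)⁻¹ ∈ K ⊓ H₁ :=
      ⟨K.mul_mem k.2 (K.inv_mem (κ h).2), by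
        simpa [mul_assoc] using H₁.mul_mem hk (H₁.inv_mem (hκ h))⟩
    rw [h₁.disjoint.eq_bot, Subgroup.mem_bot] at h2
    exact Subtype.ext (mul_inv_eq_one.1 h2)
  let c : G → K →* K := fun g =>
    { toFun := fun k => ⟨g * k * g⁻¹, (inferInstance : K.Normal).conj_mem (k : G) k.2 g⟩
      map_one' := by ext; simp
      map_mul' := fun x y => by ext; simp [mul_assoc] }
  have hmul : ∀ g h : G, κ (g * h) = κ g * c g (κ h) := by
    intro g h
    refine (huniq _ _ ?_).symm
    have := H₁.mul_mem (hκ g) (hκ h)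
    show (κ g : G) * (g * (κ h : G) * g⁻¹) * (g * h) ∈ H₁
    simpa [mul_assoc] using this
  let Ω := H₀ ⧸ U.subgroupOf H₀
  haveI : Fintype Ω := Fintype.ofFinite _
  have hwd : ∀ (x y : H₀), (QuotientGroup.mk x : Ω) = QuotientGroup.mk y →
      κ (x : G) = κ (y : G) := by
    intro x y he
    have he' : x⁻¹ * y ∈ U.subgroupOf H₀ := (QuotientGroup.eq (s := U.subgroupOf H₀)).1 he
    have hm : (x : G)⁻¹ * y ∈ H₀ ⊓ U := ⟨H₀.mul_mem (H₀.inv_mem x.2) y.2, by
      simpa [Subgroup.mem_subgroupOf] using he'⟩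
    rw [hU] at hm
    have h1 : κ ((x : G)⁻¹ * y) = 1 := (huniq _ 1 (by simpa using hm.1)).symm
    have h2 := hmul (x : G) ((x : G)⁻¹ * y)
    rw [h1, map_one, mul_one, mul_inv_cancel_left] at h2
    exact h2.symm
  let C : K := ∏ q : Ω, κ ((q.out : H₀) : G)
  have hcard : Nat.card Ω = U.index := by
    show (U.subgroupOf H₀).index = U.index
    rw [Subgroup.index, Subgroup.index]
    refine Nat.card_eq_of_bijective
      (Quotient.map' (fun x : H₀ => (x : G)) fun a b hab => ?_) ⟨?_, ?_⟩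
    · rw [QuotientGroup.leftRel_apply] at hab ⊢
      exact hab
    · rintro ⟨x⟩ ⟨y⟩ he
      exact QuotientGroup.eq.2 (Subgroup.mem_subgroupOf.2 (by
        simpa using QuotientGroup.eq.1 (he : (QuotientGroup.mk (x : G) : G ⧸ U) = QuotientGroup.mk (y : G))))
    · rintro ⟨g⟩
      have hmem : g ∈ (H₀ : Set G) * (K : Set G) := by rw [h₀.symm.mul_eq]; trivial
      obtain ⟨x, hx, k, hk, rfl⟩ := hmem
      refine ⟨QuotientGroup.mk ⟨x, hx⟩, QuotientGroup.eq.2 ?_⟩
      simpa using hKU hk
  have hC : ∀ h : H₀, C = κ (h : G) ^ U.index * c (h : G) C := by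
    intro h
    have e : ∀ q : Ω, κ ((((h • q : Ω)).out : H₀) : G) = κ (h : G) * c (h : G) (κ ((q.out : H₀) : G)) := by
      intro q
      rw [hwd (h • q).out (h * q.out) ?_, Subgroup.coe_mul, hmul]
      rw [QuotientGroup.out_eq']
      show h • q = h • (QuotientGroup.mk q.out : Ω)
      rw [QuotientGroup.out_eq']
    calc C = ∏ q : Ω, κ ((((h • q : Ω)).out : H₀) : G) :=
          (Equiv.prod_comp (MulAction.toPerm h) (fun q : Ω => κ ((q.out : H₀) : G))).symm
      _ = _ := by
        rw [Finset.prod_congr rfl fun q _ => e q, Finset.prod_mul_distrib, Finset.prod_const,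
          Finset.card_univ, ← Nat.card_eq_fintype_card, hcard, map_prod]
  obtain ⟨e, he⟩ := (powCoprime hcop).surjective C
  have he' : e ^ U.index = C := he
  have hkey : ∀ h : H₀, κ (h : G) * c (h : G) e = e := by
    intro h
    refine (powCoprime hcop).injective ?_
    show (κ (h : G) * c (h : G) e) ^ U.index = e ^ U.index
    rw [mul_pow, ← map_pow, he', ← hC]
  refine ⟨e, Subgroup.eq_of_le_of_card_ge ?_ ?_⟩
  · rintro _ ⟨h, hh, rfl⟩
    have h1 := congrArg Subtype.val (hkey ⟨h, hh⟩)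
    have h2 : (κ h : G) * h = e * h * (e : G)⁻¹ := by
      rw [eq_mul_inv_iff_mul_eq]
      have h3 : (κ h : G) * (h * (e : G) * h⁻¹) * h = e * h := by
        have h4 : (κ h : G) * (h * (e : G) * h⁻¹) = e := h1
        rw [h4]
      rw [← h3]
      group
    show (e : G) * h * (e : G)⁻¹ ∈ H₁
    rw [← h2]
    exact hκ h
  · have e0 : Nat.card (MulAut.conj (e : G) • H₀ : Subgroup G) = Nat.card H₀ :=
      (Nat.card_congr (Subgroup.equivSMul (MulAut.conj (e : G)) H₀).toEquiv).symm
    rw [e0, ← h₀.symm.index_eq_card, h₁.symm.index_eq_card]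

end Cfsg.Agent.Frobenius
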