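import Cfsg.Agent.Lib.Coprime.Action
import Mathlib.GroupTheory.Perm.Cycle.Type

/-!
# Coprime action on an abelian subgroup: the averaging argument
-/

set_option autoImplicit false
set_option linter.style.haveILetI false

open scoped IsMulCommutative

namespace Cfsg.Agent.Frobenius

variable {G : Type*} [Group G] [Finite G] {A V : Subgroup G} [IsMulCommutative V]

/-- `C_V(A) ∩ [V, A] = 1` for a coprime action on an abelian group. -/
theorem centralizer_inf_commutator_eq_bot (hAV : A ≤ Subgroup.normalizer (V : Set G))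
    (hcop : (Nat.card A).Coprime (Nat.card V)) :
    (V ⊓ Subgroup.centralizer (A : Set G)) ⊓ ⁅V, A⁆ = ⊥ := by
  classical
  haveI := Fintype.ofFinite A
  have hc : ∀ a ∈ A, ∀ v ∈ V, a * v * a⁻¹ ∈ V := fun a ha v hv =>
    (Subgroup.mem_normalizer_iff.1 (hAV ha) v).1 hv
  let c : A → V →* V := fun a =>
    { toFun := fun v => ⟨a * v * (a : G)⁻¹, hc a a.2 v v.2⟩
      map_one' := by ext; simp
      map_mul' := fun x y => by ext; simp [mul_assoc] }
  let f : V →* V :=
    { toFun := fun v => ∏ a : A, c a v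
      map_one' := by simp
      map_mul' := fun x y => by simp [Finset.prod_mul_distrib] }
  have hinv : ∀ (b : A) (v : V), f (c b v) = f v := fun b v => by
    show ∏ a : A, c a (c b v) = ∏ a : A, c a v
    refine Fintype.prod_equiv (Equiv.mulRight b) _ _ fun a => ?_
    apply Subtype.ext
    simp [c, mul_assoc]
  have hle : ⁅V, A⁆ ≤ f.ker.map V.subtype := by
    rw [Subgroup.commutator_le]
    intro v hv a ha
    refine ⟨(⟨v, hv⟩ : V) * c ⟨a, ha⟩ ⟨v⁻¹, inv_mem hv⟩, ?_, ?_⟩
    · rw [SetLike.mem_coe, MonoidHom.mem_ker, map_mul, hinv, ← map_mul]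
      convert map_one f
      ext; simp
    · simp [c, commutatorElement_def, mul_assoc]
  rw [Subgroup.eq_bot_iff_forall]
  rintro x ⟨⟨hxV, hxC⟩, hxc⟩
  obtain ⟨y, hy, hyx⟩ := hle hxc
  subst hyx
  have hfix : ∀ a : A, c a y = y := fun a => by
    apply Subtype.ext
    show (a : G) * y * (a : G)⁻¹ = y
    rw [mul_inv_eq_iff_eq_mul]
    exact Subgroup.mem_centralizer_iff.1 hxC a a.2
  have h1 : y ^ Nat.card A = 1 := by
    rw [← (MonoidHom.mem_ker.1 hy)]
    show _ = ∏ a : A, c a y
    simp [hfix, Finset.card_univ]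
  have h2 : y = 1 :=
    (powCoprime (Nat.Coprime.symm hcop)).injective (show y ^ Nat.card A = 1 ^ Nat.card A by simpa using h1)
  simp [h2]

theorem centralizer_sup_commutator_eq (hAV : A ≤ Subgroup.normalizer (V : Set G))
    (hcop : (Nat.card A).Coprime (Nat.card V)) :
    (V ⊓ Subgroup.centralizer (A : Set G)) ⊔ ⁅V, A⁆ = V := by
  rw [sup_comm]
  refine Cfsg.Agent.Coprime.commutator_sup_centralizer A V hAV hcop (Or.inr ?_)
  exact inferInstance

/-- A coprime action on an abelian group fixing all elements of prime order is trivial. -/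
theorem le_centralizer_of_prime_order (hAV : A ≤ Subgroup.normalizer (V : Set G))
    (hcop : (Nat.card A).Coprime (Nat.card V))
    (hΩ : ∀ v ∈ V, (orderOf v).Prime → ∀ a ∈ A, a * v = v * a) :
    A ≤ Subgroup.centralizer (V : Set G) := by
  have hbot : ⁅V, A⁆ = ⊥ := by
    by_contra hne
    obtain ⟨p, hp, hpd⟩ := Nat.exists_prime_and_dvd
      (fun h => hne (Subgroup.card_eq_one.1 h) : Nat.card (⁅V, A⁆ : Subgroup G) ≠ 1)
    haveI := Fact.mk hp
    obtain ⟨x, hx⟩ := exists_prime_orderOf_dvd_card' (G := (⁅V, A⁆ : Subgroup G)) p hpd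
    rw [← Subgroup.orderOf_coe] at hx
    have hxV : (x : G) ∈ V := Cfsg.Agent.Coprime.commutator_le_of_le_normalizer hAV x.2
    have hmem : (x : G) ∈ (V ⊓ Subgroup.centralizer (A : Set G)) ⊓ ⁅V, A⁆ :=
      ⟨⟨hxV, fun a ha => hΩ x hxV (hx ▸ hp) a ha⟩, x.2⟩
    rw [centralizer_inf_commutator_eq_bot hAV hcop, Subgroup.mem_bot] at hmem
    rw [hmem, orderOf_one] at hx
    exact hp.ne_one hx.symm
  rw [Subgroup.le_centralizer_iff]
  exact Subgroup.commutator_eq_bot_iff_le_centralizer.1 hbot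

end Cfsg.Agent.Frobenius
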