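import Cfsg.Agent.Lib.Frobenius.Involution
import Cfsg.Agent.Lib.Frobenius.CoprimeAbelian
import Cfsg.Agent.S0016

/-!
# Structure of fixed-point-free groups (Frobenius complements)
-/

set_option autoImplicit false
set_option linter.style.haveILetI false

open scoped commutatorElement

namespace Cfsg.Agent.Frobenius

variable {G : Type*} [Group G]

namespace IsFPF

variable {A V : Subgroup G} [Finite G]

/-- A solvable fixed-point-free group leaves a nontrivial abelian subgroup invariant. -/
theorem exists_abelian_of_isSolvable (h : IsFPF A V) (hV : V ≠ ⊥) [Group.IsSolvable A] :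
    ∃ W ≤ V, W ≠ ⊥ ∧ IsMulCommutative W ∧ IsFPF A W := by
  obtain ⟨q, hq, hqd⟩ := Nat.exists_prime_and_dvd
    (fun h1 => hV (Subgroup.card_eq_one.1 h1) : Nat.card V ≠ 1)
  haveI := Fact.mk hq
  obtain ⟨Q, hQA⟩ := Cfsg.Agent.Coprime.exists_invariant_sylow A V h.1 h.coprime (Or.inl ‹_›) q
  set P : Subgroup G := (Q : Subgroup V).map V.subtype with hP
  have hQ1 : (Q : Subgroup V) ≠ ⊥ := Q.ne_bot_of_dvd_card hqd
  haveI : Nontrivial (Q : Subgroup V) := (Subgroup.nontrivial_iff_ne_bot _).2 hQ1
  obtain ⟨z, hz⟩ := Subgroup.ne_bot_iff_exists_ne_one.1 Q.2.bot_lt_center.ne'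
  refine ⟨P ⊓ Subgroup.centralizer (P : Set G), inf_le_left.trans (Subgroup.map_subtype_le _),
    ?_, ?_, h.mono_right (inf_le_left.trans (Subgroup.map_subtype_le _)) ?_⟩
  · intro hbot
    have hmem : (((z : (Q : Subgroup V)) : V) : G) ∈ P ⊓ Subgroup.centralizer (P : Set G) := by
      refine ⟨Subgroup.mem_map_of_mem V.subtype (z : (Q : Subgroup V)).2, ?_⟩
      show _ ∈ Subgroup.centralizer (P : Set G)
      rw [Subgroup.mem_centralizer_iff]
      intro x hx
      obtain ⟨y, hy, rfl⟩ := Subgroup.mem_map.1 hx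
      have := Subgroup.mem_center_iff.1 z.2 ⟨y, hy⟩
      exact congrArg (fun t : (Q : Subgroup V) => ((t : V) : G)) this
    rw [hbot, Subgroup.mem_bot] at hmem
    exact hz (Subtype.ext (Subtype.ext (Subtype.ext hmem)))
  · exact ⟨⟨fun x y => Subtype.ext (Subgroup.mem_centralizer_iff.1 y.2.2 x x.2.1)⟩⟩
  · exact Cfsg.Agent.Coprime.le_normalizer_inf hQA
      (Cfsg.Agent.Coprime.le_normalizer_centralizer hQA)

/-- In a fixed-point-free `p`-group there is only one subgroup of order `p`. -/
theorem eq_of_card_prime (h : IsFPF A V) (hV : V ≠ ⊥) {p : ℕ} [hp : Fact p.Prime]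
    (hA : IsPGroup p A) (X Y : Subgroup A) (hX : Nat.card X = p) (hY : Nat.card Y = p) :
    X = Y := by
  haveI : Nontrivial A := by
    by_contra hn
    rw [not_nontrivial_iff_subsingleton] at hn
    rw [Subsingleton.elim X ⊥, Subgroup.card_bot] at hX
    exact hp.out.ne_one hX.symm
  obtain ⟨z, hz⟩ := exists_prime_orderOf_dvd_card' (G := Subgroup.center A) p (by
    obtain ⟨n, hn⟩ := (hA.to_subgroup (Subgroup.center A)).exists_card_eq
    rw [hn]
    refine dvd_pow_self p fun h0 => ?_
    rw [h0, pow_zero, Subgroup.card_eq_one] at hn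
    exact hA.bot_lt_center.ne' hn)
  rw [← Subgroup.orderOf_coe] at hz
  have key : ∀ Z : Subgroup A, Nat.card Z = p → Z = Subgroup.zpowers (z : A) := by
    intro Z hZ
    refine Subgroup.eq_of_le_of_card_ge (fun x hx => ?_) ?_
    · have hx' : (x : G) ^ p = 1 := by
        rw [← SubgroupClass.coe_pow, ← OneMemClass.coe_one A]
        congr 1
        rw [← hZ]
        exact congrArg Subtype.val (pow_card_eq_one' (x := (⟨x, hx⟩ : Z)))
      have hc : Commute ((z : A) : G) (x : G) :=
        (congrArg Subtype.val (Subgroup.mem_center_iff.1 z.2 x) : _).symm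
      obtain ⟨n, hn⟩ := Subgroup.mem_zpowers_iff.1
        (h.mem_zpowers_of_commute hV (z : A).2 x.2 (by rw [Subgroup.orderOf_coe, hz]) hx' hc)
      exact ⟨n, Subtype.ext (by simpa using hn)⟩
    · rw [Nat.card_zpowers, hz, hZ]
  rw [key X hX, key Y hY]

/-- Sylow subgroups of a fixed-point-free group are cyclic or generalized quaternion. -/
theorem sylow_isCyclic_or_quaternion (h : IsFPF A V) (hV : V ≠ ⊥) {p : ℕ} [hp : Fact p.Prime]
    (P : Sylow p A) :
    IsCyclic P ∨ (p = 2 ∧ ∃ n : ℕ, Nonempty (P ≃* QuaternionGroup (2 ^ n))) := by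
  let e : (P : Subgroup A) ≃* ((P : Subgroup A).map A.subtype) :=
    (P : Subgroup A).equivMapOfInjective _ A.subtype_injective
  have hP : IsPGroup p ((P : Subgroup A).map A.subtype) := P.2.map _
  have hf := h.mono_left (Subgroup.map_subtype_le (P : Subgroup A))
  rcases S0016.result (G := ((P : Subgroup A).map A.subtype)) p hP
    (hf.eq_of_card_prime hV hP) with hc | ⟨h2, n, ⟨f⟩⟩
  · exact Or.inl (isCyclic_of_surjective e.symm e.symm.surjective)
  · exact Or.inr ⟨h2, n, ⟨e.trans f⟩⟩

/-- Elements of distinct prime orders `p`, `q`, the first normalised by the second, commute. -/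
theorem commute_of_prime_orders (h : IsFPF A V) (hV : V ≠ ⊥) {p q : ℕ} (hp : p.Prime)
    (hq : q.Prime) (hpq : p ≠ q) {a b : G} (ha : a ∈ A) (hb : b ∈ A) (hao : orderOf a = p)
    (hbo : orderOf b = q) (hn : b * a * b⁻¹ ∈ Subgroup.zpowers a) : Commute a b := by
  have hbN : b ∈ Subgroup.normalizer (Subgroup.zpowers a : Set G) := by
    rw [Subgroup.mem_normalizer_iff_map_conj_eq]
    refine Subgroup.eq_of_le_of_card_ge ?_ (Subgroup.card_map_of_injective
      (MulAut.conj b).injective).ge
    rw [MonoidHom.map_zpowers]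
    exact Subgroup.zpowers_le.2 hn
  set B : Subgroup G := Subgroup.zpowers a ⊔ Subgroup.zpowers b with hB
  have hBA : B ≤ A := sup_le (Subgroup.zpowers_le.2 ha) (Subgroup.zpowers_le.2 hb)
  have hle : Subgroup.zpowers b ≤ Subgroup.normalizer (Subgroup.zpowers a : Set G) :=
    Subgroup.zpowers_le.2 hbN
  have hdisj : Subgroup.zpowers a ⊓ Subgroup.zpowers b = ⊥ :=
    Subgroup.inf_eq_bot_of_coprime (by
      rw [Nat.card_zpowers, Nat.card_zpowers, hao, hbo]; exact (Nat.coprime_primes hp hq).2 hpq)
  have hcard : Nat.card B = p * q := by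
    rw [← hao, ← hbo, ← Nat.card_zpowers, ← Nat.card_zpowers, ← Nat.card_prod]
    refine (Nat.card_eq_of_bijective (fun xy : Subgroup.zpowers a × Subgroup.zpowers b =>
      (⟨(xy.1 : G) * xy.2, Subgroup.mul_mem_sup xy.1.2 xy.2.2⟩ : B)) ⟨?_, ?_⟩).symm
    · rintro ⟨x, y⟩ ⟨x', y'⟩ he
      exact Subgroup.mul_injective_of_disjoint (disjoint_iff.2 hdisj)
        (show (x : G) * y = x' * y' from congrArg Subtype.val he)
    · rintro ⟨z, hz⟩
      have hz' : z ∈ ((Subgroup.zpowers a ⊔ Subgroup.zpowers b : Subgroup G) : Set G) := hz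
      rw [Subgroup.coe_mul_of_right_le_normalizer_left _ _ hle] at hz'
      obtain ⟨x, hx, y, hy, rfl⟩ := hz'
      exact ⟨(⟨x, hx⟩, ⟨y, hy⟩), rfl⟩
  have hf := h.mono_left hBA
  haveI : Group.IsSolvable B := by
    haveI : Fact p.Prime := ⟨hp⟩
    haveI : Fact q.Prime := ⟨hq⟩
    haveI : IsZGroup B := IsZGroup.of_squarefree (by
      rw [hcard, Nat.squarefree_mul_iff]
      exact ⟨(Nat.coprime_primes hp hq).2 hpq, hp.prime.squarefree, hq.prime.squarefree⟩)
    infer_instance
  obtain ⟨W, -, hW, hWc, hWf⟩ := hf.exists_abelian_of_isSolvable hV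
  haveI := hWf.isCyclic_of_card_eq_prime_mul_prime hW hp hq hcard
  exact congrArg Subtype.val (mul_comm'
    (⟨a, Subgroup.mem_sup_left (Subgroup.mem_zpowers a)⟩ : B)
    ⟨b, Subgroup.mem_sup_right (Subgroup.mem_zpowers b)⟩)

/-- A nontrivial fixed-point-free group has nontrivial centre. -/
theorem center_ne_bot (h : IsFPF A V) (hV : V ≠ ⊥) (hA : A ≠ ⊥) :
    Subgroup.center A ≠ ⊥ := by
  by_cases heven : 2 ∣ Nat.card A
  · obtain ⟨⟨s, hsA, hs, huniq, -⟩, -⟩ := h.unique_involution hV heven
    intro h0
    have hmem : (⟨s, hsA⟩ : A) ∈ Subgroup.center A := by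
      rw [Subgroup.mem_center_iff]
      intro g
      apply Subtype.ext
      have := huniq ((g : G) * s * (g : G)⁻¹) (mul_mem (mul_mem g.2 hsA) (inv_mem g.2))
        (by rw [← hs]; exact orderOf_injective (MulAut.conj (g : G)).toMonoidHom (MulAut.conj (g : G)).injective s)
      exact mul_inv_eq_iff_eq_mul.1 this
    rw [h0, Subgroup.mem_bot] at hmem
    rw [show s = 1 from congrArg Subtype.val hmem, orderOf_one] at hs
    omega
  haveI : IsZGroup A := ⟨fun p hp P => by
    haveI := Fact.mk hp
    rcases h.sylow_isCyclic_or_quaternion hV P with hc | ⟨rfl, -⟩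
    · exact hc
    · have : (P : Subgroup A) = ⊥ := Subgroup.card_eq_one.1 (by
        obtain ⟨n, hn⟩ := P.2.exists_card_eq
        rcases n with _ | n
        · simpa using hn
        · exact absurd ((hn ▸ dvd_pow_self 2 n.succ_ne_zero).trans
            (Subgroup.card_subgroup_dvd_card _)) heven)
      exact this ▸ inferInstance⟩
  haveI : Nontrivial A := (Subgroup.nontrivial_iff_ne_bot A).2 hA
  haveI : IsCyclic (commutator A) := IsZGroup.isCyclic_commutator A
  have hcop := IsZGroup.coprime_commutator_index (G := A)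
  obtain ⟨B, hB⟩ := Subgroup.exists_right_complement'_of_coprime (N := commutator A) hcop
  have hBcard : Nat.card B = (commutator A).index := hB.symm.index_eq_card.symm
  have hBcomm : ∀ x ∈ B, ∀ y ∈ B, x * y = y * x := by
    intro x hx y hy
    have h1 : ⁅x, y⁆ ∈ commutator A ⊓ B :=
      ⟨Subgroup.commutator_mem_commutator (Subgroup.mem_top x) (Subgroup.mem_top y),
        B.mul_mem (B.mul_mem (B.mul_mem hx hy) (B.inv_mem hx)) (B.inv_mem hy)⟩
    rw [hB.disjoint.eq_bot, Subgroup.mem_bot] at h1
    exact commutatorElement_eq_one_iff_mul_comm.1 h1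
  obtain ⟨q, hq, hqd⟩ := Nat.exists_prime_and_dvd
    (fun h1 => (IsZGroup.commutator_lt (G := A)).ne (Subgroup.index_eq_one.1 (hBcard ▸ h1)) :
      Nat.card B ≠ 1)
  haveI := Fact.mk hq
  obtain ⟨b, hb⟩ := exists_prime_orderOf_dvd_card' (G := B) q hqd
  rw [← Subgroup.orderOf_coe] at hb
  haveI : IsMulCommutative (commutator A) := inferInstance
  have hbcop : (Nat.card (Subgroup.zpowers (b : A))).Coprime (Nat.card (commutator A)) := by
    rw [Nat.card_zpowers, hb]
    exact (hcop.coprime_dvd_right (hBcard ▸ hqd)).symm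
  have hcent : Subgroup.zpowers (b : A) ≤ Subgroup.centralizer (commutator A : Set A) := by
    refine Cfsg.Agent.Frobenius.le_centralizer_of_prime_order ?_ hbcop ?_
    · rw [Subgroup.normalizer_eq_top]; exact le_top
    intro v hv hvp x hx
    obtain ⟨n, rfl⟩ := Subgroup.mem_zpowers_iff.1 hx
    have hne : orderOf v ≠ q := fun e => by
      have hd : q ∣ Nat.card (commutator A) := e ▸ Subgroup.orderOf_dvd_natCard _ hv
      rw [Nat.card_zpowers, hb] at hbcop
      exact hq.ne_one (Nat.eq_one_of_dvd_coprimes hbcop dvd_rfl hd)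
    have hconj : (b : A) * v * (b : A)⁻¹ ∈ Subgroup.zpowers v := by
      have h1 : (b : A) * v * (b : A)⁻¹ ∈ commutator A :=
        (inferInstance : (commutator A).Normal).conj_mem v hv _
      have h2 : (⟨_, h1⟩ : commutator A) ∈ Subgroup.zpowers (⟨v, hv⟩ : commutator A) := by
        classical
        by_contra hnot
        set w : commutator A := ⟨_, h1⟩
        set u : commutator A := ⟨v, hv⟩
        haveI := Fintype.ofFinite (commutator A)
        have hu : orderOf u = orderOf v := Subgroup.orderOf_mk _ _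
        have hw : w ^ orderOf v = 1 := by
          apply Subtype.ext
          show ((b : A) * v * (b : A)⁻¹) ^ orderOf v = 1
          rw [conj_pow, pow_orderOf_eq_one]
          group
        have hle := IsCyclic.card_pow_eq_one_le (α := commutator A) (orderOf_pos v)
        have hsub : insert w (Finset.univ.filter (fun x : commutator A => x ∈ Subgroup.zpowers u))
            ⊆ Finset.univ.filter (fun x : commutator A => x ^ orderOf v = 1) := by
          intro x hx
          simp only [Finset.mem_insert, Finset.mem_filter, Finset.mem_univ, true_and] at hx ⊢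
          rcases hx with rfl | hx
          · exact hw
          · obtain ⟨k, rfl⟩ := Subgroup.mem_zpowers_iff.1 hx
            rw [← zpow_natCast, ← zpow_mul, mul_comm, zpow_mul, zpow_natCast, ← hu,
              pow_orderOf_eq_one, one_zpow]
        have := (Finset.card_le_card hsub).trans hle
        rw [Finset.card_insert_of_notMem (by simpa using hnot), ← Fintype.card_subtype,
          ← Nat.card_eq_fintype_card, Nat.card_zpowers, hu] at this
        omega
      obtain ⟨m, hm⟩ := Subgroup.mem_zpowers_iff.1 h2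
      exact ⟨m, congrArg Subtype.val hm⟩
    obtain ⟨m, hm⟩ := hconj
    have hc : Commute ((v : A) : G) ((b : A) : G) :=
      h.commute_of_prime_orders hV hvp hq hne v.2 (b : A).2 (by rw [Subgroup.orderOf_coe])
        (by rw [Subgroup.orderOf_coe, hb]) ⟨m, by simpa using congrArg Subtype.val hm⟩
    exact ((show Commute (v : A) (b : A) from Subtype.ext hc).zpow_right n).eq.symm
  intro h0
  have hmem : (b : A) ∈ Subgroup.center A := by
    rw [Subgroup.mem_center_iff]
    intro g
    have hg : g ∈ ((commutator A ⊔ B : Subgroup A) : Set A) := by rw [hB.sup_eq_top]; trivial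
    have hle : commutator A ⊔ B ≤ Subgroup.centralizer {(b : A)} := by
      refine sup_le (fun x hx => ?_) fun x hx => ?_
      · rw [Subgroup.mem_centralizer_singleton_iff]
        exact Subgroup.mem_centralizer_iff.1 (hcent (Subgroup.mem_zpowers _)) x hx
      · rw [Subgroup.mem_centralizer_singleton_iff]
        exact hBcomm x hx b b.2
    exact Subgroup.mem_centralizer_singleton_iff.1 (hle hg)
  rw [h0, Subgroup.mem_bot] at hmem
  rw [hmem, orderOf_one] at hb
  exact hq.ne_one hb.symm

end IsFPF

end Cfsg.Agent.Frobenius
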