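import Cfsg.Prelude.Def_Solvable
import Mathlib.GroupTheory.Complement
import Mathlib.GroupTheory.Index
import Mathlib.GroupTheory.Subgroup.Centralizer
import Mathlib.GroupTheory.GroupAction.Quotient
import Mathlib.Data.Set.Card

/-!
# Frobenius complements and kernels: elementary theory
-/

set_option autoImplicit false

open scoped Pointwise

namespace Cfsg.Agent.Frobenius

variable {G : Type*} [Group G] {H : Subgroup G}

theorem mem_conj_smul {g x : G} : x ∈ MulAut.conj g • H ↔ g⁻¹ * x * g ∈ H := by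
  rw [Subgroup.mem_pointwise_smul_iff_inv_smul_mem, MulAut.smul_def, MulAut.conj_inv_apply]

theorem conj_mem_conj_smul {g x : G} (hx : x ∈ H) : g * x * g⁻¹ ∈ MulAut.conj g • H := by
  rw [mem_conj_smul]
  simpa [mul_assoc] using hx

theorem conj_smul_conj_smul (a b : G) (K : Subgroup G) :
    MulAut.conj a • MulAut.conj b • K = MulAut.conj (a * b) • K := by
  rw [map_mul, mul_smul]

theorem conj_smul_eq_of_mem {g : G} (hg : g ∈ H) : MulAut.conj g • H = H :=
  Subgroup.conj_smul_eq_self_of_mem hg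

/-- The defining property: if `x` and `g⁻¹ x g` both lie in `H` and `x ≠ 1`, then `g ∈ H`. -/
theorem mem_of_conj_mem (hH : IsFrobeniusComplement H) {g x : G} (hx1 : x ≠ 1) (hx : x ∈ H)
    (hx' : g⁻¹ * x * g ∈ H) : g ∈ H := by
  by_contra hg
  have h := hH.2.2 g hg
  have : x ∈ H ⊓ MulAut.conj g • H := ⟨hx, mem_conj_smul.2 hx'⟩
  rw [h] at this
  exact hx1 (Subgroup.mem_bot.1 this)

theorem mem_of_mul_mem (hH : IsFrobeniusComplement H) {g x : G} (hx1 : x ≠ 1) (hx : x ∈ H)
    (hx' : g * x * g⁻¹ ∈ H) : g ∈ H :=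
  inv_mem_iff.1 (mem_of_conj_mem hH hx1 hx (by simpa using hx'))

theorem mem_of_commute (hH : IsFrobeniusComplement H) {g x : G} (hx1 : x ≠ 1) (hx : x ∈ H)
    (hc : x * g = g * x) : g ∈ H :=
  mem_of_conj_mem hH hx1 hx (by rw [mul_assoc, hc]; simpa using hx)

theorem centralizer_le (hH : IsFrobeniusComplement H) {x : G} (hx1 : x ≠ 1) (hx : x ∈ H) :
    Subgroup.centralizer {x} ≤ H := fun g hg =>
  mem_of_commute hH hx1 hx (Subgroup.mem_centralizer_iff.1 hg x (Set.mem_singleton x))

theorem exists_ne_one_mem (hH : IsFrobeniusComplement H) : ∃ x ∈ H, x ≠ 1 :=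
  H.ne_bot_iff_exists_ne_one.1 hH.1 |>.elim fun x hx => ⟨x, x.2, by simpa using hx⟩

theorem normalizer_eq (hH : IsFrobeniusComplement H) : Subgroup.normalizer (H : Set G) = H := by
  refine le_antisymm (fun g hg => ?_) Subgroup.le_normalizer
  obtain ⟨x, hx, hx1⟩ := exists_ne_one_mem hH
  exact mem_of_mul_mem hH hx1 hx ((Subgroup.mem_normalizer_iff.1 hg x).1 hx)

/-- Two conjugates of `H` sharing a nonidentity element are given by the same coset. -/
theorem inv_mul_mem_of_mem_conj (hH : IsFrobeniusComplement H) {g g' x : G} (hx1 : x ≠ 1)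
    (hx : x ∈ MulAut.conj g • H) (hx' : x ∈ MulAut.conj g' • H) : g⁻¹ * g' ∈ H := by
  rw [mem_conj_smul] at hx hx'
  refine mem_of_conj_mem hH ?_ hx ?_
  · simpa [mul_eq_one_iff_eq_inv, inv_mul_eq_one] using hx1
  · simpa [mul_assoc] using hx'

theorem conj_smul_eq_of_inv_mul_mem {g g' : G} (h : g⁻¹ * g' ∈ H) :
    MulAut.conj g' • H = MulAut.conj g • H := by
  conv_lhs => rw [show g' = g * (g⁻¹ * g') by group, map_mul, mul_smul, conj_smul_eq_of_mem h]

theorem conj_eq_of_mem_conj (hH : IsFrobeniusComplement H) {g g' x : G} (hx1 : x ≠ 1)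
    (hx : x ∈ MulAut.conj g • H) (hx' : x ∈ MulAut.conj g' • H) :
    MulAut.conj g' • H = MulAut.conj g • H :=
  conj_smul_eq_of_inv_mul_mem (inv_mul_mem_of_mem_conj hH hx1 hx hx')

theorem isFrobeniusComplement_conj (hH : IsFrobeniusComplement H) (a : G) :
    IsFrobeniusComplement (MulAut.conj a • H) := by
  refine ⟨?_, ?_, ?_⟩
  · obtain ⟨x, hx, hx1⟩ := exists_ne_one_mem hH
    intro h
    have := conj_mem_conj_smul (g := a) hx
    rw [h, Subgroup.mem_bot] at this
    exact hx1 (by simpa using this)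
  · intro h
    refine hH.2.1 (Subgroup.eq_top_iff' H |>.2 fun y => ?_)
    have : a * y * a⁻¹ ∈ MulAut.conj a • H := h ▸ Subgroup.mem_top _
    simpa [mem_conj_smul, mul_assoc] using this
  · intro g hg
    rw [Subgroup.eq_bot_iff_forall]
    rintro x ⟨hx, hx'⟩
    by_contra hx1
    change x ∈ MulAut.conj a • H at hx
    change x ∈ MulAut.conj g • MulAut.conj a • H at hx'
    rw [conj_smul_conj_smul] at hx'
    have := inv_mul_mem_of_mem_conj hH hx1 hx hx'
    exact hg (by rw [mem_conj_smul]; simpa [mul_assoc] using this)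

/-- A Frobenius complement induces one in every subgroup that meets it nontrivially and is not
contained in it. -/
theorem isFrobeniusComplement_subgroupOf (hH : IsFrobeniusComplement H) {L : Subgroup G}
    (h1 : H ⊓ L ≠ ⊥) (h2 : ¬ L ≤ H) : IsFrobeniusComplement (H.subgroupOf L) := by
  refine ⟨?_, ?_, ?_⟩
  · intro h
    refine h1 ?_
    rw [Subgroup.subgroupOf_eq_bot] at h
    exact h.eq_bot
  · intro h
    exact h2 (Subgroup.subgroupOf_eq_top.1 h)
  · intro g hg
    rw [Subgroup.eq_bot_iff_forall]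
    rintro x ⟨hx, hx'⟩
    by_contra hx1
    change x ∈ MulAut.conj g • H.subgroupOf L at hx'
    rw [mem_conj_smul, Subgroup.mem_subgroupOf] at hx'
    change x ∈ H.subgroupOf L at hx
    rw [Subgroup.mem_subgroupOf] at hx
    exact hg (Subgroup.mem_subgroupOf.2
      (mem_of_conj_mem hH (x := (x : G)) (by simpa using hx1) hx (by simpa using hx')))

/-! ### The Frobenius kernel -/

theorem mem_frobeniusKernel_iff {x : G} :
    x ∈ frobeniusKernel H ↔ x = 1 ∨ ∀ g : G, g⁻¹ * x * g ∉ H := by
  simp only [frobeniusKernel, Set.mem_setOf_eq, mem_conj_smul]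

theorem one_mem_frobeniusKernel : (1 : G) ∈ frobeniusKernel H := Or.inl rfl

theorem eq_one_of_mem_frobeniusKernel_of_mem_conj {x g : G} (hk : x ∈ frobeniusKernel H)
    (hx : x ∈ MulAut.conj g • H) : x = 1 :=
  hk.elim id fun h => absurd hx (h g)

theorem eq_one_of_mem_frobeniusKernel_of_mem {x : G} (hk : x ∈ frobeniusKernel H)
    (hx : x ∈ H) : x = 1 :=
  eq_one_of_mem_frobeniusKernel_of_mem_conj (g := 1) hk (by simpa [mem_conj_smul] using hx)

theorem exists_conj_of_not_mem_frobeniusKernel {x : G} (hk : x ∉ frobeniusKernel H) :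
    x ≠ 1 ∧ ∃ g : G, x ∈ MulAut.conj g • H := by
  simp only [frobeniusKernel, Set.mem_setOf_eq, not_or, not_forall, not_not] at hk
  exact hk

theorem inv_mem_frobeniusKernel {x : G} (hk : x ∈ frobeniusKernel H) :
    x⁻¹ ∈ frobeniusKernel H := by
  rcases hk with h | h
  · left; simp [h]
  · right; intro g hg; exact h g (inv_mem_iff.1 hg)

theorem conj_mem_frobeniusKernel {x : G} (hk : x ∈ frobeniusKernel H) (a : G) :
    a * x * a⁻¹ ∈ frobeniusKernel H := by
  rcases hk with h | h
  · left; simp [h]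
  · right
    intro g hg
    refine h (a⁻¹ * g) ?_
    rw [mem_conj_smul] at hg ⊢
    simpa [mul_assoc] using hg

/-- A nonidentity element commuting with a nonidentity kernel element lies in the kernel. -/
theorem mem_frobeniusKernel_of_commute (hH : IsFrobeniusComplement H) {x y : G}
    (hx : x ∈ frobeniusKernel H) (hx1 : x ≠ 1) (hc : x * y = y * x) :
    y ∈ frobeniusKernel H := by
  by_contra hy
  obtain ⟨hy1, g, hg⟩ := exists_conj_of_not_mem_frobeniusKernel hy
  have h1 := mem_of_commute (isFrobeniusComplement_conj hH g) hy1 hg hc.symm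
  exact hx1 (eq_one_of_mem_frobeniusKernel_of_mem_conj hx h1)

section Finite

variable [Finite G]

/-- The nonidentity elements of conjugates of `H` are parametrised by pairs of a coset and a
nonidentity element of `H`. -/
theorem ncard_compl_frobeniusKernel (hH : IsFrobeniusComplement H) :
    (frobeniusKernel H)ᶜ.ncard = H.index * (Nat.card H - 1) := by
  classical
  let f : (G ⧸ H) × {h : H // h ≠ 1} → ↥((frobeniusKernel H)ᶜ) := fun qh =>
    ⟨qh.1.out * (qh.2.1 : G) * qh.1.out⁻¹, fun hk => qh.2.2 (by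
      have h := eq_one_of_mem_frobeniusKernel_of_mem_conj hk
        (conj_mem_conj_smul (g := qh.1.out) qh.2.1.2)
      simpa using h)⟩
  have hf : Function.Bijective f := by
    constructor
    · rintro ⟨q, h, hh⟩ ⟨q', h', hh'⟩ he
      have he' : q.out * (h : G) * q.out⁻¹ = q'.out * (h' : G) * q'.out⁻¹ :=
        congrArg Subtype.val he
      have hne : q.out * (h : G) * q.out⁻¹ ≠ 1 := by
        simpa [mul_inv_eq_one] using hh
      have hm := inv_mul_mem_of_mem_conj hH hne (conj_mem_conj_smul h.2)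
        (he' ▸ conj_mem_conj_smul h'.2)
      have hq : q = q' := by
        rw [← q.out_eq', ← q'.out_eq']
        exact QuotientGroup.eq.2 hm
      subst hq
      simp only [mul_left_inj, mul_right_inj, SetLike.coe_eq_coe] at he'
      subst he'
      rfl
    · rintro ⟨x, hx⟩
      obtain ⟨hx1, g, hg⟩ := exists_conj_of_not_mem_frobeniusKernel hx
      set q : G ⧸ H := QuotientGroup.mk g with hq
      have hm : g⁻¹ * q.out ∈ H := QuotientGroup.eq.1 (QuotientGroup.out_eq' q).symm
      rw [← conj_smul_eq_of_inv_mul_mem hm, mem_conj_smul] at hg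
      refine ⟨(q, ⟨⟨q.out⁻¹ * x * q.out, hg⟩, ?_⟩), ?_⟩
      · simpa [Subtype.ext_iff, mul_eq_one_iff_eq_inv, inv_mul_eq_one] using hx1
      · simp [f, mul_assoc]
  have e := Nat.card_congr (Equiv.ofBijective f hf)
  rw [Nat.card_prod, Nat.card_coe_set_eq, Subgroup.index] at *
  rw [← e]
  congr 1
  haveI := Fintype.ofFinite H
  rw [Nat.card_eq_fintype_card, Nat.card_eq_fintype_card, Fintype.card_subtype_compl,
    Fintype.card_subtype_eq]

theorem ncard_frobeniusKernel (hH : IsFrobeniusComplement H) :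
    (frobeniusKernel H).ncard = H.index := by
  have h1 := Set.ncard_add_ncard_compl (frobeniusKernel H)
  rw [ncard_compl_frobeniusKernel hH, ← H.index_mul_card] at h1
  have h2 : Nat.card H ≠ 0 := Nat.card_pos.ne'
  obtain ⟨n, hn⟩ := Nat.exists_eq_succ_of_ne_zero h2
  rw [hn, Nat.succ_eq_add_one, Nat.add_sub_cancel, Nat.mul_succ] at h1
  omega

theorem card_frobeniusKernel (hH : IsFrobeniusComplement H) :
    Nat.card (frobeniusKernel H) = H.index := by
  rw [Nat.card_coe_set_eq, ncard_frobeniusKernel hH]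

theorem card_dvd_index_sub_one (hH : IsFrobeniusComplement H) :
    Nat.card H ∣ H.index - 1 := by
  classical
  haveI := Fintype.ofFinite H
  haveI := Fintype.ofFinite (G ⧸ H)
  haveI : Fintype (Quotient (MulAction.orbitRel H (G ⧸ H))) := Fintype.ofFinite _
  have hb := MulAction.sum_card_fixedBy_eq_card_orbits_mul_card_group H (G ⧸ H)
  have h1 : Fintype.card (MulAction.fixedBy (G ⧸ H) (1 : H)) = H.index := by
    rw [Subgroup.index, Nat.card_eq_fintype_card]
    exact Fintype.card_congr (Equiv.subtypeUnivEquiv fun q => by simp)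
  have h2 : ∀ h : H, h ≠ 1 → Fintype.card (MulAction.fixedBy (G ⧸ H) h) = 1 := by
    intro h hh
    refine Fintype.card_eq_one_iff.2 ⟨⟨QuotientGroup.mk 1, ?_⟩, ?_⟩
    · rw [MulAction.mem_fixedBy]
      show QuotientGroup.mk ((h : G) * 1) = QuotientGroup.mk 1
      rw [QuotientGroup.eq]
      simp
    · rintro ⟨q, hq⟩
      obtain ⟨g, rfl⟩ := QuotientGroup.mk_surjective q
      refine Subtype.ext ?_
      rw [MulAction.mem_fixedBy] at hq
      replace hq : QuotientGroup.mk ((h : G) * g) = (QuotientGroup.mk g : G ⧸ H) := hq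
      rw [QuotientGroup.eq] at hq
      have hg : g ∈ H := mem_of_conj_mem hH (x := (h : G)⁻¹) (by simpa using hh) (inv_mem h.2)
        (by simpa [mul_assoc] using hq)
      exact QuotientGroup.eq.2 (by simpa using hg)
  rw [← Finset.add_sum_erase _ _ (Finset.mem_univ (1 : H)), h1,
    Finset.sum_congr rfl fun h hh => h2 h (Finset.ne_of_mem_erase hh), Finset.sum_const,
    Finset.card_erase_of_mem (Finset.mem_univ _), Finset.card_univ, smul_eq_mul, mul_one] at hb
  rw [Nat.card_eq_fintype_card]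
  have hpos : 0 < H.index := Nat.pos_of_ne_zero (Subgroup.index_ne_zero_of_finite)
  have hcard : 0 < Fintype.card H := Fintype.card_pos
  refine ⟨Fintype.card (Quotient (MulAction.orbitRel H (G ⧸ H))) - 1, ?_⟩
  rw [Nat.mul_sub, mul_one, mul_comm]
  omega

theorem index_mod_card (hH : IsFrobeniusComplement H) :
    H.index % Nat.card H = 1 % Nat.card H := by
  have hpos : 0 < H.index := Nat.pos_of_ne_zero (Subgroup.index_ne_zero_of_finite)
  exact ((Nat.modEq_iff_dvd' hpos).2 (card_dvd_index_sub_one hH)).symm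

theorem coprime_card_index (hH : IsFrobeniusComplement H) :
    (Nat.card H).Coprime H.index := by
  have hpos : 0 < H.index := Nat.pos_of_ne_zero (Subgroup.index_ne_zero_of_finite)
  obtain ⟨k, hk⟩ := card_dvd_index_sub_one hH
  have : H.index = Nat.card H * k + 1 := by omega
  rw [this]
  simp

theorem two_le_card (hH : IsFrobeniusComplement H) : 2 ≤ Nat.card H := by
  have := (Subgroup.one_lt_card_iff_ne_bot H).2 hH.1
  omega

theorem two_le_index (hH : IsFrobeniusComplement H) : 2 ≤ H.index := by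
  have h1 : H.index ≠ 1 := fun h => hH.2.1 (Subgroup.index_eq_one.1 h)
  have h2 : H.index ≠ 0 := Subgroup.index_ne_zero_of_finite
  omega

theorem exists_ne_one_mem_frobeniusKernel (hH : IsFrobeniusComplement H) :
    ∃ x ∈ frobeniusKernel H, x ≠ 1 :=
  Set.exists_ne_of_one_lt_ncard (by rw [ncard_frobeniusKernel hH]; exact two_le_index hH) 1

end Finite

/-! ### Complements of normal subgroups acting without fixed points -/

section Semidirect

variable {K : Subgroup G} [K.Normal]

theorem isFrobeniusComplement_of_fixedPointFree (hc : Subgroup.IsComplement' K H) (hK : K ≠ ⊥)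
    (hH : H ≠ ⊥) (hfpf : ∀ h ∈ H, h ≠ 1 → K ⊓ Subgroup.centralizer {h} = ⊥) :
    IsFrobeniusComplement H := by
  refine ⟨hH, ?_, ?_⟩
  · intro h
    exact hK (disjoint_top.1 (h ▸ hc.disjoint))
  · intro g hg
    rw [Subgroup.eq_bot_iff_forall]
    rintro x ⟨hx, hx'⟩
    change x ∈ MulAut.conj g • H at hx'
    by_contra hx1
    change x ∈ H at hx
    obtain ⟨k, hk, h, hh, rfl⟩ : ∃ k ∈ K, ∃ h ∈ H, g = k * h := by
      have : g ∈ (K : Set G) * (H : Set G) := by rw [hc.mul_eq]; exact Set.mem_univ g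
      obtain ⟨k, hk, h, hh, e⟩ := this
      exact ⟨k, hk, h, hh, e.symm⟩
    have hkH : MulAut.conj (k * h) • H = MulAut.conj k • H := by
      rw [map_mul, mul_smul, conj_smul_eq_of_mem hh]
    rw [hkH, mem_conj_smul] at hx'
    have hy : x⁻¹ * (k⁻¹ * x * k) ∈ K := by
      have h1 : x⁻¹ * k⁻¹ * x⁻¹⁻¹ ∈ K := Subgroup.Normal.conj_mem ‹_› _ (inv_mem hk) _
      have h2 := mul_mem h1 hk
      simpa [mul_assoc] using h2
    have hy' : x⁻¹ * (k⁻¹ * x * k) ∈ H := mul_mem (inv_mem hx) hx'
    have hxy : x⁻¹ * (k⁻¹ * x * k) = 1 := Subgroup.mem_bot.1 (hc.disjoint.le_bot ⟨hy, hy'⟩)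
    have hcomm : k ∈ Subgroup.centralizer {x} := by
      rw [Subgroup.mem_centralizer_singleton_iff]
      rw [inv_mul_eq_one] at hxy
      conv_lhs => rw [hxy]
      group
    have hk1 : k = 1 := Subgroup.mem_bot.1 (hfpf x hx hx1 ▸ Subgroup.mem_inf.2 ⟨hk, hcomm⟩)
    exact hg (by simpa [hk1] using hh)

theorem fixedPointFree_of_isFrobeniusComplement (hc : Subgroup.IsComplement' K H)
    (hH : IsFrobeniusComplement H) :
    ∀ h ∈ H, h ≠ 1 → K ⊓ Subgroup.centralizer {h} = ⊥ := fun _ hh hh1 => by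
  rw [Subgroup.eq_bot_iff_forall]
  rintro k ⟨hk, hkc⟩
  exact Subgroup.mem_bot.1 (hc.disjoint.le_bot ⟨hk, centralizer_le hH hh1 hh hkc⟩)

theorem coe_eq_frobeniusKernel [Finite G] (hc : Subgroup.IsComplement' K H)
    (hH : IsFrobeniusComplement H) : (K : Set G) = frobeniusKernel H := by
  refine Set.eq_of_subset_of_ncard_le (fun k hk => ?_) ?_
  · rw [mem_frobeniusKernel_iff]
    by_cases hk1 : k = 1
    · exact Or.inl hk1
    · refine Or.inr fun g hg => hk1 ?_
      have h1 : g⁻¹ * k * g⁻¹⁻¹ ∈ K := Subgroup.Normal.conj_mem ‹_› _ hk _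
      rw [inv_inv] at h1
      have h2 : g⁻¹ * k * g = 1 := Subgroup.mem_bot.1 (hc.disjoint.le_bot ⟨h1, hg⟩)
      simpa [mul_eq_one_iff_eq_inv, inv_mul_eq_one] using h2
  · rw [ncard_frobeniusKernel hH, hc.index_eq_card, ← Nat.card_coe_set_eq]
    exact le_of_eq rfl

end Semidirect

end Cfsg.Agent.Frobenius
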