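import Cfsg.Prelude.Def_Transfer
import Cfsg.Agent.S0031
import Cfsg.Agent.Lib.Transfer.Residual
import Cfsg.Agent.Lib.Transfer.Hall
import Mathlib.GroupTheory.Solvable
import Mathlib.Data.Set.Finite.Lemmas

/-!
# Fixed-point-free automorphisms of prime order

The solvable case of Thompson's theorem and the reduction of the general case to a normal
`p`-complement criterion.
-/

set_option autoImplicit false
set_option linter.style.haveILetI false

open scoped IsMulCommutative

namespace Cfsg.Agent.Frobenius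

universe u

variable {G : Type u} [Group G]

theorem map_eq_of_apply_mem [Finite G] (φ : G ≃* G) {H : Subgroup G} (h : ∀ x ∈ H, φ x ∈ H) :
    H.map (φ : G →* G) = H :=
  Subgroup.eq_of_le_of_card_ge (Subgroup.map_le_iff_le_comap.2 h)
    (Subgroup.card_map_of_injective (f := (φ : G →* G)) φ.injective).ge

theorem apply_mem_of_map_eq (φ : G ≃* G) {H : Subgroup G} (h : H.map (φ : G →* G) = H) {x : G}
    (hx : x ∈ H) : φ x ∈ H := by
  have := Subgroup.mem_map_of_mem (φ : G →* G) hx
  rwa [h] at this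

/-- The restriction of an automorphism to an invariant subgroup. -/
noncomputable def restrictAut (φ : G ≃* G) (H : Subgroup G) (h : H.map (φ : G →* G) = H) :
    H ≃* H :=
  (φ.subgroupMap H).trans (MulEquiv.subgroupCongr h)

theorem restrictAut_apply (φ : G ≃* G) (H : Subgroup G) (h : H.map (φ : G →* G) = H) (x : H) :
    ((restrictAut φ H h x : H) : G) = φ x := rfl

theorem fixedPointFree_restrictAut {φ : G ≃* G} (hφ : ∀ g, φ g = g → g = 1) (H : Subgroup G)
    (h : H.map (φ : G →* G) = H) (x : H) (hx : restrictAut φ H h x = x) : x = 1 :=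
  Subtype.ext (hφ x (congrArg Subtype.val hx))

theorem pow_apply_eq_iterate (φ : G ≃* G) (n : ℕ) (x : G) : (φ ^ n) x = φ^[n] x := by
  induction n generalizing x with
  | zero => simp
  | succ n ih => rw [pow_succ, MulAut.mul_apply, Function.iterate_succ_apply, ih]

theorem restrictAut_pow_eq_one {φ : G ≃* G} {r : ℕ} (hr : φ ^ r = 1) (H : Subgroup G)
    (h : H.map (φ : G →* G) = H) : restrictAut φ H h ^ r = 1 := by
  have key : ∀ (n : ℕ) (x : H), (((restrictAut φ H h ^ n) x : H) : G) = (φ ^ n) x := by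
    intro n
    induction n with
    | zero => intro x; rfl
    | succ n ih =>
      intro x
      rw [pow_succ', pow_succ', MulAut.mul_apply, MulAut.mul_apply, ← ih x]
      rfl
  ext x
  rw [key r x, hr]
  rfl

theorem quotientAut_pow_eq_one {φ : G ≃* G} {r : ℕ} (hr : φ ^ r = 1) (N : Subgroup G) [N.Normal]
    (h : N.map (φ : G →* G) = N) : QuotientGroup.congr N N φ h ^ r = 1 := by
  have key : ∀ (n : ℕ) (x : G),
      (QuotientGroup.congr N N φ h ^ n) (QuotientGroup.mk x) = QuotientGroup.mk ((φ ^ n) x) := by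
    intro n
    induction n with
    | zero => intro x; rfl
    | succ n ih =>
      intro x
      rw [pow_succ', pow_succ', MulAut.mul_apply, MulAut.mul_apply, ih x]
      rfl
  ext x
  obtain ⟨x, rfl⟩ := QuotientGroup.mk_surjective x
  rw [key r x, hr]
  rfl

theorem fixedPointFree_quotientAut [Finite G] {φ : G ≃* G} (hφ : ∀ g, φ g = g → g = 1)
    (N : Subgroup G) [N.Normal] (h : N.map (φ : G →* G) = N) (q : G ⧸ N)
    (hq : QuotientGroup.congr N N φ h q = q) : q = 1 := by
  obtain ⟨g, rfl⟩ := QuotientGroup.mk_surjective q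
  have hg : (φ g)⁻¹ * g ∈ N := QuotientGroup.eq.1 hq
  have hfix : MonoidHom.FixedPointFree (restrictAut φ N h) :=
    fixedPointFree_restrictAut hφ N h
  obtain ⟨m, hm⟩ := hfix.commutatorMap_surjective ⟨g⁻¹ * φ g, by simpa using inv_mem hg⟩
  have hm' : (m : G) / φ m = g⁻¹ * φ g := congrArg Subtype.val hm
  have h1 : φ (g * m) = g * m := by
    rw [map_mul, show φ g = g * (g⁻¹ * φ g) by group, ← hm', mul_assoc, div_mul_cancel]
  have h2 := hφ _ h1
  rw [QuotientGroup.eq_one_iff]
  rw [eq_inv_of_mul_eq_one_left h2]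
  exact inv_mem m.2

theorem eq_one_of_iterate_eq {φ : G ≃* G} (hφ : ∀ g, φ g = g → g = 1) {r : ℕ} (hr : r.Prime)
    (hrφ : φ ^ r = 1) {i : ℕ} (hi : ¬ r ∣ i) {g : G} (hg : φ^[i] g = g) : g = 1 := by
  obtain ⟨j, -, hj⟩ := Nat.exists_mul_mod_eq_one_of_coprime
    ((hr.coprime_iff_not_dvd.2 hi).symm) hr.one_lt
  apply hφ
  have h1 : (φ ^ (i * j)) g = g := by
    rw [pow_apply_eq_iterate, Function.iterate_mul]
    exact Function.iterate_fixed hg j
  rw [show i * j = r * (i * j / r) + 1 by
    conv_lhs => rw [← Nat.div_add_mod (i * j) r, hj]] at h1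
  rw [pow_succ, pow_mul, hrφ, one_pow, one_mul] at h1
  exact h1

/-- The summation trick: if `φ` and `φ|P` are fixed-point-free and `C_E(P) = 1` then `E` has
exponent dividing the order of `P`. -/
theorem pow_card_eq_one_of_centralizer_eq_bot [Finite G] {φ : G ≃* G}
    (hφ : ∀ g, φ g = g → g = 1) {r : ℕ} (hr : r.Prime) (hrφ : φ ^ r = 1) (P E : Subgroup G)
    [IsMulCommutative E] (hP : ∀ x ∈ P, φ x ∈ P) (hE : ∀ x ∈ E, φ x ∈ E)
    (hPE : ∀ k ∈ P, ∀ v ∈ E, k * v * k⁻¹ ∈ E) (hC : E ⊓ Subgroup.centralizer (P : Set G) = ⊥)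
    {v : G} (hv : v ∈ E) : v ^ Nat.card P = 1 := by
  classical
  haveI := Fintype.ofFinite P
  have hEmap := map_eq_of_apply_mem φ hE
  let ψ := restrictAut φ E hEmap
  have hψ : MonoidHom.FixedPointFree ψ := fixedPointFree_restrictAut hφ E hEmap
  have hiter : ∀ (i : ℕ) (w : E), ((ψ^[i] w : E) : G) = φ^[i] (w : G) := by
    intro i
    induction i with
    | zero => intro w; rfl
    | succ i ih =>
      intro w
      rw [Function.iterate_succ_apply', Function.iterate_succ_apply', ← ih w]
      rfl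
  have hψr : ψ^[r] = id := by
    funext w
    rw [← pow_apply_eq_iterate, restrictAut_pow_eq_one hrφ E hEmap]
    rfl
  have hsum : ∀ w : E, ∏ i ∈ Finset.range r, ψ^[i] w = 1 := fun w => by
    rw [← List.toFinset_range, List.prod_toFinset _ List.nodup_range]
    exact hψ.prod_pow_eq_one hψr w
  let c : P → E →* E := fun k =>
    { toFun := fun w => ⟨k * w * (k : G)⁻¹, hPE k k.2 w w.2⟩
      map_one' := by ext; simp
      map_mul' := fun x y => by ext; simp [mul_assoc] }
  have hc : ∀ (k : P) (w : E), ((c k w : E) : G) = k * w * (k : G)⁻¹ := fun _ _ => rfl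
  have hPi : ∀ (i : ℕ), ∀ x ∈ P, φ^[i] x ∈ P := by
    intro i
    induction i with
    | zero => exact fun x hx => hx
    | succ i ih => intro x hx; rw [Function.iterate_succ_apply']; exact hP _ (ih x hx)
  let τ : ℕ → P → P := fun i k => k * ⟨φ^[i] (k : G), hPi i k k.2⟩⁻¹
  let ve : E := ⟨v, hv⟩
  -- for each `k`, the product over the conjugate of `⟨φ⟩` by `k` is trivial
  have hrow : ∀ k : P, ∏ i ∈ Finset.range r, c (τ i k) (ψ^[i] ve) = 1 := by
    intro k
    have key : ∀ i, c (τ i k) (ψ^[i] ve) = c k (ψ^[i] (c k⁻¹ ve)) := by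
      intro i
      apply Subtype.ext
      rw [hc, hc, hiter, hiter, hc]
      simp only [τ, ve, Subgroup.coe_mul, Subgroup.coe_inv, iterate_map_mul, iterate_map_inv,
        inv_inv]
      group
    rw [Finset.prod_congr rfl fun i _ => key i, ← map_prod, hsum, map_one]
  -- the column sums
  have hcol : ∀ i ∈ (Finset.range r).erase 0, ∏ k : P, c (τ i k) (ψ^[i] ve) = 1 := by
    intro i hi
    rw [Finset.mem_erase, Finset.mem_range] at hi
    have hndvd : ¬ r ∣ i := fun hd => by
      have := Nat.le_of_dvd (by omega) hd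
      omega
    have hbij : Function.Bijective (τ i) := by
      rw [← Finite.injective_iff_bijective]
      intro a b hab
      have h' : (a : G) * (φ^[i] (a : G))⁻¹ = (b : G) * (φ^[i] (b : G))⁻¹ :=
        congrArg Subtype.val hab
      have h1 : φ^[i] ((b : G)⁻¹ * a) = (b : G)⁻¹ * a := by
        rw [iterate_map_mul, iterate_map_inv, eq_inv_mul_iff_mul_eq, ← mul_assoc, ← h']
        group
      have h2 := eq_one_of_iterate_eq hφ hr hrφ hndvd h1
      exact Subtype.ext (inv_mul_eq_one.1 h2).symm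
    rw [Fintype.prod_bijective (τ i) hbij (fun k => c (τ i k) (ψ^[i] ve))
      (fun k => c k (ψ^[i] ve)) (fun k => rfl)]
    set y : E := ∏ k : P, c k (ψ^[i] ve)
    have hy : ∀ x : P, c x y = y := fun x => by
      rw [map_prod]
      refine Fintype.prod_equiv (Equiv.mulLeft x) _ _ fun k => ?_
      apply Subtype.ext
      rw [hc, hc, hc]
      simp [mul_assoc]
    refine Subtype.ext (Subgroup.mem_bot.1 (hC ▸ Subgroup.mem_inf.2 ⟨y.2, ?_⟩))
    rw [Subgroup.mem_centralizer_iff]
    intro x hx
    exact mul_inv_eq_iff_eq_mul.1 (congrArg Subtype.val (hy ⟨x, hx⟩))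
  have hall : ∏ i ∈ Finset.range r, ∏ k : P, c (τ i k) (ψ^[i] ve) = 1 := by
    rw [Finset.prod_comm]
    exact Finset.prod_eq_one fun k _ => hrow k
  rw [← Finset.mul_prod_erase _ _ (Finset.mem_range.2 hr.pos), Finset.prod_eq_one hcol,
    mul_one] at hall
  have h0 : ∀ k : P, c (τ 0 k) (ψ^[0] ve) = ve := fun k => by
    apply Subtype.ext
    rw [hc]
    simp [τ]
  rw [Finset.prod_congr rfl fun k _ => h0 k, Finset.prod_const, Finset.card_univ,
    ← Nat.card_eq_fintype_card] at hall
  exact congrArg Subtype.val hall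

theorem apply_mem_normalizer (φ : G ≃* G) {H : Subgroup G} (hH : H.map (φ : G →* G) = H) {x : G}
    (hx : x ∈ Subgroup.normalizer (H : Set G)) : φ x ∈ Subgroup.normalizer (H : Set G) := by
  have := Subgroup.mem_map_of_mem (φ : G →* G) hx
  rw [show (φ : G →* G) = φ.toMonoidHom from rfl, Subgroup.map_equiv_normalizer_eq H φ] at this
  rw [← hH]
  exact this

theorem apply_mem_centralizer (φ : G ≃* G) {H : Subgroup G} (hH : H.map (φ : G →* G) = H) {x : G}
    (hx : x ∈ Subgroup.centralizer (H : Set G)) : φ x ∈ Subgroup.centralizer (H : Set G) := by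
  rw [Subgroup.mem_centralizer_iff] at hx ⊢
  intro y hy
  rw [SetLike.mem_coe, ← hH] at hy
  obtain ⟨z, hz, rfl⟩ := hy
  simpa using congrArg φ (hx z hz)

/-- If every proper invariant subgroup and every proper invariant quotient is nilpotent and the
group is solvable, then it is nilpotent. -/
theorem isNilpotent_of_isSolvable_step [Finite G] [Group.IsSolvable G] {φ : G ≃* G}
    (hφ : ∀ g, φ g = g → g = 1) {r : ℕ} (hr : r.Prime) (hrφ : φ ^ r = 1)
    (hsub : ∀ H : Subgroup G, H ≠ ⊤ → H.map (φ : G →* G) = H → Group.IsNilpotent H)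
    (hquot : ∀ (N : Subgroup G) [N.Normal], N ≠ ⊥ → N.map (φ : G →* G) = N →
      Group.IsNilpotent (G ⧸ N)) : Group.IsNilpotent G := by
  classical
  rcases subsingleton_or_nontrivial G with h | h
  · infer_instance
  obtain ⟨n, hn⟩ := Group.IsSolvable.solvable (G := G)
  obtain ⟨k, hk, hk'⟩ : ∃ k, derivedSeries G k ≠ ⊥ ∧ derivedSeries G (k + 1) = ⊥ := by
    induction n with
    | zero => exact absurd hn (by rw [derivedSeries_zero]; exact bot_ne_top.symm)
    | succ n ih =>
      by_cases h : derivedSeries G n = ⊥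
      · exact ih h
      · exact ⟨n, h, hn⟩
  set A := derivedSeries G k with hA
  haveI hAc : IsMulCommutative A := by
    rw [derivedSeries_succ, Subgroup.commutator_eq_bot_iff_le_centralizer] at hk'
    exact Subgroup.le_centralizer_iff_isMulCommutative.1 hk'
  obtain ⟨q, hq, hqd⟩ := Nat.exists_prime_and_dvd
    (fun h => hk (Subgroup.card_eq_one.1 h) : Nat.card A ≠ 1)
  haveI := Fact.mk hq
  let E : Subgroup G := (powMonoidHom q : A →* A).ker.map A.subtype
  have hEmem : ∀ x, x ∈ E ↔ x ∈ A ∧ x ^ q = 1 := by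
    intro x
    constructor
    · rintro ⟨y, hy, rfl⟩
      exact ⟨y.2, congrArg Subtype.val hy⟩
    · rintro ⟨hx, hxq⟩
      exact ⟨⟨x, hx⟩, Subtype.ext hxq, rfl⟩
  haveI : E.Normal := ⟨fun x hx g => by
    rw [hEmem] at hx ⊢
    exact ⟨(derivedSeries_normal G k).conj_mem x hx.1 g, by rw [conj_pow, hx.2]; group⟩⟩
  haveI : IsMulCommutative E := ⟨⟨fun a b => Subtype.ext
    (congrArg Subtype.val (mul_comm (⟨a, ((hEmem a).1 a.2).1⟩ : A) ⟨b, ((hEmem b).1 b.2).1⟩) :)⟩⟩
  have hEne : E ≠ ⊥ := by
    obtain ⟨x, hx⟩ := exists_prime_orderOf_dvd_card' (G := A) q hqd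
    rw [← Subgroup.orderOf_coe] at hx
    intro h0
    have : (x : G) ∈ E := (hEmem _).2 ⟨x.2, hx ▸ pow_orderOf_eq_one _⟩
    rw [h0, Subgroup.mem_bot] at this
    rw [this, orderOf_one] at hx
    exact hq.ne_one hx.symm
  have hEinv : ∀ x ∈ E, φ x ∈ E := by
    intro x hx
    rw [hEmem] at hx ⊢
    refine ⟨?_, by rw [← map_pow, hx.2, map_one]⟩
    exact map_derivedSeries_le_derivedSeries (φ : G →* G) k (Subgroup.mem_map_of_mem _ hx.1)
  have hEmap := map_eq_of_apply_mem φ hEinv
  have hqn := hquot E hEne hEmap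
  have hEp : IsPGroup q E := fun x => ⟨1, Subtype.ext (by simpa using ((hEmem x).1 x.2).2)⟩
  by_contra hnil
  obtain ⟨p, hp, P, hP⟩ : ∃ (p : ℕ) (_ : Fact p.Prime) (P : Sylow p G),
      ¬ (P : Subgroup G).Normal := by
    by_contra hc
    push Not at hc
    exact hnil ((Group.isNilpotent_of_finite_tfae.out 0 3 rfl rfl).2 hc)
  obtain ⟨P₀, hP₀⟩ := S0031.result φ hφ p
  have hP₀n : ¬ (P₀ : Subgroup G).Normal := fun hn => by
    haveI := hn
    haveI := P₀.unique_of_normal hn
    exact hP (Subsingleton.elim P₀ P ▸ hn)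
  -- the preimage of the (normal) image of `P₀`
  haveI hMn : ((P₀ : Subgroup G) ⊔ E).Normal := by
    have h1 : ((P₀.mapSurjective (QuotientGroup.mk'_surjective E)) :
        Subgroup (G ⧸ E)).Normal := Transfer.nilpotent_sylow_normal hqn _
    rw [Sylow.coe_mapSurjective] at h1
    have h2 := h1.comap (QuotientGroup.mk' E)
    rw [Subgroup.comap_map_eq, QuotientGroup.ker_mk'] at h2
    exact h2
  have hMinv : ((P₀ : Subgroup G) ⊔ E).map (φ : G →* G) = (P₀ : Subgroup G) ⊔ E := by
    rw [Subgroup.map_sup, hP₀, hEmap]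
  by_cases hM : (P₀ : Subgroup G) ⊔ E = ⊤
  · -- `G = P₀ E`
    have hC : (E ⊓ Subgroup.centralizer (P₀ : Set G)) = ⊥ := by
      by_contra hne
      have hcen : E ⊓ Subgroup.centralizer (P₀ : Set G) ≤ Subgroup.center G := by
        intro x hx
        have hle : (P₀ : Subgroup G) ⊔ E ≤ Subgroup.centralizer {x} := by
          refine sup_le (fun y hy => ?_) (fun y hy => ?_)
          · rw [Subgroup.mem_centralizer_singleton_iff]
            exact Subgroup.mem_centralizer_iff.1 hx.2 y hy
          · rw [Subgroup.mem_centralizer_singleton_iff]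
            exact congrArg Subtype.val (mul_comm (⟨y, hy⟩ : E) ⟨x, hx.1⟩)
        rw [Subgroup.mem_center_iff]
        intro g
        exact Subgroup.mem_centralizer_singleton_iff.1 (hle (hM ▸ Subgroup.mem_top g))
      haveI : (E ⊓ Subgroup.centralizer (P₀ : Set G)).Normal := ⟨fun x hx g => by
        have := Subgroup.mem_center_iff.1 (hcen hx) g
        rw [this, mul_inv_cancel_right]
        exact hx⟩
      have hCinv := map_eq_of_apply_mem φ (H := E ⊓ Subgroup.centralizer (P₀ : Set G))
        fun x hx => ⟨hEinv x hx.1, apply_mem_centralizer φ hP₀ hx.2⟩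
      haveI := hquot _ hne hCinv
      exact hnil (Subgroup.isNilpotent_of_ker_le_center
        (QuotientGroup.mk' (E ⊓ Subgroup.centralizer (P₀ : Set G)))
        (by rw [QuotientGroup.ker_mk']; exact hcen))
    have hpq : p ≠ q := by
      rintro rfl
      have : E ≤ (P₀ : Subgroup G) := hEp.le_sylow_of_normal P₀
      rw [sup_eq_left.2 this] at hM
      exact hP₀n (hM ▸ inferInstance)
    refine hEne ((Subgroup.eq_bot_iff_forall _).2 fun v hv => ?_)
    have h1 : v ^ Nat.card (P₀ : Subgroup G) = 1 :=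
      pow_card_eq_one_of_centralizer_eq_bot hφ hr hrφ (P₀ : Subgroup G) E
        (fun x hx => apply_mem_of_map_eq φ hP₀ hx) hEinv
        (fun k _ w hw => Subgroup.Normal.conj_mem ‹_› w hw k) hC hv
    have h2 : v ^ q = 1 := ((hEmem v).1 hv).2
    obtain ⟨m, hm⟩ := P₀.2.exists_card_eq
    have hcop : (Nat.card (P₀ : Subgroup G)).gcd q = 1 := by
      rw [hm]
      exact Nat.Coprime.pow_left _ ((Nat.coprime_primes (Fact.out : p.Prime) hq).2 hpq)
    have := pow_gcd_eq_one.2 ⟨h1, h2⟩
    rwa [hcop, pow_one] at this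
  · have hMnil := hsub _ hM hMinv
    let PM := P₀.subtype (le_sup_left : (P₀ : Subgroup G) ≤ (P₀ : Subgroup G) ⊔ E)
    haveI : (PM : Subgroup ↥((P₀ : Subgroup G) ⊔ E)).Normal :=
      Transfer.nilpotent_sylow_normal hMnil PM
    haveI : (PM : Subgroup ↥((P₀ : Subgroup G) ⊔ E)).Characteristic :=
      PM.characteristic_of_normal inferInstance
    refine hP₀n ?_
    have h3 : ((PM : Subgroup ↥((P₀ : Subgroup G) ⊔ E)).map
        ((P₀ : Subgroup G) ⊔ E).subtype).Normal := inferInstance
    rwa [Sylow.coe_subtype, Subgroup.map_subgroupOf_eq_of_le le_sup_left] at h3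

theorem hasNormalPComplement_of_isNilpotent [Finite G] (hG : Group.IsNilpotent G) (p : ℕ)
    [Fact p.Prime] : HasNormalPComplement p G := by
  obtain ⟨P⟩ := (inferInstance : Nonempty (Sylow p G))
  haveI := Transfer.nilpotent_sylow_normal hG P
  obtain ⟨K, hK⟩ := Subgroup.exists_left_complement'_of_coprime P.card_coprime_index
  refine (Transfer.hasNormalPComplement_iff_exists P).2 ⟨K, ?_, hK⟩
  have hcard : Nat.card K = (P : Subgroup G).index := hK.index_eq_card.symm
  have hcomm : ∀ x ∈ (P : Subgroup G), ∀ k ∈ K, Commute x k := fun x hx k hk =>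
    Transfer.nilpotent_commute_of_coprime hG
      ((P.card_coprime_index.coprime_dvd_left (Subgroup.orderOf_dvd_natCard _ hx)).coprime_dvd_right
        (hcard ▸ Subgroup.orderOf_dvd_natCard _ hk))
  refine Subgroup.normalizer_eq_top_iff.1 (top_le_iff.1 ?_)
  rw [← hK.sup_eq_top]
  refine sup_le Subgroup.le_normalizer (le_trans (fun x hx => ?_)
    (Subgroup.centralizer_le_normalizer _))
  rw [Subgroup.mem_centralizer_iff]
  exact fun k hk => (hcomm x hx k hk).eq.symm

theorem thompsonSubgroup_map_le {K L : Type u} [Group K] [Group L] (p : ℕ) (e : K ≃* L) :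
    (thompsonSubgroup p K).map (e : K →* L) ≤ thompsonSubgroup p L := by
  rw [thompsonSubgroup, Subgroup.map_le_iff_le_comap]
  refine sSup_le fun A hA => ?_
  rw [← Subgroup.map_le_iff_le_comap]
  refine le_sSup ?_
  have hel : ∀ {K L : Type u} [Group K] [Group L] (e : K ≃* L) (B : Subgroup K),
      IsElementaryAbelian p B → IsElementaryAbelian p (B.map (e : K →* L)) := by
    intro K L _ _ e B hB
    refine ⟨?_, ?_⟩
    · refine ⟨⟨?_⟩⟩
      rintro ⟨_, a, ha, rfl⟩ ⟨_, b, hb, rfl⟩
      apply Subtype.ext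
      have := congrArg Subtype.val (hB.1.is_comm.comm (⟨a, ha⟩ : B) ⟨b, hb⟩)
      simpa using congrArg e this
    · rintro _ ⟨a, ha, rfl⟩
      rw [← map_pow, hB.2 a ha, map_one]
  refine ⟨hel e A hA.1, fun B hB => ?_⟩
  rw [Subgroup.card_map_of_injective (f := (e : K →* L)) e.injective]
  exact (Subgroup.card_map_of_injective (f := (e.symm : L →* K)) e.symm.injective).ge.trans
    (hA.2 _ (hel e.symm B hB))

theorem apply_mem_thompsonSubgroupOf (p : ℕ) (φ : G ≃* G) {P : Subgroup G}
    (hP : P.map (φ : G →* G) = P) {x : G} (hx : x ∈ thompsonSubgroupOf p P) :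
    φ x ∈ thompsonSubgroupOf p P := by
  obtain ⟨y, hy, rfl⟩ := Subgroup.mem_map.1 hx
  exact ⟨restrictAut φ P hP y,
    thompsonSubgroup_map_le p (restrictAut φ P hP) (Subgroup.mem_map_of_mem _ hy), rfl⟩

theorem thompsonSubgroupOf_ne_bot [Finite G] {p : ℕ} [hp : Fact p.Prime] {P : Subgroup G}
    (hP : p ∣ Nat.card P) : thompsonSubgroupOf p P ≠ ⊥ := by
  obtain ⟨x, hx⟩ := exists_prime_orderOf_dvd_card' (G := P) p hP
  have hB : IsElementaryAbelian p (Subgroup.zpowers x) := by
    refine ⟨inferInstance, fun a ha => ?_⟩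
    obtain ⟨n, rfl⟩ := Subgroup.mem_zpowers_iff.1 ha
    rw [← zpow_natCast, ← zpow_mul, mul_comm, zpow_mul, zpow_natCast, ← hx, pow_orderOf_eq_one,
      one_zpow]
  haveI : Nonempty {A : Subgroup P // IsElementaryAbelian p A} := ⟨⟨_, hB⟩⟩
  obtain ⟨A, -, hA'⟩ := Set.exists_max_image
    (Set.univ : Set {A : Subgroup P // IsElementaryAbelian p A}) (fun A => Nat.card A.1)
    Set.finite_univ Set.univ_nonempty
  have hA : ∀ B : {A : Subgroup P // IsElementaryAbelian p A}, Nat.card B.1 ≤ Nat.card A.1 :=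
    fun B => hA' B (Set.mem_univ B)
  have hAJ : A.1 ≤ thompsonSubgroup p P := le_sSup ⟨A.2, fun B hB' => hA ⟨B, hB'⟩⟩
  intro h0
  rw [thompsonSubgroupOf, Subgroup.map_eq_bot_iff_of_injective _ P.subtype_injective] at h0
  rw [h0, le_bot_iff] at hAJ
  have := hA ⟨_, hB⟩
  simp only [hAJ, Subgroup.card_bot, Nat.card_zpowers, hx] at this
  exact absurd this (not_le.2 hp.out.one_lt)

/-- Thompson's theorem, from a normal `p`-complement criterion. -/
theorem isNilpotent_of_fixedPointFree_of_criterion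
    (crit : ∀ (G : Type u) [Group G] [Finite G] (p : ℕ) [Fact p.Prime], p ≠ 2 →
      ∀ P : Sylow p G,
      HasNormalPComplement p
        (Subgroup.normalizer (thompsonSubgroupOf p (P : Subgroup G) : Set G)) →
      HasNormalPComplement p (Subgroup.centralizer
        (((P : Subgroup G) ⊓ Subgroup.centralizer (P : Set G)) : Set G)) →
      HasNormalPComplement p G)
    (G : Type u) [Group G] [Finite G] (φ : G ≃* G) (hφ : ∀ g, φ g = g → g = 1) {r : ℕ}
    (hr : r.Prime) (hrφ : φ ^ r = 1) : Group.IsNilpotent G := by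
  suffices key : ∀ n, ∀ (G : Type u) [Group G] [Finite G] (φ : G ≃* G),
      (∀ g, φ g = g → g = 1) → φ ^ r = 1 → Nat.card G ≤ n → Group.IsNilpotent G from
    key _ G φ hφ hrφ le_rfl
  clear! G
  intro n
  induction n with
  | zero =>
    intro G _ _ φ _ _ h
    exact absurd (Nat.le_zero.1 h) Nat.card_pos.ne'
  | succ n ih =>
    intro G _ _ φ hφ hrφ hcard
    classical
    have hsub : ∀ H : Subgroup G, H ≠ ⊤ → H.map (φ : G →* G) = H → Group.IsNilpotent H := by
      intro H hH hinv
      refine ih H (restrictAut φ H hinv) (fixedPointFree_restrictAut hφ H hinv)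
        (restrictAut_pow_eq_one hrφ H hinv) ?_
      have h1 := H.card_mul_index
      have h2 : 2 ≤ H.index := by
        have := Subgroup.index_ne_zero_of_finite (H := H)
        have : H.index ≠ 1 := fun h => hH (Subgroup.index_eq_one.1 h)
        omega
      have h3 : 0 < Nat.card H := Nat.card_pos
      nlinarith
    have hquot : ∀ (N : Subgroup G) [N.Normal], N ≠ ⊥ → N.map (φ : G →* G) = N →
        Group.IsNilpotent (G ⧸ N) := by
      intro N _ hN hinv
      refine ih (G ⧸ N) (QuotientGroup.congr N N φ hinv) (fixedPointFree_quotientAut hφ N hinv)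
        (quotientAut_pow_eq_one hrφ N hinv) ?_
      have h1 := Subgroup.card_eq_card_quotient_mul_card_subgroup N
      have h2 : 1 < Nat.card N := (Subgroup.one_lt_card_iff_ne_bot N).2 hN
      have h3 : 0 < Nat.card (G ⧸ N) := Nat.card_pos
      nlinarith
    by_cases hN : ∃ N : Subgroup G, N.Normal ∧ N ≠ ⊥ ∧ N ≠ ⊤ ∧ N.map (φ : G →* G) = N
    · obtain ⟨N, hNn, hN1, hN2, hN3⟩ := hN
      haveI := hNn
      haveI : Group.IsSolvable N := by
        haveI := hsub N hN2 hN3
        infer_instance
      haveI : Group.IsSolvable (G ⧸ N) := by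
        haveI := hquot N hN1 hN3
        infer_instance
      haveI : Group.IsSolvable G := Group.isSolvable_of_ker_le_range N.subtype (QuotientGroup.mk' N)
        (by rw [QuotientGroup.ker_mk', Subgroup.range_subtype])
      exact isNilpotent_of_isSolvable_step hφ hr hrφ hsub hquot
    push Not at hN
    by_cases h2 : ∀ p : ℕ, p.Prime → p ∣ Nat.card G → p = 2
    · haveI := Fact.mk Nat.prime_two
      refine IsPGroup.isNilpotent (p := 2) (IsPGroup.iff_card.2 ?_)
      exact ⟨_, Nat.eq_prime_pow_of_unique_prime_dvd Nat.card_pos.ne' fun hd hdvd => h2 _ hd hdvd⟩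
    push Not at h2
    obtain ⟨p, hp, hpd, hp2⟩ := h2
    haveI := Fact.mk hp
    obtain ⟨P, hP⟩ := S0031.result φ hφ p
    have hdP : p ∣ Nat.card (P : Subgroup G) := P.dvd_card_of_dvd_card hpd
    by_cases hPtop : (P : Subgroup G) = ⊤
    · exact IsPGroup.isNilpotent (p := p)
        (P.2.of_equiv ((MulEquiv.subgroupCongr hPtop).trans Subgroup.topEquiv))
    set J := thompsonSubgroupOf p (P : Subgroup G) with hJ
    have hJinv := map_eq_of_apply_mem φ (H := J) fun x hx => apply_mem_thompsonSubgroupOf p φ hP hx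
    have hJne : J ≠ ⊥ := thompsonSubgroupOf_ne_bot hdP
    have hJle : J ≤ (P : Subgroup G) := Subgroup.map_subtype_le _
    have hN1 : Subgroup.normalizer (J : Set G) ≠ ⊤ := by
      intro h
      have := hN J (Subgroup.normalizer_eq_top_iff.1 h) hJne
        (fun ht => hPtop (top_le_iff.1 (ht ▸ hJle)))
      exact this hJinv
    have hN2 := map_eq_of_apply_mem φ (H := Subgroup.normalizer (J : Set G))
      fun x hx => apply_mem_normalizer φ hJinv hx
    set Z := (P : Subgroup G) ⊓ Subgroup.centralizer (P : Set G) with hZ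
    have hZinv := map_eq_of_apply_mem φ (H := Z) fun x hx =>
      ⟨apply_mem_of_map_eq φ hP hx.1, apply_mem_centralizer φ hP hx.2⟩
    have hZne : Z ≠ ⊥ := by
      haveI : Nontrivial (P : Subgroup G) := Finite.one_lt_card_iff_nontrivial.1
        (lt_of_lt_of_le hp.one_lt (Nat.le_of_dvd Nat.card_pos hdP))
      obtain ⟨z, hz⟩ := Subgroup.ne_bot_iff_exists_ne_one.1 P.2.bot_lt_center.ne'
      intro h0
      have hmem : ((z : (P : Subgroup G)) : G) ∈ Z := by
        refine ⟨(z : (P : Subgroup G)).2, ?_⟩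
        show _ ∈ Subgroup.centralizer _
        rw [Subgroup.mem_centralizer_iff]
        intro x hx
        exact congrArg Subtype.val (Subgroup.mem_center_iff.1 z.2 ⟨x, hx⟩)
      rw [h0, Subgroup.mem_bot] at hmem
      exact hz (Subtype.ext (Subtype.ext hmem))
    have hC1 : Subgroup.centralizer (Z : Set G) ≠ ⊤ := by
      intro h
      have hcen : Z ≤ Subgroup.center G := Subgroup.centralizer_eq_top_iff_subset.1 h
      have : Z.Normal := ⟨fun x hx g => by
        rw [Subgroup.mem_center_iff.1 (hcen hx) g, mul_inv_cancel_right]; exact hx⟩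
      exact hN Z this hZne (fun ht => hPtop (top_le_iff.1 (ht ▸ inf_le_left))) hZinv
    have hC2 := map_eq_of_apply_mem φ (H := Subgroup.centralizer (Z : Set G))
      fun x hx => apply_mem_centralizer φ hZinv hx
    have hG : HasNormalPComplement p G := crit G p hp2 P
      (hasNormalPComplement_of_isNilpotent (hsub _ hN1 hN2) p)
      (hasNormalPComplement_of_isNilpotent (hsub _ hC1 hC2) p)
    have hR := hN (pResidual p G) inferInstance
    have hRinv : (pResidual p G).map (φ : G →* G) = pResidual p G :=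
      Transfer.map_pResidual_equiv φ
    have hcompl := Transfer.isComplement'_pResidual hG P
    by_cases hR1 : pResidual p G = ⊥
    · rw [hR1, Subgroup.isComplement'_bot_left] at hcompl
      exact absurd hcompl hPtop
    · by_cases hR2 : pResidual p G = ⊤
      · rw [hR2, Subgroup.isComplement'_top_left] at hcompl
        rw [hcompl, Subgroup.card_bot] at hdP
        exact absurd (Nat.dvd_one.1 hdP) hp.ne_one
      · exact absurd hRinv (hR hR1 hR2)

end Cfsg.Agent.Frobenius
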