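import Mathlib.GroupTheory.Sylow
import Mathlib.GroupTheory.FixedPointFree
import Mathlib.GroupTheory.Subgroup.Centralizer
import Mathlib.GroupTheory.SpecificGroups.Cyclic
import Mathlib.GroupTheory.SpecificGroups.ZGroup
import Mathlib.GroupTheory.GroupAction.Quotient

/-!
# Subgroups acting without fixed points by conjugation

`IsFPF A V` : `A` normalises `V` and every nonidentity element of `A` has trivial centraliser
in `V`.
-/

set_option autoImplicit false
set_option linter.style.haveILetI false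

open scoped Pointwise IsMulCommutative

namespace Cfsg.Agent.Frobenius

variable {G : Type*} [Group G]

/-- `A` acts on `V` by conjugation without nonidentity fixed points. -/
def IsFPF (A V : Subgroup G) : Prop :=
  A ≤ Subgroup.normalizer (V : Set G) ∧ ∀ a ∈ A, a ≠ 1 → V ⊓ Subgroup.centralizer {a} = ⊥

variable {A V : Subgroup G}

theorem isFPF_of_normal {K H : Subgroup G} [K.Normal]
    (hfpf : ∀ h ∈ H, h ≠ 1 → K ⊓ Subgroup.centralizer {h} = ⊥) : IsFPF H K :=
  ⟨by simp [Subgroup.normalizer_eq_top], hfpf⟩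

namespace IsFPF

theorem eq_one_of_commute (h : IsFPF A V) {a v : G} (ha : a ∈ A) (ha1 : a ≠ 1) (hv : v ∈ V)
    (hc : a * v = v * a) : v = 1 :=
  Subgroup.mem_bot.1 (h.2 a ha ha1 ▸
    Subgroup.mem_inf.2 ⟨hv, Subgroup.mem_centralizer_singleton_iff.2 hc.symm⟩)

theorem conj_mem (h : IsFPF A V) {a v : G} (ha : a ∈ A) (hv : v ∈ V) : a * v * a⁻¹ ∈ V :=
  (Subgroup.mem_normalizer_iff.1 (h.1 ha) v).1 hv

theorem mono_left (h : IsFPF A V) {A' : Subgroup G} (hA : A' ≤ A) : IsFPF A' V :=
  ⟨hA.trans h.1, fun a ha => h.2 a (hA ha)⟩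

theorem mono_right (h : IsFPF A V) {W : Subgroup G} (hW : W ≤ V)
    (hN : A ≤ Subgroup.normalizer (W : Set G)) : IsFPF A W :=
  ⟨hN, fun a ha ha1 => le_bot_iff.1 ((h.2 a ha ha1).le.trans' (inf_le_inf_right _ hW))⟩

theorem inf_eq_bot (h : IsFPF A V) : A ⊓ V = ⊥ := by
  rw [Subgroup.eq_bot_iff_forall]
  rintro x ⟨hxA, hxV⟩
  by_contra hx
  exact hx (h.eq_one_of_commute hxA hx hxV rfl)

theorem eq_one_of_centralizes (h : IsFPF A V) (hV : V ≠ ⊥) {a : G} (ha : a ∈ A)
    (hc : ∀ v ∈ V, a * v = v * a) : a = 1 := by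
  by_contra ha1
  exact hV ((Subgroup.eq_bot_iff_forall _).2 fun v hv => h.eq_one_of_commute ha ha1 hv (hc v hv))

theorem card_dvd_card_sub_one [Finite G] (h : IsFPF A V) :
    Nat.card A ∣ Nat.card V - 1 := by
  classical
  letI : MulDistribMulAction A V := MulDistribMulAction.compHom V (Subgroup.inclusion h.1)
  have hsmul : ∀ (a : A) (v : V), ((a • v : V) : G) = (a : G) * v * (a : G)⁻¹ := fun _ _ => rfl
  haveI := Fintype.ofFinite A
  haveI := Fintype.ofFinite V
  haveI : Fintype (Quotient (MulAction.orbitRel A V)) := Fintype.ofFinite _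
  have hb := MulAction.sum_card_fixedBy_eq_card_orbits_mul_card_group A V
  have h1 : Fintype.card (MulAction.fixedBy V (1 : A)) = Fintype.card V :=
    Fintype.card_congr (Equiv.subtypeUnivEquiv fun q => by simp)
  have h2 : ∀ a : A, a ≠ 1 → Fintype.card (MulAction.fixedBy V a) = 1 := by
    intro a ha
    refine Fintype.card_eq_one_iff.2 ⟨⟨1, by simp⟩, ?_⟩
    rintro ⟨v, hv⟩
    rw [MulAction.mem_fixedBy] at hv
    refine Subtype.ext (Subtype.ext ?_)
    refine h.eq_one_of_commute a.2 (by simpa using ha) v.2 ?_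
    have := congrArg Subtype.val hv
    rw [hsmul, mul_inv_eq_iff_eq_mul] at this
    exact this
  rw [← Finset.add_sum_erase _ _ (Finset.mem_univ (1 : A)), h1,
    Finset.sum_congr rfl fun a ha => h2 a (Finset.ne_of_mem_erase ha), Finset.sum_const,
    Finset.card_erase_of_mem (Finset.mem_univ _), Finset.card_univ, smul_eq_mul, mul_one] at hb
  rw [Nat.card_eq_fintype_card, Nat.card_eq_fintype_card]
  have hA : 0 < Fintype.card A := Fintype.card_pos
  have hV : 0 < Fintype.card V := Fintype.card_pos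
  refine ⟨Fintype.card (Quotient (MulAction.orbitRel A V)) - 1, ?_⟩
  rw [Nat.mul_sub, mul_one, mul_comm]
  omega

theorem coprime [Finite G] (h : IsFPF A V) : (Nat.card A).Coprime (Nat.card V) := by
  obtain ⟨k, hk⟩ := h.card_dvd_card_sub_one
  have hV : 0 < Nat.card V := Nat.card_pos
  have : Nat.card V = Nat.card A * k + 1 := by omega
  rw [this]
  simp

theorem coprime_of_dvd_card [Finite G] (h : IsFPF A V) {n : ℕ} (hn : n ∣ Nat.card A) :
    n.Coprime (Nat.card V) :=
  h.coprime.coprime_dvd_left hn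

/-- If `A ≠ ⊥` acts without fixed points on an abelian `V`, the product of all `A`-conjugates of
an element of `V` is trivial. -/
theorem prod_eq_one [Finite G] [IsMulCommutative V] (h : IsFPF A V) (hA : A ≠ ⊥) (s : Finset G)
    (hs : ∀ a, a ∈ s ↔ a ∈ A) (f : G → V) (v : G)
    (hf : ∀ a ∈ A, (f a : G) = a * v * a⁻¹) : ∏ a ∈ s, f a = 1 := by
  obtain ⟨b, hbA, hb1⟩ : ∃ b ∈ A, b ≠ (1 : G) := by
    by_contra hne
    push Not at hne
    exact hA ((Subgroup.eq_bot_iff_forall _).2 hne)
  let φ : V →* V :=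
    { toFun := fun w => ⟨b * w * b⁻¹, h.conj_mem hbA w.2⟩
      map_one' := by ext; simp
      map_mul' := fun x y => by ext; simp [mul_assoc] }
  have key : φ (∏ a ∈ s, f a) = ∏ a ∈ s, f a := by
    rw [map_prod]
    refine Finset.prod_nbij' (fun a => b * a) (fun a => b⁻¹ * a) ?_ ?_ ?_ ?_ ?_
    · exact fun a ha => (hs _).2 (mul_mem hbA ((hs a).1 ha))
    · exact fun a ha => (hs _).2 (mul_mem (inv_mem hbA) ((hs a).1 ha))
    · intro a _; simp
    · intro a _; simp
    · intro a ha
      have ha' := (hs a).1 ha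
      apply Subtype.ext
      show b * (f a : G) * b⁻¹ = f (b * a)
      rw [hf a ha', hf (b * a) (mul_mem hbA ha')]
      group
  have key' : b * ((∏ a ∈ s, f a : V) : G) * b⁻¹ = ((∏ a ∈ s, f a : V) : G) :=
    congrArg Subtype.val key
  exact Subtype.ext (h.eq_one_of_commute hbA hb1 (∏ a ∈ s, f a : V).2
    (mul_inv_eq_iff_eq_mul.1 key'))

/-- If the nonidentity elements of a fixed-point-free `A` are partitioned by `n` nontrivial
subgroups, then `v ^ n = v` on an abelian `V`. -/
theorem pow_card_of_partition [Finite G] [IsMulCommutative V] (h : IsFPF A V) (hA : A ≠ ⊥)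
    {ι : Type*} [Finite ι] (B : ι → Subgroup G) (hle : ∀ i, B i ≤ A) (hne : ∀ i, B i ≠ ⊥)
    (hpart : ∀ a ∈ A, a ≠ 1 → ∃! i, a ∈ B i) (v : G) (hv : v ∈ V) :
    v ^ Nat.card ι = v := by
  classical
  haveI := Fintype.ofFinite G
  haveI := Fintype.ofFinite ι
  let f : G → V := fun a => if ha : a ∈ A then ⟨a * v * a⁻¹, h.conj_mem ha hv⟩ else 1
  have hf : ∀ a ∈ A, (f a : G) = a * v * a⁻¹ := fun a ha => by simp [f, ha]
  have hf1 : f 1 = ⟨v, hv⟩ := by simp [f]
  let SA : Finset G := Finset.univ.filter (· ∈ A)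
  let SB : ι → Finset G := fun i => Finset.univ.filter (· ∈ B i)
  have hA' := h.prod_eq_one hA SA (fun a => by simp [SA]) f v hf
  have hB : ∀ i, ∏ a ∈ (SB i).erase 1, f a = (⟨v, hv⟩ : V)⁻¹ := by
    intro i
    have := (h.mono_left (hle i)).prod_eq_one (hne i) (SB i) (fun a => by simp [SB]) f v
      (fun a ha => hf a (hle i ha))
    rw [← Finset.mul_prod_erase _ _ (show (1 : G) ∈ SB i by simp [SB]), hf1] at this
    exact eq_inv_of_mul_eq_one_right this
  have hU : SA.erase 1 = Finset.univ.biUnion (fun i => (SB i).erase 1) := by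
    ext a
    simp only [SA, SB, Finset.mem_erase, Finset.mem_filter, Finset.mem_univ, true_and,
      Finset.mem_biUnion]
    constructor
    · rintro ⟨ha1, haA⟩
      obtain ⟨i, hi, -⟩ := hpart a haA ha1
      exact ⟨i, ha1, hi⟩
    · rintro ⟨i, ha1, hi⟩
      exact ⟨ha1, hle i hi⟩
  have hdisj : Set.PairwiseDisjoint (↑(Finset.univ : Finset ι)) fun i => (SB i).erase 1 := by
    intro i _ j _ hij
    rw [Function.onFun, Finset.disjoint_left]
    intro a hai haj
    simp only [SB, Finset.mem_erase, Finset.mem_filter, Finset.mem_univ, true_and] at hai haj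
    exact hij ((hpart a (hle i hai.2) hai.1).unique hai.2 haj.2)
  rw [← Finset.mul_prod_erase _ _ (show (1 : G) ∈ SA by simp [SA]), hf1, hU,
    Finset.prod_biUnion hdisj, Finset.prod_congr rfl fun i _ => hB i, Finset.prod_const,
    Finset.card_univ, inv_pow, mul_inv_eq_one] at hA'
  rw [Nat.card_eq_fintype_card]
  exact (congrArg Subtype.val hA').symm

theorem false_of_partition [Finite G] [IsMulCommutative V] (h : IsFPF A V) (hV : V ≠ ⊥)
    (hA : A ≠ ⊥) {ι : Type*} [Finite ι] (B : ι → Subgroup G) (hle : ∀ i, B i ≤ A)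
    (hne : ∀ i, B i ≠ ⊥) (hpart : ∀ a ∈ A, a ≠ 1 → ∃! i, a ∈ B i) (n : ℕ)
    (hn : Nat.card ι = n + 1) (hcop : n.Coprime (Nat.card V)) : False := by
  refine hV ((Subgroup.eq_bot_iff_forall _).2 fun v hv => ?_)
  have h1 := h.pow_card_of_partition hA B hle hne hpart v hv
  rw [hn, pow_succ, mul_eq_right] at h1
  have h2 : (⟨v, hv⟩ : V) ^ n = 1 := Subtype.ext h1
  have h3 : Function.Injective (fun x : V => x ^ n) :=
    (powCoprime (Nat.Coprime.symm hcop)).injective
  exact congrArg Subtype.val (h3 (show (⟨v, hv⟩ : V) ^ n = 1 ^ n by simpa using h2))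

/-- A fixed-point-free `p`-group of automorphisms leaves a nontrivial abelian subgroup invariant. -/
theorem exists_abelian_of_isPGroup [Finite G] (h : IsFPF A V) (hV : V ≠ ⊥) (hA : A ≠ ⊥) {p : ℕ}
    [hp : Fact p.Prime] (hAp : IsPGroup p A) :
    ∃ W ≤ V, W ≠ ⊥ ∧ IsMulCommutative W ∧ IsFPF A W := by
  have hV1 : Nat.card V ≠ 1 := fun h1 => hV (Subgroup.card_eq_one.1 h1)
  obtain ⟨q, hq, hqdvd⟩ := Nat.exists_prime_and_dvd hV1
  haveI := Fact.mk hq
  have hpA : p ∣ Nat.card A := by
    obtain ⟨n, hn⟩ := hAp.exists_card_eq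
    cases n with
    | zero => exact absurd (Subgroup.card_eq_one.1 (by simpa using hn)) hA
    | succ n => rw [hn]; exact dvd_pow_self p (by simp)
  have hndvd : ¬ p ∣ Nat.card (Sylow q V) := by
    intro hd
    obtain ⟨Q⟩ := (inferInstance : Nonempty (Sylow q V))
    have h1 : p ∣ Nat.card V :=
      (hd.trans (Sylow.card_dvd_index Q)).trans (Q : Subgroup V).index_dvd_card
    exact hp.out.ne_one (Nat.eq_one_of_dvd_coprimes h.coprime hpA h1)
  letI : MulDistribMulAction A V := MulDistribMulAction.compHom V (Subgroup.inclusion h.1)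
  obtain ⟨Q, hQ⟩ := hAp.nonempty_fixed_point_of_prime_not_dvd_card (Sylow q V) hndvd
  set P : Subgroup G := (Q : Subgroup V).map V.subtype with hPdef
  have hPN : A ≤ Subgroup.normalizer (P : Set G) := by
    have key : ∀ a ∈ A, ∀ x ∈ P, a * x * a⁻¹ ∈ P := by
      intro a ha x hx
      obtain ⟨y, hy, rfl⟩ := Subgroup.mem_map.1 hx
      have h1 : (⟨a, ha⟩ : A) • (Q : Subgroup V) = (Q : Subgroup V) :=
        congrArg Sylow.toSubgroup (hQ ⟨a, ha⟩)
      have h2 : (⟨a, ha⟩ : A) • y ∈ (⟨a, ha⟩ : A) • (Q : Subgroup V) :=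
        Subgroup.smul_mem_pointwise_smul _ _ _ hy
      rw [h1] at h2
      exact Subgroup.mem_map_of_mem V.subtype h2
    intro a ha
    rw [Subgroup.mem_normalizer_iff]
    intro x
    refine ⟨key a ha x, fun hx => ?_⟩
    simpa [mul_assoc] using key a⁻¹ (inv_mem ha) _ hx
  refine ⟨P ⊓ Subgroup.centralizer (P : Set G), inf_le_left.trans (Subgroup.map_subtype_le _),
    ?_, ?_, h.mono_right (inf_le_left.trans (Subgroup.map_subtype_le _)) ?_⟩
  · have hQ1 : (Q : Subgroup V) ≠ ⊥ := Q.ne_bot_of_dvd_card hqdvd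
    haveI : Nontrivial (Q : Subgroup V) := Subgroup.nontrivial_iff_ne_bot _ |>.2 hQ1
    obtain ⟨z, hz⟩ := Subgroup.ne_bot_iff_exists_ne_one.1 Q.2.bot_lt_center.ne'
    intro hbot
    have hmem : (((z : (Q : Subgroup V)) : V) : G) ∈ P ⊓ Subgroup.centralizer (P : Set G) := by
      refine ⟨Subgroup.mem_map_of_mem V.subtype (z : (Q : Subgroup V)).2, ?_⟩
      show _ ∈ Subgroup.centralizer (P : Set G)
      rw [Subgroup.mem_centralizer_iff]
      intro x hx
      obtain ⟨y, hy, rfl⟩ := Subgroup.mem_map.1 hx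
      have := Subgroup.mem_center_iff.1 z.2 ⟨y, hy⟩
      exact congrArg (fun t : (Q : Subgroup V) => ((t : V) : G)) this
    rw [hbot, Subgroup.mem_bot] at hmem
    exact hz (Subtype.ext (Subtype.ext (Subtype.ext hmem)))
  · refine ⟨⟨fun x y => Subtype.ext ?_⟩⟩
    exact Subgroup.mem_centralizer_iff.1 y.2.2 x x.2.1
  · intro a ha
    rw [Subgroup.mem_normalizer_iff]
    intro x
    have hc : a ∈ Subgroup.normalizer (Subgroup.centralizer (P : Set G) : Set G) := by
      have hinv : ∀ b ∈ Subgroup.normalizer (P : Set G), ∀ y ∈ Subgroup.centralizer (P : Set G),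
          b * y * b⁻¹ ∈ Subgroup.centralizer (P : Set G) := by
        intro b hb y hy
        rw [Subgroup.mem_centralizer_iff] at hy ⊢
        intro w hw
        have hw' : b⁻¹ * w * b ∈ P := by
          have := (Subgroup.mem_normalizer_iff.1 (inv_mem hb) w).1 hw
          simpa using this
        have := hy _ hw'
        calc w * (b * y * b⁻¹) = b * ((b⁻¹ * w * b) * y) * b⁻¹ := by group
          _ = b * (y * (b⁻¹ * w * b)) * b⁻¹ := by rw [this]
          _ = b * y * b⁻¹ * w := by group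
      rw [Subgroup.mem_normalizer_iff]
      intro y
      refine ⟨hinv a (hPN ha) y, fun hy => ?_⟩
      simpa [mul_assoc] using hinv a⁻¹ (inv_mem (hPN ha)) _ hy
    rw [Subgroup.mem_inf, Subgroup.mem_inf, Subgroup.mem_normalizer_iff.1 (hPN ha) x,
      Subgroup.mem_normalizer_iff.1 hc x]

/-- Commuting elements of the same prime order in a fixed-point-free group generate the same
cyclic subgroup. -/
theorem mem_zpowers_of_commute [Finite G] (h : IsFPF A V) (hV : V ≠ ⊥) {p : ℕ}
    [hp : Fact p.Prime] {a b : G} (ha : a ∈ A) (hb : b ∈ A) (hao : orderOf a = p)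
    (hbo : b ^ p = 1) (hab : Commute a b) : b ∈ Subgroup.zpowers a := by
  classical
  by_contra hb'
  set E : Subgroup G := Subgroup.closure {a, b} with hEdef
  have hEA : E ≤ A := by
    rw [hEdef, Subgroup.closure_le]
    rintro x (rfl | rfl) <;> assumption
  have hform : ∀ x ∈ E, ∃ i j : ℕ, x = a ^ i * b ^ j := by
    intro x hx
    refine Subgroup.closure_induction ?_ ⟨0, 0, by simp⟩ ?_ ?_ hx
    · rintro x (rfl | rfl)
      · exact ⟨1, 0, by simp⟩
      · exact ⟨0, 1, by simp⟩
    · rintro x y _ _ ⟨i, j, rfl⟩ ⟨k, l, rfl⟩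
      refine ⟨i + k, j + l, ?_⟩
      have := (hab.pow_pow k j).symm.eq
      rw [pow_add, pow_add, mul_assoc, ← mul_assoc (b ^ j), this]
      group
    · rintro x _ ⟨i, j, rfl⟩
      refine ⟨(p - 1) * i, (p - 1) * j, ?_⟩
      rw [inv_eq_iff_mul_eq_one, mul_assoc, ← mul_assoc (b ^ j),
        ← (hab.pow_pow ((p - 1) * i) j).eq, ← mul_assoc, ← mul_assoc, ← pow_add,
        mul_assoc, ← pow_add]
      have ha' : a ^ p = 1 := hao ▸ pow_orderOf_eq_one a
      have e1 : i + (p - 1) * i = p * i := by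
        have := hp.out.one_lt
        obtain ⟨m, rfl⟩ : ∃ m, p = m + 1 := ⟨p - 1, by omega⟩
        simp [add_mul, add_comm]
      have e2 : j + (p - 1) * j = p * j := by
        have := hp.out.one_lt
        obtain ⟨m, rfl⟩ : ∃ m, p = m + 1 := ⟨p - 1, by omega⟩
        simp [add_mul, add_comm]
      rw [e1, e2, pow_mul, pow_mul, ha', hbo]
      simp
  have hpE : ∀ x ∈ E, x ^ p = 1 := by
    intro x hx
    obtain ⟨i, j, rfl⟩ := hform x hx
    rw [(hab.pow_pow i j).mul_pow, ← pow_mul, ← pow_mul, mul_comm i, mul_comm j, pow_mul,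
      pow_mul, ← hao, pow_orderOf_eq_one, hao, hbo]
    simp
  have haE : a ∈ E := Subgroup.subset_closure (by simp)
  have hbE : b ∈ E := Subgroup.subset_closure (by simp)
  have hb1 : b ≠ 1 := fun hh => hb' (hh ▸ one_mem _)
  have ha1 : a ≠ 1 := by
    intro hh; rw [hh, orderOf_one] at hao; exact hp.out.ne_one hao.symm
  have hEne : E ≠ ⊥ := fun hh => ha1 (Subgroup.mem_bot.1 (hh ▸ haE))
  have hEp : IsPGroup p E := fun x => ⟨1, Subtype.ext (by simpa using hpE _ x.2)⟩
  obtain ⟨W, -, hW, hWc, hWf⟩ := (h.mono_left hEA).exists_abelian_of_isPGroup hV hEne hEp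
  -- the `p + 1` subgroups of order `p`
  have hmem : ∀ i : ℕ, b * a ^ i ∈ E := fun i => mul_mem hbE (pow_mem haE i)
  have hord : ∀ x ∈ E, x ≠ 1 → orderOf x = p := fun x hx hx1 =>
    orderOf_eq_prime (hpE x hx) hx1
  have hgen : ∀ x ∈ E, x ≠ 1 → ∀ y ∈ Subgroup.zpowers x, y ≠ 1 → x ∈ Subgroup.zpowers y := by
    intro x hx hx1 y hy hy1
    have hy' : y ∈ E := Subgroup.zpowers_le.2 hx hy
    have : Subgroup.zpowers y = Subgroup.zpowers x := by
      apply Subgroup.eq_of_le_of_card_ge (Subgroup.zpowers_le.2 hy)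
      rw [Nat.card_zpowers, Nat.card_zpowers, hord x hx hx1, hord y hy' hy1]
    rw [this]
    exact Subgroup.mem_zpowers x
  have hba1 : ∀ i : ℕ, b * a ^ i ≠ 1 := fun i hh =>
    hb' ((eq_inv_of_mul_eq_one_left hh) ▸ inv_mem (Subgroup.npow_mem_zpowers a i))
  let B : Option (Fin p) → Subgroup G := fun o =>
    match o with
    | none => Subgroup.zpowers a
    | some i => Subgroup.zpowers (b * a ^ (i : ℕ))
  refine hWf.false_of_partition hW hEne B ?_ ?_ ?_ p (by simp)
    (hWf.coprime.coprime_dvd_left ?_)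
  · rintro (_ | i)
    · exact Subgroup.zpowers_le.2 haE
    · exact Subgroup.zpowers_le.2 (hmem i)
  · rintro (_ | i)
    · exact Subgroup.zpowers_ne_bot.2 ha1
    · exact Subgroup.zpowers_ne_bot.2 (hba1 i)
  · intro x hx hx1
    obtain ⟨i, j, rfl⟩ := hform x hx
    have huniq : ∀ o o', a ^ i * b ^ j ∈ B o → a ^ i * b ^ j ∈ B o' → o = o' := by
      intro o o' h1 h2
      rcases o with _ | k <;> rcases o' with _ | l
      · rfl
      · exfalso
        have := hgen _ (hmem l) (hba1 l) _ h2 hx1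
        have h3 : b * a ^ (l : ℕ) ∈ Subgroup.zpowers a := Subgroup.zpowers_le.2 h1 this
        exact hb' (by simpa using mul_mem h3 (inv_mem (Subgroup.npow_mem_zpowers a (l : ℕ))))
      · exfalso
        have := hgen _ (hmem k) (hba1 k) _ h1 hx1
        have h3 : b * a ^ (k : ℕ) ∈ Subgroup.zpowers a := Subgroup.zpowers_le.2 h2 this
        exact hb' (by simpa using mul_mem h3 (inv_mem (Subgroup.npow_mem_zpowers a (k : ℕ))))
      · have h3 : b * a ^ (l : ℕ) ∈ Subgroup.zpowers (b * a ^ (k : ℕ)) :=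
          Subgroup.zpowers_le.2 h1 (hgen _ (hmem l) (hba1 l) _ h2 hx1)
        have hd : (a ^ (k : ℕ))⁻¹ * a ^ (l : ℕ) ∈ Subgroup.zpowers (b * a ^ (k : ℕ)) := by
          have e : (a ^ (k : ℕ))⁻¹ * a ^ (l : ℕ) = (b * a ^ (k : ℕ))⁻¹ * (b * a ^ (l : ℕ)) := by
            group
          rw [e]
          exact mul_mem (inv_mem (Subgroup.mem_zpowers _)) h3
        have hd' : (a ^ (k : ℕ))⁻¹ * a ^ (l : ℕ) = 1 := by
          by_contra hne
          have h4 : b * a ^ (k : ℕ) ∈ Subgroup.zpowers a :=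
            Subgroup.zpowers_le.2 (mul_mem (inv_mem (Subgroup.npow_mem_zpowers a _))
              (Subgroup.npow_mem_zpowers a _)) (hgen _ (hmem k) (hba1 k) _ hd hne)
          exact hb' (by simpa using mul_mem h4 (inv_mem (Subgroup.npow_mem_zpowers a (k : ℕ))))
        have := pow_injOn_Iio_orderOf (x := a) (by simpa [hao] using k.2)
          (by simpa [hao] using l.2) (inv_mul_eq_one.1 hd')
        rw [Fin.ext this]
    by_cases hj : b ^ j = 1
    · refine ⟨none, ?_, fun o ho => huniq o none ho ?_⟩ <;>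
      · show a ^ i * b ^ j ∈ Subgroup.zpowers a
        rw [hj, mul_one]
        exact Subgroup.npow_mem_zpowers a i
    · have hjp : ¬ p ∣ j := fun ⟨t, ht⟩ => hj (by rw [ht, pow_mul, hbo, one_pow])
      obtain ⟨u, -, hu⟩ := Nat.exists_mul_mod_eq_one_of_coprime
        ((hp.out.coprime_iff_not_dvd.2 hjp).symm) hp.out.one_lt
      let k : Fin p := ⟨i * u % p, Nat.mod_lt _ hp.out.pos⟩
      have hk : a ^ i * b ^ j ∈ B (some k) := by
        show a ^ i * b ^ j ∈ Subgroup.zpowers (b * a ^ (i * u % p))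
        have e : a ^ i * b ^ j = (b * a ^ (i * u % p)) ^ j := by
          rw [(hab.symm.pow_right _).mul_pow, ← hao, pow_mod_orderOf, (hab.pow_pow i j).eq]
          congr 1
          rw [← pow_mul, mul_assoc, mul_comm u j, ← pow_mod_orderOf a (i * (j * u)), hao,
            Nat.mul_mod, hu, mul_one, Nat.mod_mod, ← hao, pow_mod_orderOf]
        rw [e]
        exact Subgroup.npow_mem_zpowers _ j
      exact ⟨some k, hk, fun o ho => huniq o _ ho hk⟩
  · rw [← hao]
    exact Subgroup.orderOf_dvd_natCard E haE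

/-- A commutative fixed-point-free group is cyclic. -/
theorem isCyclic_of_isMulCommutative [Finite G] (h : IsFPF A V) (hV : V ≠ ⊥)
    [IsMulCommutative A] : IsCyclic A := by
  classical
  haveI : Group.IsNilpotent A := by
    letI : CommGroup A := IsMulCommutative.instCommGroup
    infer_instance
  suffices IsZGroup A by infer_instance
  refine ⟨fun p hp P => ?_⟩
  haveI := Fact.mk hp
  haveI := Fintype.ofFinite (P : Subgroup A)
  refine isCyclic_of_card_pow_eq_one_le fun n hn => ?_
  obtain ⟨m, hm⟩ := P.2.exists_card_eq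
  -- the `p ^ k`-torsion has at most `p ^ k` elements
  have hcomm : ∀ x y : (P : Subgroup A), x * y = y * x := fun x y =>
    Subtype.ext ((IsMulCommutative.is_comm (M := A)).comm _ _)
  letI : CommGroup (P : Subgroup A) := { (inferInstance : Group (P : Subgroup A)) with
    mul_comm := hcomm }
  have hone : Nat.card (powMonoidHom p : (P : Subgroup A) →* _).ker ≤ p := by
    rcases eq_or_ne (powMonoidHom p : (P : Subgroup A) →* _).ker ⊥ with h0 | h0
    · rw [h0, Subgroup.card_bot]; exact hp.one_lt.le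
    · obtain ⟨x, hx⟩ := Subgroup.ne_bot_iff_exists_ne_one.1 h0
      let ι : (P : Subgroup A) →* G := A.subtype.comp (P : Subgroup A).subtype
      have hι : Function.Injective ι := A.subtype_injective.comp (P : Subgroup A).subtype_injective
      have hxo : orderOf (ι x) = p := by
        rw [orderOf_injective ι hι]
        exact orderOf_eq_prime x.2 (fun hh => hx (Subtype.ext hh))
      have hle : (powMonoidHom p : (P : Subgroup A) →* _).ker.map ι ≤ Subgroup.zpowers (ι x) := by
        rintro _ ⟨y, hy, rfl⟩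
        refine h.mem_zpowers_of_commute hV (x : (P : Subgroup A)).1.2 y.1.2 hxo ?_ ?_
        · rw [← map_pow, show y ^ p = 1 from hy, map_one]
        · exact Commute.map (hcomm x y) ι
      calc _ = Nat.card ((powMonoidHom p : (P : Subgroup A) →* _).ker.map ι) :=
            (Subgroup.card_map_of_injective hι).symm
        _ ≤ Nat.card (Subgroup.zpowers (ι x)) :=
            Nat.card_le_card_of_injective _ (Subgroup.inclusion_injective hle)
        _ = p := by rw [Nat.card_zpowers, hxo]
  have hk : ∀ k : ℕ, Nat.card (powMonoidHom (p ^ k) : (P : Subgroup A) →* _).ker ≤ p ^ k := by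
    intro k
    induction k with
    | zero =>
      have : (powMonoidHom (p ^ 0) : (P : Subgroup A) →* _).ker = ⊥ := by ext; simp
      simp [this]
    | succ k ih =>
      set K1 := (powMonoidHom (p ^ (k + 1)) : (P : Subgroup A) →* _).ker with hK1
      let f : K1 →* (powMonoidHom (p ^ k) : (P : Subgroup A) →* _).ker :=
        ((powMonoidHom p).comp K1.subtype).codRestrict _ fun y => by
          rw [MonoidHom.mem_ker]
          show ((y : (P : Subgroup A)) ^ p) ^ p ^ k = 1
          rw [← pow_mul, ← pow_succ']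
          exact y.2
      rw [← f.ker.index_mul_card, Subgroup.index_ker, pow_succ]
      refine Nat.mul_le_mul ((Nat.card_le_card_of_injective _ Subtype.val_injective).trans ih) ?_
      refine le_trans ?_ hone
      refine Nat.card_le_card_of_injective
        (fun y => ⟨((y : K1) : (P : Subgroup A)), congrArg Subtype.val y.2⟩) ?_
      intro y z hyz
      exact Subtype.ext (Subtype.ext (congrArg Subtype.val hyz :))
  -- reduce `n` to the `p`-power `gcd n (card P)`
  obtain ⟨k, -, hk'⟩ := (Nat.dvd_prime_pow hp).1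
    ((Nat.gcd_dvd_right n (Nat.card (P : Subgroup A))).trans (dvd_of_eq hm))
  refine le_trans ?_ (Nat.le_of_dvd hn (Nat.gcd_dvd_left n (Nat.card (P : Subgroup A))))
  rw [hk']
  refine le_trans ?_ (hk k)
  rw [Nat.card_eq_fintype_card, ← Fintype.card_coe]
  refine Fintype.card_le_of_injective (fun y => ⟨y.1, ?_⟩) fun y z hyz =>
    Subtype.ext (congrArg Subtype.val hyz :)
  rw [MonoidHom.mem_ker]
  show (y.1 : (P : Subgroup A)) ^ p ^ k = 1
  rw [← hk', ← orderOf_dvd_iff_pow_eq_one]
  exact Nat.dvd_gcd (orderOf_dvd_iff_pow_eq_one.2 (Finset.mem_filter.1 y.2).2)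
    (orderOf_dvd_natCard _)

end IsFPF

end Cfsg.Agent.Frobenius
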