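import Cfsg.Agent.Lib.Frobenius.Basic
import Cfsg.Agent.Lib.Frobenius.FixedPointFree

/-!
# Frobenius complements of even order
-/

set_option autoImplicit false
set_option linter.style.haveILetI false

open scoped Pointwise

namespace Cfsg.Agent.Frobenius

variable {G : Type*} [Group G]

/-- An involution of a Frobenius complement inverts the whole Frobenius kernel. -/
theorem inverts_frobeniusKernel [Finite G] {H : Subgroup G} (hH : IsFrobeniusComplement H)
    {t : G} (ht : t ∈ H) (ht1 : t ≠ 1) (ht2 : t * t = 1) :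
    ∀ x ∈ frobeniusKernel H, t * x * t⁻¹ = x⁻¹ := by
  classical
  have htinv : t⁻¹ = t := inv_eq_of_mul_eq_one_right ht2
  let u : G → G := fun g => t * (g * t * g⁻¹)
  have hu : ∀ g, t * u g * t⁻¹ = (u g)⁻¹ := fun g => by
    simp only [u, mul_inv_rev, inv_inv, htinv, mul_assoc]
    rw [← mul_assoc t t, ht2, one_mul]
  have huK : ∀ g, g ∉ H → u g ∈ frobeniusKernel H := by
    intro g hg
    by_contra hk
    obtain ⟨hne, a, ha⟩ := exists_conj_of_not_mem_frobeniusKernel hk
    have hH' := isFrobeniusComplement_conj hH a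
    have hta : t ∈ MulAut.conj a • H :=
      mem_of_mul_mem hH' hne ha (by rw [hu g]; exact inv_mem ha)
    have hHa : MulAut.conj a • H = H := by
      have := conj_eq_of_mem_conj hH (g := (1 : G)) ht1 (by simpa [mem_conj_smul] using ht) hta
      simpa using this
    rw [hHa] at ha
    have h2 : g * t * g⁻¹ ∈ H := by
      have := mul_mem (inv_mem ht) ha
      simpa [u] using this
    exact hg (mem_of_mul_mem hH ht1 ht h2)
  let f : G ⧸ H → G := fun q => if q.out ∈ H then 1 else u q.out
  have hfK : ∀ q, f q ∈ frobeniusKernel H := fun q => by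
    simp only [f]; split_ifs with h
    · exact one_mem_frobeniusKernel
    · exact huK _ h
  have hfinj : Function.Injective f := by
    intro q q' he
    simp only [f] at he
    have hone : ∀ r : G ⧸ H, r.out ∈ H → r = QuotientGroup.mk 1 := fun r hr => by
      rw [← QuotientGroup.out_eq' r, QuotientGroup.eq]; simpa using hr
    have hu1 : ∀ g, g ∉ H → u g ≠ 1 := by
      intro g hg h1
      have : g * t * g⁻¹ ∈ H := by
        have h2 : g * t * g⁻¹ = t⁻¹ := eq_inv_of_mul_eq_one_right h1
        rw [h2]; exact inv_mem ht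
      exact hg (mem_of_mul_mem hH ht1 ht this)
    split_ifs at he with h h' h'
    · rw [hone q h, hone q' h']
    · exact absurd he.symm (hu1 _ h')
    · exact absurd he (hu1 _ h)
    · simp only [u, mul_right_inj] at he
      rw [← QuotientGroup.out_eq' q, ← QuotientGroup.out_eq' q', QuotientGroup.eq]
      refine mem_of_mul_mem hH ht1 ht ?_
      rw [show q.out⁻¹ * q'.out * t * (q.out⁻¹ * q'.out)⁻¹
        = q.out⁻¹ * (q'.out * t * q'.out⁻¹) * q.out by group, ← he]
      simpa [mul_assoc] using ht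
  have himg : Set.range f = frobeniusKernel H := by
    refine Set.eq_of_subset_of_ncard_le (Set.range_subset_iff.2 hfK) ?_
    rw [ncard_frobeniusKernel hH, Set.ncard_range_of_injective hfinj, Subgroup.index]
  intro x hx
  rw [← himg] at hx
  obtain ⟨q, rfl⟩ := hx
  simp only [f]
  split_ifs
  · simp
  · exact hu _

/-- With an involution in the complement, the kernel is a commutative set. -/
theorem commute_frobeniusKernel [Finite G] {H : Subgroup G} (hH : IsFrobeniusComplement H)
    {t : G} (ht : t ∈ H) (ht1 : t ≠ 1) (ht2 : t * t = 1) :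
    ∀ x ∈ frobeniusKernel H, ∀ y ∈ frobeniusKernel H, Commute x y := by
  intro x hx y hy
  have h1 := inverts_frobeniusKernel hH ht ht1 ht2
  -- conjugate the involution by `x`
  have hx2 : ∀ z ∈ frobeniusKernel H, (x * t * x⁻¹) * z * (x * t * x⁻¹)⁻¹ = z⁻¹ := by
    intro z hz
    have := h1 _ (conj_mem_frobeniusKernel hz x⁻¹)
    rw [inv_inv] at this
    calc x * t * x⁻¹ * z * (x * t * x⁻¹)⁻¹ = x * (t * (x⁻¹ * z * x) * t⁻¹) * x⁻¹ := by group
      _ = x * (x⁻¹ * z * x)⁻¹ * x⁻¹ := by rw [this]
      _ = z⁻¹ := by group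
  have e : x * t * x⁻¹ = x * x * t := by
    have := h1 x hx
    rw [mul_inv_eq_iff_eq_mul] at this
    have h3 : t * x⁻¹ = x * t := by
      have h4 := h1 _ (inv_mem_frobeniusKernel hx)
      rw [inv_inv, mul_inv_eq_iff_eq_mul] at h4
      exact h4
    rw [mul_assoc, h3, mul_assoc]
  have h5 : Commute (x * x) y := by
    have := hx2 _ (inv_mem_frobeniusKernel hy)
    rw [e, inv_inv] at this
    have h4 := h1 _ (inv_mem_frobeniusKernel hy)
    rw [inv_inv] at h4
    have h6 : x * x * (t * y⁻¹ * t⁻¹) * (x * x)⁻¹ = y := by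
      conv_rhs => rw [← this]
      group
    rw [h4, mul_inv_eq_iff_eq_mul] at h6
    exact h6
  by_cases hx1 : x = 1
  · subst hx1; exact Commute.one_left y
  -- `x` has odd order
  have hxodd : ¬ 2 ∣ orderOf x := by
    intro h2
    obtain ⟨k, hk⟩ := h2
    have hk0 : k ≠ 0 := by
      rintro rfl; exact (orderOf_pos x).ne' (by simpa using hk)
    have hz1 : x ^ k ≠ 1 := fun h => by
      have := orderOf_dvd_of_pow_eq_one h
      rw [hk] at this
      have := Nat.le_of_dvd (Nat.pos_of_ne_zero hk0) this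
      omega
    have hzK : x ^ k ∈ frobeniusKernel H :=
      mem_frobeniusKernel_of_commute hH hx hx1 ((Commute.refl x).pow_right k).eq
    have hz2 : (x ^ k)⁻¹ = x ^ k := by
      refine inv_eq_of_mul_eq_one_right ?_
      rw [← pow_add, show k + k = orderOf x by omega, pow_orderOf_eq_one]
    have := h1 _ hzK
    rw [hz2, mul_inv_eq_iff_eq_mul] at this
    exact hz1 (eq_one_of_mem_frobeniusKernel_of_mem hzK (mem_of_commute hH ht1 ht this))
  obtain ⟨m, hm⟩ : ∃ m, orderOf x = 2 * m + 1 := ⟨orderOf x / 2, by omega⟩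
  have : x = (x * x) ^ (m + 1) := by
    rw [← pow_two, ← pow_mul, show 2 * (m + 1) = orderOf x + 1 by omega, pow_succ,
      pow_orderOf_eq_one, one_mul]
  rw [this]
  exact h5.pow_left _

theorem mul_mem_frobeniusKernel_of_involution [Finite G] {H : Subgroup G}
    (hH : IsFrobeniusComplement H) {t : G} (ht : t ∈ H) (ht1 : t ≠ 1) (ht2 : t * t = 1)
    {x y : G} (hx : x ∈ frobeniusKernel H) (hy : y ∈ frobeniusKernel H) :
    x * y ∈ frobeniusKernel H := by
  by_cases hx1 : x = 1
  · simpa [hx1] using hy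
  refine mem_frobeniusKernel_of_commute hH hx hx1 ?_
  have := (commute_frobeniusKernel hH ht ht1 ht2 x hx y hy).eq
  rw [mul_assoc x y x, ← this]

namespace IsFPF

variable {A V : Subgroup G}

/-- An involution acting without fixed points inverts. -/
theorem inverts [Finite G] (h : IsFPF A V) {s : G} (hs : s ∈ A) (hs2 : orderOf s = 2) :
    ∀ v ∈ V, s * v * s⁻¹ = v⁻¹ := by
  have hs1 : s ≠ 1 := by rintro rfl; simp at hs2
  let φ : V →* V :=
    { toFun := fun w => ⟨s * w * s⁻¹, h.conj_mem hs w.2⟩
      map_one' := by ext; simp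
      map_mul' := fun x y => by ext; simp [mul_assoc] }
  have hfix : MonoidHom.FixedPointFree φ := fun v hv => Subtype.ext
    (h.eq_one_of_commute hs hs1 v.2 (mul_inv_eq_iff_eq_mul.1 (congrArg Subtype.val hv)))
  have hss : s * s = 1 := by rw [← pow_two, ← hs2, pow_orderOf_eq_one]
  have hinv : Function.Involutive φ := fun v => Subtype.ext <| by
    show s * (s * v * s⁻¹) * s⁻¹ = v
    calc s * (s * (v : G) * s⁻¹) * s⁻¹ = (s * s) * v * (s * s)⁻¹ := by group
      _ = v := by rw [hss]; group
  intro v hv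
  exact congrArg Subtype.val (congrFun (hfix.coe_eq_inv_of_involutive hinv) ⟨v, hv⟩)

/-- A fixed-point-free group of even order has exactly one involution, it inverts `V`, and `V`
is commutative. -/
theorem unique_involution [Finite G] (h : IsFPF A V) (hV : V ≠ ⊥) (heven : 2 ∣ Nat.card A) :
    (∃ s ∈ A, orderOf s = 2 ∧ (∀ t ∈ A, orderOf t = 2 → t = s) ∧
      ∀ v ∈ V, s * v * s⁻¹ = v⁻¹) ∧ IsMulCommutative V := by
  haveI := Fact.mk Nat.prime_two
  obtain ⟨s, hs⟩ := exists_prime_orderOf_dvd_card' (G := A) 2 heven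
  rw [← Subgroup.orderOf_coe] at hs
  have hinv := h.inverts s.2 hs
  refine ⟨⟨s, s.2, hs, fun t ht hto => ?_, hinv⟩, ⟨⟨fun x y => Subtype.ext ?_⟩⟩⟩
  · have htinv := h.inverts ht hto
    have h1 : (s : G)⁻¹ * t = 1 := by
      refine h.eq_one_of_centralizes hV (mul_mem (inv_mem s.2) ht) fun v hv => ?_
      have e := (hinv v hv).trans (htinv v hv).symm
      calc (s : G)⁻¹ * t * v = (s : G)⁻¹ * (t * v * t⁻¹) * t := by group
        _ = (s : G)⁻¹ * ((s : G) * v * (s : G)⁻¹) * t := by rw [← e]
        _ = v * ((s : G)⁻¹ * t) := by group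
    exact (inv_mul_eq_one.1 h1).symm
  · have hx := hinv x x.2
    have hy := hinv y y.2
    have hxy := hinv _ (mul_mem x.2 y.2)
    have : ((x : G))⁻¹ * (y : G)⁻¹ = (y : G)⁻¹ * (x : G)⁻¹ := by
      rw [← mul_inv_rev (x : G) y, ← hxy, ← hx, ← hy]
      group
    simpa using (congrArg Inv.inv this).symm

/-- A fixed-point-free group on an abelian group whose order is a product of two primes is
cyclic. -/
theorem isCyclic_of_card_eq_prime_mul_prime [Finite G] [IsMulCommutative V] (h : IsFPF A V)
    (hV : V ≠ ⊥) {p q : ℕ} (hp : p.Prime) (hq : q.Prime) (hA : Nat.card A = p * q) :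
    IsCyclic A := by
  rcases eq_or_ne p q with rfl | hne
  · haveI := Fact.mk hp
    haveI : IsMulCommutative A :=
      IsPGroup.isMulCommutative_of_card_eq_prime_sq (p := p) (by rw [hA, pow_two])
    exact h.isCyclic_of_isMulCommutative hV
  wlog hlt : p < q generalizing p q
  · exact this hq hp (by rw [hA, mul_comm]) hne.symm (by omega)
  by_contra hcyc
  haveI := Fact.mk hp
  haveI := Fact.mk hq
  have hAne : A ≠ ⊥ := fun hh => by
    rw [hh, Subgroup.card_bot] at hA
    exact hp.ne_one (mul_eq_one.1 hA.symm).1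
  -- orders of elements
  have hord : ∀ a ∈ A, a ≠ 1 → orderOf a = p ∨ orderOf a = q := by
    intro a ha ha1
    have hd : orderOf a ∣ p * q := hA ▸ Subgroup.orderOf_dvd_natCard A ha
    obtain ⟨d, e, hd', he', hde⟩ := (dvd_mul).1 hd
    rcases (Nat.dvd_prime hp).1 hd' with rfl | rfl <;>
      rcases (Nat.dvd_prime hq).1 he' with rfl | rfl
    · exact absurd (orderOf_eq_one_iff.1 (by omega)) ha1
    · exact Or.inr (by omega)
    · exact Or.inl (by omega)
    · exfalso
      refine hcyc (isCyclic_of_orderOf_eq_card (⟨a, ha⟩ : A) ?_)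
      rw [Subgroup.orderOf_mk, hA, ← hde]
  let ι := {B : Subgroup G // B ≤ A ∧ (Nat.card B = p ∨ Nat.card B = q)}
  have hz : ∀ B : ι, ∀ a ∈ B.1, a ≠ 1 → Subgroup.zpowers a = B.1 := by
    intro B a ha ha1
    refine Subgroup.eq_of_le_of_card_ge (Subgroup.zpowers_le.2 ha) ?_
    have hd := Subgroup.orderOf_dvd_natCard B.1 ha
    rw [Nat.card_zpowers]
    rcases B.2.2 with e | e <;> rw [e] at hd ⊢
    · rcases (Nat.dvd_prime hp).1 hd with h1 | h1
      · exact absurd (orderOf_eq_one_iff.1 h1) ha1
      · exact h1.ge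
    · rcases (Nat.dvd_prime hq).1 hd with h1 | h1
      · exact absurd (orderOf_eq_one_iff.1 h1) ha1
      · exact h1.ge
  have hne' : ∀ B : ι, B.1 ≠ ⊥ := fun B hh => by
    rcases B.2.2 with e | e <;> rw [hh, Subgroup.card_bot] at e
    · exact hp.ne_one e.symm
    · exact hq.ne_one e.symm
  have hpart : ∀ a ∈ A, a ≠ 1 → ∃! B : ι, a ∈ B.1 := by
    intro a ha ha1
    refine ⟨⟨Subgroup.zpowers a, Subgroup.zpowers_le.2 ha, by
      rw [Nat.card_zpowers]; exact hord a ha ha1⟩, Subgroup.mem_zpowers a, fun B hB => ?_⟩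
    exact Subtype.ext (hz B a hB ha1).symm
  -- the subgroup of order `q` is unique
  have huq : ∀ B C : ι, Nat.card B.1 = q → Nat.card C.1 = q → B = C := by
    intro B C hB hC
    by_contra hBC
    have hinj : Function.Injective (fun bc : B.1 × C.1 =>
        (⟨(bc.1 : G) * bc.2, mul_mem (B.2.1 bc.1.2) (C.2.1 bc.2.2)⟩ : A)) := by
      rintro ⟨b, c⟩ ⟨b', c'⟩ he
      simp only [Subtype.mk.injEq] at he
      have h1 : (b' : G)⁻¹ * b = c' * (c : G)⁻¹ := by
        rw [inv_mul_eq_iff_eq_mul, ← mul_assoc, eq_mul_inv_iff_mul_eq]; exact he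
      by_cases h2 : (b' : G)⁻¹ * b = 1
      · rw [h2] at h1
        have hb : (b' : G) = b := inv_mul_eq_one.1 h2
        have hc : (c' : G) = c := (eq_inv_of_mul_eq_one_left h1.symm).trans (inv_inv _)
        exact Prod.ext (Subtype.ext hb.symm) (Subtype.ext hc.symm)
      · have e1 := hz B _ (mul_mem (inv_mem b'.2) b.2) h2
        have e2 := hz C _ (by rw [h1]; exact mul_mem c'.2 (inv_mem c.2)) h2
        exact absurd (Subtype.ext (e1.symm.trans e2)) hBC
    have := Nat.card_le_card_of_injective _ hinj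
    rw [Nat.card_prod, hB, hC, hA] at this
    exact absurd (Nat.le_of_mul_le_mul_right this hq.pos) (by omega)
  obtain ⟨y, hy⟩ := exists_prime_orderOf_dvd_card' (G := A) q (by rw [hA]; exact dvd_mul_left q p)
  rw [← Subgroup.orderOf_coe] at hy
  let Q : ι := ⟨Subgroup.zpowers (y : G), Subgroup.zpowers_le.2 y.2,
    Or.inr (by rw [Nat.card_zpowers, hy])⟩
  have hQ : Nat.card Q.1 = q := by show Nat.card (Subgroup.zpowers (y : G)) = q; rw [Nat.card_zpowers, hy]
  classical
  haveI := Fintype.ofFinite ι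
  haveI := Fintype.ofFinite G
  have hothers : ∀ B : ι, B ≠ Q → Nat.card B.1 = p := fun B hB =>
    B.2.2.resolve_right fun e => hB (huq B Q e hQ)
  -- counting the nonidentity elements
  have hcount : Finset.univ.filter (fun a : G => a ∈ A ∧ a ≠ 1) =
      (Finset.univ : Finset ι).biUnion fun B => Finset.univ.filter fun a : G => a ∈ B.1 ∧ a ≠ 1 := by
    ext a
    simp only [Finset.mem_filter, Finset.mem_univ, true_and, Finset.mem_biUnion]
    constructor
    · rintro ⟨ha, ha1⟩
      obtain ⟨B, hB, -⟩ := hpart a ha ha1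
      exact ⟨B, hB, ha1⟩
    · rintro ⟨B, hB, ha1⟩
      exact ⟨B.2.1 hB, ha1⟩
  have hcardf : ∀ K : Subgroup G,
      (Finset.univ.filter fun a : G => a ∈ K ∧ a ≠ 1).card = Nat.card K - 1 := by
    intro K
    rw [show (Finset.univ.filter fun a : G => a ∈ K ∧ a ≠ 1)
      = (Finset.univ.filter fun a : G => a ∈ K).erase 1 by ext; simp [and_comm],
      Finset.card_erase_of_mem (by simp), Nat.card_eq_fintype_card, Fintype.card_subtype]
  have hc := congrArg Finset.card hcount
  rw [hcardf, Finset.card_biUnion, Finset.sum_congr rfl fun B _ => hcardf B.1,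
    ← Finset.add_sum_erase _ _ (Finset.mem_univ Q), hQ,
    Finset.sum_congr rfl (fun B hB => by rw [hothers B (Finset.ne_of_mem_erase hB)]),
    Finset.sum_const, smul_eq_mul, hA, Finset.card_erase_of_mem (Finset.mem_univ _),
    Finset.card_univ] at hc
  · have hn : Fintype.card ι - 1 = q := by
      have e : (Fintype.card ι - 1) * (p - 1) = q * (p - 1) := by
        have := hp.one_lt
        have := hq.one_lt
        obtain ⟨r, rfl⟩ : ∃ r, p = r + 1 := ⟨p - 1, by omega⟩
        simp only [Nat.add_sub_cancel, add_mul, one_mul] at hc ⊢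
        rw [mul_comm r q] at hc
        omega
      exact Nat.eq_of_mul_eq_mul_right (by have := hp.one_lt; omega) e
    have hpos : 0 < Fintype.card ι := Fintype.card_pos_iff.2 ⟨Q⟩
    exact h.false_of_partition hV hAne (fun B : ι => B.1) (fun B => B.2.1) hne' hpart q
      (by rw [Nat.card_eq_fintype_card]; omega)
      (h.coprime_of_dvd_card (by rw [hA]; exact dvd_mul_left q p))
  · intro B _ C _ hBC
    rw [Function.onFun, Finset.disjoint_left]
    intro a ha ha'
    simp only [Finset.mem_filter, Finset.mem_univ, true_and] at ha ha'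
    exact hBC (Subtype.ext ((hz B a ha.1 ha.2).symm.trans (hz C a ha'.1 ha'.2)))

end IsFPF

end Cfsg.Agent.Frobenius
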