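import Cfsg.Agent.Lib.Frobenius.Basic
import Mathlib.GroupTheory.SemidirectProduct
import Mathlib.GroupTheory.GroupAction.Basic
import Mathlib.Algebra.GroupWithZero.Action.Basic
import Mathlib.Algebra.Group.Equiv.TypeTags

/-!
# Frobenius groups from fixed-point-free actions

`exists_frobenius_of_fixedPointFree_hom`: a nontrivial finite group acting fixed point freely on a
nontrivial finite group is a Frobenius complement (of the semidirect product).
-/

set_option autoImplicit false

namespace Cfsg.Agent.Frobenius

universe u

/-- A fixed-point-free action gives a Frobenius complement. -/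
theorem exists_frobenius_of_fixedPointFree_hom {K A : Type u} [Group K] [Finite K] [Nontrivial K]
    [Group A] [Finite A] [Nontrivial A] (φ : A →* MulAut K)
    (hφ : ∀ a : A, a ≠ 1 → ∀ k : K, φ a k = k → k = 1) :
    ∃ (L : Type u) (_ : Group L) (_ : Finite L) (H : Subgroup L),
      IsFrobeniusComplement H ∧ Nonempty (A ≃* H) := by
  haveI : Finite (K ⋊[φ] A) := Finite.of_equiv _ SemidirectProduct.equivProd.symm
  let N : Subgroup (K ⋊[φ] A) := (SemidirectProduct.inl : K →* K ⋊[φ] A).range
  let H : Subgroup (K ⋊[φ] A) := (SemidirectProduct.inr : A →* K ⋊[φ] A).range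
  have hN : N.Normal := by
    show (SemidirectProduct.inl : K →* K ⋊[φ] A).range.Normal
    rw [SemidirectProduct.range_inl_eq_ker_rightHom]
    exact MonoidHom.normal_ker _
  have hdisj : Disjoint N H := by
    rw [disjoint_iff_inf_le]
    rintro x ⟨⟨k, rfl⟩, ⟨a, ha⟩⟩
    have h1 : (SemidirectProduct.inr a : K ⋊[φ] A).left = (SemidirectProduct.inl k : K ⋊[φ] A).left :=
      congrArg SemidirectProduct.left ha
    simp only [SemidirectProduct.left_inr, SemidirectProduct.left_inl] at h1
    simp [← h1]
  have hc : Subgroup.IsComplement' N H := by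
    refine Subgroup.isComplement'_of_card_mul_and_disjoint ?_ hdisj
    rw [SemidirectProduct.card, Nat.card_congr
      (MonoidHom.ofInjective (f := (SemidirectProduct.inl : K →* K ⋊[φ] A))
        SemidirectProduct.inl_injective).toEquiv,
      Nat.card_congr (MonoidHom.ofInjective (f := (SemidirectProduct.inr : A →* K ⋊[φ] A))
        SemidirectProduct.inr_injective).toEquiv]
  have hNb : N ≠ ⊥ := by
    obtain ⟨k, hk⟩ := exists_ne (1 : K)
    exact fun h => hk (SemidirectProduct.inl_injective
      ((Subgroup.eq_bot_iff_forall _).mp h _ ⟨k, rfl⟩ |>.trans (map_one _).symm))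
  have hHb : H ≠ ⊥ := by
    obtain ⟨a, ha⟩ := exists_ne (1 : A)
    exact fun h => ha (SemidirectProduct.inr_injective
      ((Subgroup.eq_bot_iff_forall _).mp h _ ⟨a, rfl⟩ |>.trans (map_one _).symm))
  refine ⟨K ⋊[φ] A, inferInstance, inferInstance, H,
    isFrobeniusComplement_of_fixedPointFree hc hNb hHb ?_,
    ⟨MonoidHom.ofInjective SemidirectProduct.inr_injective⟩⟩
  rintro _ ⟨a, rfl⟩ hne
  have ha : a ≠ 1 := fun h => hne (by rw [h, map_one])
  rw [Subgroup.eq_bot_iff_forall]
  rintro _ ⟨⟨k, rfl⟩, hc'⟩
  have hc'' := Subgroup.mem_centralizer_singleton_iff.mp hc'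
  have h1 := congrArg SemidirectProduct.left hc''
  simp only [SemidirectProduct.mul_left, SemidirectProduct.left_inl, SemidirectProduct.left_inr,
    SemidirectProduct.right_inl, SemidirectProduct.right_inr, map_one, one_mul, mul_one] at h1
  rw [hφ a ha k h1.symm, map_one]

/-- Additive version: a fixed-point-free action by additive automorphisms. -/
theorem exists_frobenius_of_fixedPointFree_add {V A : Type u} [AddCommGroup V] [Finite V]
    [Nontrivial V] [Group A] [Finite A] [Nontrivial A] [DistribMulAction A V]
    (h : ∀ a : A, a ≠ 1 → ∀ v : V, a • v = v → v = 0) :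
    ∃ (L : Type u) (_ : Group L) (_ : Finite L) (H : Subgroup L),
      IsFrobeniusComplement H ∧ Nonempty (A ≃* H) := by
  let φ : A →* MulAut (Multiplicative V) :=
    { toFun := fun a => (DistribMulAction.toAddEquiv V a).toMultiplicative
      map_one' := by ext v; exact congrArg Multiplicative.ofAdd (one_smul A v.toAdd)
      map_mul' := fun a b => by ext v; exact congrArg Multiplicative.ofAdd (mul_smul a b v.toAdd) }
  refine exists_frobenius_of_fixedPointFree_hom φ fun a ha k hk => ?_
  have h1 : a • k.toAdd = k.toAdd := congrArg Multiplicative.toAdd hk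
  exact congrArg Multiplicative.ofAdd (h a ha k.toAdd h1)

end Cfsg.Agent.Frobenius
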