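import Cfsg.Agent.Lib.Frobenius.Kernel
import Cfsg.Agent.Lib.Frobenius.FixedPointFree
import Cfsg.Agent.Lib.Coprime.Action

/-!
# Conjugacy of Frobenius complements
-/

set_option autoImplicit false
set_option linter.style.haveILetI false

open scoped Pointwise

namespace Cfsg.Agent.Frobenius

variable {G : Type*} [Group G]

/-- A Frobenius group cannot act fixed-point-freely on a nontrivial abelian group. -/
theorem IsFPF.not_isFrobeniusComplement [Finite G] {A V : Subgroup G} [IsMulCommutative V]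
    (h : IsFPF A V) (hV : V ≠ ⊥) (T : Subgroup A) : ¬ IsFrobeniusComplement T := by
  intro hT
  classical
  obtain ⟨N, hN, hNn, hc⟩ := exists_frobeniusKernel_subgroup hT
  have hNcard : Nat.card N = T.index := hc.index_eq_card.symm
  have hNne : N ≠ ⊥ := fun h0 => by
    have := two_le_index hT
    rw [← hNcard, h0, Subgroup.card_bot] at this
    omega
  have hA : A ≠ ⊥ := fun h0 => by
    haveI : Subsingleton A := by rw [h0]; infer_instance
    exact hT.1 (Subsingleton.elim _ _)
  let B : Option (A ⧸ T) → Subgroup A := fun o =>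
    match o with
    | none => N
    | some q => MulAut.conj q.out • T
  refine h.false_of_partition hV hA (fun o => (B o).map A.subtype)
    (fun o => Subgroup.map_subtype_le _) ?_ ?_ (Nat.card N) ?_
    (h.coprime_of_dvd_card (Subgroup.card_subgroup_dvd_card N))
  · intro o h0
    rw [Subgroup.map_eq_bot_iff_of_injective _ A.subtype_injective] at h0
    rcases o with _ | q
    · exact hNne h0
    · exact (isFrobeniusComplement_conj hT q.out).1 h0
  · intro a ha ha1
    have hmem : ∀ o, a ∈ (B o).map A.subtype ↔ (⟨a, ha⟩ : A) ∈ B o := fun o => by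
      constructor
      · rintro ⟨x, hx, rfl⟩; exact hx
      · exact fun hx => ⟨_, hx, rfl⟩
    simp only [hmem]
    have ha1' : (⟨a, ha⟩ : A) ≠ 1 := fun he => ha1 (congrArg Subtype.val he)
    by_cases hk : (⟨a, ha⟩ : A) ∈ N
    · refine ⟨none, hk, ?_⟩
      rintro (_ | q) hq
      · rfl
      · refine absurd (eq_one_of_mem_frobeniusKernel_of_mem_conj ?_ hq) ha1'
        rw [← hN]; exact hk
    · obtain ⟨-, g, hg⟩ := exists_conj_of_not_mem_frobeniusKernel (H := T)
        (x := (⟨a, ha⟩ : A)) (by rw [← hN]; exact hk)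
      have hq : (⟨a, ha⟩ : A) ∈ B (some (QuotientGroup.mk g)) := by
        show _ ∈ MulAut.conj (QuotientGroup.mk g : A ⧸ T).out • T
        rw [conj_smul_eq_of_inv_mul_mem (g := g)
          (QuotientGroup.eq.1 (QuotientGroup.out_eq' (QuotientGroup.mk g : A ⧸ T)).symm)]
        exact hg
      refine ⟨some (QuotientGroup.mk g), hq, ?_⟩
      rintro (_ | q) hq'
      · exact absurd hq' hk
      · congr 1
        rw [← QuotientGroup.out_eq' q, ← QuotientGroup.out_eq' (QuotientGroup.mk g : A ⧸ T),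
          QuotientGroup.eq]
        exact inv_mul_mem_of_mem_conj hT ha1' hq' hq
  · rw [Finite.card_option, ← Subgroup.index, hNcard]

/-- Elements outside the Frobenius kernel have no fixed points in it. -/
theorem inf_centralizer_eq_bot_of_not_mem {H N : Subgroup G}
    (hH : IsFrobeniusComplement H) (hN : (N : Set G) = frobeniusKernel H) {x : G} (hx : x ∉ N) :
    N ⊓ Subgroup.centralizer {x} = ⊥ := by
  rw [Subgroup.eq_bot_iff_forall]
  rintro y ⟨hy, hyc⟩
  by_contra hy1
  refine hx ?_
  rw [← SetLike.mem_coe, hN]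
  exact mem_frobeniusKernel_of_commute hH (hN ▸ hy) hy1
    (Subgroup.mem_centralizer_singleton_iff.1 hyc)

theorem covered_mono {H₁ H : Subgroup G} (h : H₁ ≤ H) :
    frobeniusKernel H ⊆ frobeniusKernel H₁ := by
  rintro x (hx | hx)
  · exact Or.inl hx
  · exact Or.inr fun g hg => hx g (Subgroup.pointwise_smul_le_pointwise_smul_iff.2 h hg)

/-- No Frobenius complement lies properly inside another. -/
theorem eq_of_le [Finite G] {H₁ H : Subgroup G} (hH₁ : IsFrobeniusComplement H₁)
    (hH : IsFrobeniusComplement H) (hle : H₁ ≤ H) : H₁ = H := by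
  classical
  by_contra hne
  obtain ⟨N, hN, hNn, hc⟩ := exists_frobeniusKernel_subgroup hH
  obtain ⟨N₁, hN₁, hN₁n, hc₁⟩ := exists_frobeniusKernel_subgroup hH₁
  haveI := hNn
  haveI := hN₁n
  have hNN₁ : N ≤ N₁ := by
    intro x hx
    rw [← SetLike.mem_coe, hN₁]
    exact covered_mono hle (hN ▸ hx)
  have hNcard : Nat.card N = H.index := hc.index_eq_card.symm
  have hN₁card : Nat.card N₁ = H₁.index := hc₁.index_eq_card.symm
  -- the index of `N` in `N₁`
  have hrel : N.relIndex N₁ = H₁.relIndex H := by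
    have h1 : Nat.card N * N.relIndex N₁ = Nat.card N₁ := by
      rw [← Nat.card_congr (Subgroup.subgroupOfEquivOfLe hNN₁).toEquiv]
      exact (N.subgroupOf N₁).card_mul_index
    have h2 : H₁.relIndex H * H.index = H₁.index := Subgroup.relIndex_mul_index hle
    rw [hNcard, hN₁card, ← h2, mul_comm (H₁.relIndex H)] at h1
    exact Nat.eq_of_mul_eq_mul_left
      (Nat.pos_of_ne_zero Subgroup.index_ne_zero_of_finite) h1
  have hrel1 : N.relIndex N₁ ≠ 1 := by
    rw [hrel]
    exact fun h1 => hne (le_antisymm hle (Subgroup.relIndex_eq_one.1 h1))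
  obtain ⟨r, hr, hrd⟩ := Nat.exists_prime_and_dvd hrel1
  haveI := Fact.mk hr
  have hrN : ¬ r ∣ Nat.card N := by
    intro hd
    have h1 : r ∣ Nat.card H := by
      rw [hrel] at hrd
      exact hrd.trans (Subgroup.relIndex_dvd_card H₁ H)
    exact hr.ne_one (Nat.eq_one_of_dvd_coprimes (coprime_card_index hH) h1 (hNcard ▸ hd))
  -- an element of prime order in `H₁`
  obtain ⟨p, hp, hpd⟩ := Nat.exists_prime_and_dvd
    (fun h => hH₁.1 (Subgroup.card_eq_one.1 h) : Nat.card H₁ ≠ 1)
  haveI := Fact.mk hp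
  obtain ⟨t, ht⟩ := exists_prime_orderOf_dvd_card' (G := H₁) p hpd
  rw [← Subgroup.orderOf_coe] at ht
  set T : Subgroup G := Subgroup.zpowers (t : G) with hT
  have hTH₁ : T ≤ H₁ := Subgroup.zpowers_le.2 t.2
  have hTcard : Nat.card T = p := by rw [Nat.card_zpowers, ht]
  have hTN₁ : T ⊓ N₁ = ⊥ := le_bot_iff.1 ((inf_le_inf_right _ hTH₁).trans
    (by rw [inf_comm]; exact hc₁.disjoint.le_bot))
  have hTsolv : Group.IsSolvable T :=
    Group.isSolvable_of_comm fun a b => mul_comm' a b
  have hnorm : ∀ K : Subgroup G, K.Normal → T ≤ Subgroup.normalizer (K : Set G) := fun K hK => by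
    haveI := hK; rw [Subgroup.normalizer_eq_top]; exact le_top
  have hcopN₁ : (Nat.card T).Coprime (Nat.card N₁) := by
    rw [hN₁card]
    exact (coprime_card_index hH₁).coprime_dvd_left (Subgroup.card_dvd_of_le hTH₁)
  -- an invariant Sylow subgroup of `N`
  obtain ⟨q, hq, hqd⟩ := Nat.exists_prime_and_dvd
    (by rw [hNcard]; exact fun h => hH.2.1 (Subgroup.index_eq_one.1 h) : Nat.card N ≠ 1)
  haveI := Fact.mk hq
  obtain ⟨Q, hQT⟩ := Coprime.exists_invariant_sylow T N (hnorm N hNn)
    (hcopN₁.coprime_dvd_right (Subgroup.card_dvd_of_le hNN₁)) (Or.inl hTsolv) q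
  set Q' : Subgroup G := (Q : Subgroup N).map N.subtype with hQ'
  set M : Subgroup G := Subgroup.normalizer (Q' : Set G) ⊓ N₁ with hM
  have hMT : T ≤ Subgroup.normalizer (M : Set G) :=
    Coprime.le_normalizer_inf (hQT.trans Subgroup.le_normalizer) (hnorm N₁ hN₁n)
  have hrM : r ∣ Nat.card M := by
    refine hrd.trans ?_
    have hsup : M ⊔ N = N₁ := by
      refine le_antisymm (sup_le inf_le_right hNN₁) fun x hx => ?_
      have h1 : x ∈ ((Subgroup.normalizer (Q' : Set G) ⊔ N : Subgroup G) : Set G) := by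
        rw [Sylow.normalizer_sup_eq_top Q]; trivial
      rw [Subgroup.mul_normal] at h1
      obtain ⟨a, ha, b, hb, rfl⟩ := h1
      refine Subgroup.mul_mem_sup ⟨ha, ?_⟩ hb
      simpa using mul_mem hx (inv_mem (hNN₁ hb))
    have h2 : N.relIndex M = N.relIndex N₁ := by
      rw [← Subgroup.relIndex_sup_right (H := M) (K := N), hsup]
    rw [← h2]
    exact Subgroup.relIndex_dvd_card N M
  obtain ⟨R, hRT⟩ := Coprime.exists_invariant_sylow T M hMT
    (hcopN₁.coprime_dvd_right (Subgroup.card_dvd_of_le inf_le_right)) (Or.inl hTsolv) r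
  set R' : Subgroup G := (R : Subgroup M).map M.subtype with hR'
  have hR'M : R' ≤ M := Subgroup.map_subtype_le _
  have hR'ne : R' ≠ ⊥ := by
    rw [hR', Ne, Subgroup.map_eq_bot_iff_of_injective _ M.subtype_injective]
    exact R.ne_bot_of_dvd_card hrM
  have hR'r : IsPGroup r R' := R.2.map _
  have hRN : R' ⊓ N = ⊥ := Subgroup.inf_eq_bot_of_coprime (by
    obtain ⟨k, hk⟩ := hR'r.exists_card_eq
    rw [hk]
    exact Nat.Coprime.pow_left _ (hr.coprime_iff_not_dvd.2 hrN))
  -- the group `A = R' T`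
  set A : Subgroup G := R' ⊔ T with hA
  have hmulA : (A : Set G) = (R' : Set G) * (T : Set G) :=
    Subgroup.coe_mul_of_right_le_normalizer_left _ _ hRT
  have hAN : A ⊓ N = ⊥ := by
    rw [Subgroup.eq_bot_iff_forall]
    rintro x ⟨hxA, hxN⟩
    rw [SetLike.mem_coe] at hxA hxN
    have hx' : x ∈ (R' : Set G) * (T : Set G) := hmulA ▸ hxA
    obtain ⟨k, hk, s, hs, rfl⟩ := hx'
    have h1 : s ∈ N₁ := by
      simpa using N₁.mul_mem (N₁.inv_mem (hR'M hk).2) (hNN₁ hxN)
    have h2 : s = 1 := Subgroup.mem_bot.1 (hTN₁ ▸ Subgroup.mem_inf.2 ⟨hs, h1⟩)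
    subst h2
    simp only [mul_one] at hxN ⊢
    exact Subgroup.mem_bot.1 (hRN ▸ Subgroup.mem_inf.2 ⟨hk, hxN⟩)
  -- the centre of `Q'`
  set W : Subgroup G := Q' ⊓ Subgroup.centralizer (Q' : Set G) with hW
  have hWne : W ≠ ⊥ := by
    have hQ1 : (Q : Subgroup N) ≠ ⊥ := Q.ne_bot_of_dvd_card hqd
    haveI : Nontrivial (Q : Subgroup N) := (Subgroup.nontrivial_iff_ne_bot _).2 hQ1
    obtain ⟨z, hz⟩ := Subgroup.ne_bot_iff_exists_ne_one.1 Q.2.bot_lt_center.ne'
    intro hbot
    have hmem : (((z : (Q : Subgroup N)) : N) : G) ∈ W := by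
      refine ⟨Subgroup.mem_map_of_mem N.subtype (z : (Q : Subgroup N)).2, ?_⟩
      show _ ∈ Subgroup.centralizer (Q' : Set G)
      rw [Subgroup.mem_centralizer_iff]
      intro x hx
      obtain ⟨y, hy, rfl⟩ := Subgroup.mem_map.1 hx
      exact congrArg (fun t : (Q : Subgroup N) => ((t : N) : G))
        (Subgroup.mem_center_iff.1 z.2 ⟨y, hy⟩)
    rw [hbot, Subgroup.mem_bot] at hmem
    exact hz (Subtype.ext (Subtype.ext (Subtype.ext hmem)))
  haveI : IsMulCommutative W :=
    ⟨⟨fun x y => Subtype.ext (Subgroup.mem_centralizer_iff.1 y.2.2 x x.2.1)⟩⟩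
  have hAQ : A ≤ Subgroup.normalizer (Q' : Set G) := sup_le (hR'M.trans inf_le_left) hQT
  have hWN : W ≤ N := inf_le_left.trans (Subgroup.map_subtype_le _)
  have hfpf : IsFPF A W := by
    refine ⟨Coprime.le_normalizer_inf hAQ (Coprime.le_normalizer_centralizer hAQ), fun a ha ha1 => ?_⟩
    have hnot : a ∉ N := fun hh => ha1 (Subgroup.mem_bot.1 (hAN ▸ Subgroup.mem_inf.2 ⟨ha, hh⟩))
    exact le_bot_iff.1 ((inf_le_inf_right _ hWN).trans
      (inf_centralizer_eq_bot_of_not_mem hH hN hnot).le)
  -- `T` is a Frobenius complement in `A`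
  haveI : (R'.subgroupOf A).Normal :=
    Subgroup.normal_subgroupOf_iff_le_normalizer (le_sup_left) |>.2
      (sup_le Subgroup.le_normalizer hRT)
  have hcA : Subgroup.IsComplement' (R'.subgroupOf A) (T.subgroupOf A) := by
    refine Subgroup.isComplement'_of_disjoint_and_mul_eq_univ ?_ ?_
    · rw [disjoint_iff, Subgroup.eq_bot_iff_forall]
      rintro x ⟨hx, hx'⟩
      refine Subtype.ext (Subgroup.mem_bot.1 ?_)
      rw [← hTN₁]
      exact ⟨hx', (hR'M hx).2⟩
    · refine Set.eq_univ_of_forall fun x => ?_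
      have hx : (x : G) ∈ (R' : Set G) * (T : Set G) := hmulA ▸ x.2
      obtain ⟨k, hk, s, hs, he⟩ := hx
      exact ⟨⟨k, Subgroup.mem_sup_left hk⟩, hk, ⟨s, Subgroup.mem_sup_right hs⟩, hs, Subtype.ext he⟩
  refine hfpf.not_isFrobeniusComplement hWne (T.subgroupOf A)
    (isFrobeniusComplement_of_fixedPointFree hcA ?_ ?_ ?_)
  · rw [Ne, Subgroup.subgroupOf_eq_bot]
    exact fun hd => hR'ne (by simpa using hd.eq_bot_of_le le_sup_left)
  · rw [Ne, Subgroup.subgroupOf_eq_bot]
    intro hd
    have h0 : T = ⊥ := by simpa using hd.eq_bot_of_le le_sup_right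
    rw [h0, Subgroup.card_bot] at hTcard
    exact hp.ne_one hTcard.symm
  · intro s hs hs1
    rw [Subgroup.eq_bot_iff_forall]
    rintro k ⟨hk, hkc⟩
    refine Subtype.ext ?_
    have h1 : (k : G) ∈ H₁ := mem_of_commute hH₁ (x := (s : G)) (by simpa using hs1) (hTH₁ hs)
      (congrArg Subtype.val (Subgroup.mem_centralizer_singleton_iff.1 hkc)).symm
    exact Subgroup.mem_bot.1 (hc₁.disjoint.le_bot ⟨(hR'M hk).2, h1⟩)

/-- Some nonidentity element lies in conjugates of both complements. -/
theorem exists_conj_inf_ne_bot [Finite G] {H H₀ : Subgroup G} (hH : IsFrobeniusComplement H)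
    (hH₀ : IsFrobeniusComplement H₀) : ∃ g : G, H ⊓ MulAut.conj g • H₀ ≠ ⊥ := by
  by_contra hcon
  push Not at hcon
  have hdisj : Disjoint (frobeniusKernel H)ᶜ (frobeniusKernel H₀)ᶜ := by
    rw [Set.disjoint_left]
    intro x hx hx'
    obtain ⟨hx1, a, ha⟩ := exists_conj_of_not_mem_frobeniusKernel hx
    obtain ⟨-, b, hb⟩ := exists_conj_of_not_mem_frobeniusKernel hx'
    have h1 : a⁻¹ * x * a ∈ H ⊓ MulAut.conj (a⁻¹ * b) • H₀ := by
      refine ⟨mem_conj_smul.1 ha, ?_⟩
      show _ ∈ MulAut.conj (a⁻¹ * b) • H₀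
      rw [mem_conj_smul]
      rw [mem_conj_smul] at hb
      simpa [mul_assoc] using hb
    rw [hcon, Subgroup.mem_bot] at h1
    exact hx1 (by simpa [mul_eq_one_iff_eq_inv, inv_mul_eq_one] using h1)
  have h1 := Set.ncard_union_eq hdisj
  have h2 : ((frobeniusKernel H)ᶜ ∪ (frobeniusKernel H₀)ᶜ).ncard < Nat.card G := by
    rw [← Set.ncard_univ]
    refine Set.ncard_lt_ncard ?_ (Set.toFinite _)
    rw [Set.ssubset_univ_iff]
    intro hu
    rcases (hu ▸ Set.mem_univ (1 : G)) with h | h
    · exact h one_mem_frobeniusKernel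
    · exact h one_mem_frobeniusKernel
  have e : ∀ {K : Subgroup G}, IsFrobeniusComplement K →
      Nat.card G ≤ 2 * ((frobeniusKernel K)ᶜ).ncard := by
    intro K hK
    rw [ncard_compl_frobeniusKernel hK, ← K.index_mul_card, Nat.mul_left_comm]
    refine Nat.mul_le_mul_left _ ?_
    have := two_le_card hK
    omega
  have e1 := e hH
  have e2 := e hH₀
  omega

/-- **All Frobenius complements are conjugate.** -/
theorem exists_conj_eq {G : Type*} [Group G] [Finite G] (H H₀ : Subgroup G)
    (hH : IsFrobeniusComplement H) (hH₀ : IsFrobeniusComplement H₀) :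
    ∃ g : G, MulAut.conj g • H₀ = H := by
  obtain ⟨n, hn⟩ : ∃ n, Nat.card G ≤ n := ⟨_, le_rfl⟩
  induction n generalizing G with
  | zero => exact absurd (Nat.le_zero.1 hn) Nat.card_pos.ne'
  | succ n ih =>
    classical
    by_contra hcon
    push Not at hcon
    have hnle : ∀ g, ¬ MulAut.conj g • H₀ ≤ H := fun g hle =>
      hcon g (eq_of_le (isFrobeniusComplement_conj hH₀ g) hH hle)
    have hnge : ∀ g, ¬ H ≤ MulAut.conj g • H₀ := fun g hle =>
      hcon g (eq_of_le hH (isFrobeniusComplement_conj hH₀ g) hle).symm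
    have hHlt : Nat.card H ≤ n := by
      have h1 := H.card_mul_index
      have h2 := two_le_index hH
      have h3 := two_le_card hH
      nlinarith
    have hloc : ∀ g, H ⊓ MulAut.conj g • H₀ ≠ ⊥ →
        IsFrobeniusComplement ((MulAut.conj g • H₀).subgroupOf H) := fun g hg =>
      isFrobeniusComplement_subgroupOf (isFrobeniusComplement_conj hH₀ g)
        (by rwa [inf_comm]) (hnge g)
    obtain ⟨g₁, hg₁⟩ := exists_conj_inf_ne_bot hH hH₀
    set D₁ := (MulAut.conj g₁ • H₀).subgroupOf H with hD₁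
    have hD₁' : IsFrobeniusComplement D₁ := hloc g₁ hg₁
    -- the elements of `H` in conjugates of `H₀`
    have hiff : ∀ h : H, (h : G) ∈ (frobeniusKernel H₀)ᶜ ↔ h ∈ (frobeniusKernel D₁)ᶜ := by
      intro h
      constructor
      · intro hh
        obtain ⟨h1, g, hg⟩ := exists_conj_of_not_mem_frobeniusKernel hh
        have hne : H ⊓ MulAut.conj g • H₀ ≠ ⊥ := fun h0 =>
          h1 (Subgroup.mem_bot.1 (h0 ▸ Subgroup.mem_inf.2 ⟨h.2, hg⟩))
        obtain ⟨k, hk⟩ := ih ((MulAut.conj g • H₀).subgroupOf H) D₁ (hloc g hne) hD₁' hHlt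
        intro hker
        have hmem : h ∈ MulAut.conj k • D₁ := by
          rw [hk]; exact Subgroup.mem_subgroupOf.2 hg
        exact h1 (congrArg Subtype.val (eq_one_of_mem_frobeniusKernel_of_mem_conj hker hmem))
      · intro hh hker
        obtain ⟨h1, k, hk⟩ := exists_conj_of_not_mem_frobeniusKernel hh
        rw [mem_conj_smul, hD₁, Subgroup.mem_subgroupOf, mem_conj_smul] at hk
        refine h1 (Subtype.ext (eq_one_of_mem_frobeniusKernel_of_mem_conj
          (g := (k : G) * g₁) hker ?_))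
        rw [mem_conj_smul]
        simpa [mul_assoc] using hk
    -- counting the elements in conjugates of both
    let S : Set G := (frobeniusKernel H)ᶜ ∩ (frobeniusKernel H₀)ᶜ
    have hS : S.ncard = H.index * (D₁.index * (Nat.card D₁ - 1)) := by
      let f : (G ⧸ H) × ↥((frobeniusKernel D₁)ᶜ) → G := fun qh =>
        qh.1.out * ((qh.2.1 : H) : G) * qh.1.out⁻¹
      have hne : ∀ x : ↥((frobeniusKernel D₁)ᶜ), ((x.1 : H) : G) ≠ 1 := fun x he =>
        x.2 (by rw [show x.1 = 1 from Subtype.ext he]; exact one_mem_frobeniusKernel)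
      have hfinj : Function.Injective f := by
        rintro ⟨q, h⟩ ⟨q', h'⟩ he
        have he' : q.out * ((h.1 : H) : G) * q.out⁻¹ = q'.out * ((h'.1 : H) : G) * q'.out⁻¹ := he
        have hne' : q.out * ((h.1 : H) : G) * q.out⁻¹ ≠ 1 := by
          intro hh
          exact hne h (by simpa [mul_inv_eq_one] using hh)
        have hq : q = q' := by
          rw [← q.out_eq', ← q'.out_eq']
          exact QuotientGroup.eq.2 (inv_mul_mem_of_mem_conj hH hne' (conj_mem_conj_smul h.1.2)
            (he' ▸ conj_mem_conj_smul h'.1.2))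
        subst hq
        simp only [mul_left_inj, mul_right_inj, SetLike.coe_eq_coe] at he'
        rw [Subtype.ext he']
      have himg : Set.range f = S := by
        ext x
        constructor
        · rintro ⟨⟨q, h⟩, rfl⟩
          refine ⟨fun hk => hne h ?_, fun hk => (hiff h.1).2 h.2 ?_⟩
          · have := eq_one_of_mem_frobeniusKernel_of_mem_conj hk
              (conj_mem_conj_smul (g := q.out) h.1.2)
            simpa [f, mul_inv_eq_one] using this
          · have := conj_mem_frobeniusKernel hk q.out⁻¹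
            simpa [f, mul_assoc] using this
        · rintro ⟨hx1, hx2⟩
          obtain ⟨-, g, hg⟩ := exists_conj_of_not_mem_frobeniusKernel hx1
          set q : G ⧸ H := QuotientGroup.mk g with hq
          have hm : g⁻¹ * q.out ∈ H := QuotientGroup.eq.1 (QuotientGroup.out_eq' q).symm
          rw [← conj_smul_eq_of_inv_mul_mem hm, mem_conj_smul] at hg
          refine ⟨(q, ⟨⟨q.out⁻¹ * x * q.out, hg⟩, (hiff _).1 ?_⟩), ?_⟩
          · intro hk
            refine hx2 ?_
            have := conj_mem_frobeniusKernel hk q.out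
            simpa [mul_assoc] using this
          · simp [f, mul_assoc]
      rw [← himg, Set.ncard_range_of_injective hfinj, Nat.card_prod, Nat.card_coe_set_eq,
        ncard_compl_frobeniusKernel hD₁']
      rfl
    have hU : ((frobeniusKernel H)ᶜ ∪ (frobeniusKernel H₀)ᶜ).ncard + 1 ≤ Nat.card G := by
      rw [← Set.ncard_univ]
      refine Nat.succ_le_of_lt (Set.ncard_lt_ncard ?_ (Set.toFinite _))
      rw [Set.ssubset_univ_iff]
      intro hu
      rcases (hu ▸ Set.mem_univ (1 : G)) with h | h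
      · exact h one_mem_frobeniusKernel
      · exact h one_mem_frobeniusKernel
    have hIE := Set.ncard_union_add_ncard_inter (frobeniusKernel H)ᶜ (frobeniusKernel H₀)ᶜ
    rw [ncard_compl_frobeniusKernel hH, ncard_compl_frobeniusKernel hH₀, show
      (frobeniusKernel H)ᶜ ∩ (frobeniusKernel H₀)ᶜ = S from rfl, hS] at hIE
    have hd1 : D₁.index * Nat.card D₁ = Nat.card H := D₁.index_mul_card
    have hd3 : Nat.card D₁ < Nat.card H₀ := by
      have hle : Nat.card D₁ = Nat.card (H ⊓ MulAut.conj g₁ • H₀ : Subgroup G) := by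
        rw [← Subgroup.card_map_of_injective H.subtype_injective, hD₁,
          Subgroup.subgroupOf_map_subtype, inf_comm]
      rw [hle]
      have hc : Nat.card (MulAut.conj g₁ • H₀ : Subgroup G) = Nat.card H₀ :=
        (Nat.card_congr (Subgroup.equivSMul (MulAut.conj g₁) H₀).toEquiv).symm
      rw [← hc]
      refine lt_of_le_of_ne (Subgroup.card_le_of_le inf_le_right) fun he => hnle g₁ ?_
      exact inf_eq_right.1 (Subgroup.eq_of_le_of_card_ge inf_le_right he.ge)
    have hd3' : 2 * Nat.card D₁ ≤ Nat.card H₀ := by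
      have hdvd : Nat.card D₁ ∣ Nat.card H₀ := by
        rw [← Subgroup.card_map_of_injective H.subtype_injective, hD₁,
          Subgroup.subgroupOf_map_subtype,
          Nat.card_congr (Subgroup.equivSMul (MulAut.conj g₁) H₀).toEquiv]
        exact Subgroup.card_dvd_of_le inf_le_left
      obtain ⟨m, hm⟩ := hdvd
      rcases m with _ | _ | m
      · omega
      · omega
      · rw [hm]; nlinarith
    have hG : H.index * Nat.card H = Nat.card G := H.index_mul_card
    have hG₀ : H₀.index * Nat.card H₀ = Nat.card G := H₀.index_mul_card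
    have hD2 := two_le_index hD₁'
    have hDc := two_le_card hD₁'
    have hH2 := two_le_card hH
    have hH₀2 := two_le_card hH₀
    obtain ⟨c, hc⟩ : ∃ c, Nat.card D₁ = c + 1 := Nat.exists_eq_add_one.2 (by omega)
    obtain ⟨a, ha⟩ : ∃ a, Nat.card H = a + 1 := Nat.exists_eq_add_one.2 (by omega)
    obtain ⟨b, hb⟩ : ∃ b, Nat.card H₀ = b + 1 := Nat.exists_eq_add_one.2 (by omega)
    simp only [hc, ha, hb, Nat.add_sub_cancel] at hIE hd1 hG hG₀ hd3'
    have k1 : 2 * H₀.index ≤ H.index * D₁.index := by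
      refine Nat.le_of_mul_le_mul_right (c := c + 1) ?_ (by omega)
      rw [mul_assoc H.index, hd1, hG, ← hG₀, mul_comm 2, mul_assoc]
      exact Nat.mul_le_mul_left _ hd3'
    have k2 : H.index * (D₁.index * c) + H.index * D₁.index = Nat.card G := by
      rw [← hG, ← hd1]; ring
    have k3 : H.index * 2 ≤ H.index * D₁.index := Nat.mul_le_mul_left _ hD2
    have k4 : H.index * a + H.index = Nat.card G := by rw [← hG]; ring
    have k5 : H₀.index * b + H₀.index = Nat.card G := by rw [← hG₀]; ring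
    omega

end Cfsg.Agent.Frobenius
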