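import Cfsg.Agent.Lib.Frobenius.Construct
import Cfsg.Agent.Lib.Frobenius.Nilpotent
import Mathlib.RepresentationTheory.Maschke
import Mathlib.LinearAlgebra.Dual.Lemmas
import Mathlib.Algebra.Module.ZMod

/-!
# Fixed-point-free groups in every characteristic

A finite group acting fixed point freely on some finite group has a nonzero integral function
whose sums over all cosets of subgroups of prime order vanish; such a function gives a
fixed-point-free module over every field in which the group order is invertible.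
-/

set_option autoImplicit false
set_option linter.style.haveILetI false

namespace Cfsg.Agent.Frobenius.CharChange

open Subgroup MonoidAlgebra
open scoped MonoidAlgebra

universe u v

variable (A : Type u) [Group A]

/-- The functions all of whose sums over cosets of prime order subgroups vanish. -/
def sol (K : Type v) [CommRing K] : Submodule K (A → K) where
  carrier := {f | ∀ x : A, (orderOf x).Prime → ∀ a : A,
    ∑ i ∈ Finset.range (orderOf x), f (x ^ i * a) = 0}
  zero_mem' := fun x _ a => by simp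
  add_mem' := fun hf hg x hx a => by
    simp only [Pi.add_apply, Finset.sum_add_distrib, hf x hx a, hg x hx a, add_zero]
  smul_mem' := fun c f hf x hx a => by
    simp only [Pi.smul_apply, ← Finset.smul_sum, hf x hx a, smul_zero]

variable {A}

theorem mem_sol {K : Type v} [CommRing K] {f : A → K} :
    f ∈ sol A K ↔ ∀ x : A, (orderOf x).Prime → ∀ a : A,
      ∑ i ∈ Finset.range (orderOf x), f (x ^ i * a) = 0 := Iff.rfl

theorem shift_mem_sol {K : Type v} [CommRing K] (b : A) {f : A → K} (hf : f ∈ sol A K) :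
    (fun a => f (b⁻¹ * a)) ∈ sol A K := by
  intro x hx a
  have ho : orderOf (b⁻¹ * x * b) = orderOf x := by
    have := MulEquiv.orderOf_eq (MulAut.conj b⁻¹) x
    simpa using this
  have h := hf (b⁻¹ * x * b) (by rw [ho]; exact hx) (b⁻¹ * a)
  rw [ho] at h
  refine Eq.trans (Finset.sum_congr rfl fun i _ => ?_) h
  rw [show (b⁻¹ * x * b) ^ i = b⁻¹ * x ^ i * b by
    have := map_pow (MulAut.conj b⁻¹) x i
    simpa using this.symm]
  group

/-- Left translation makes `sol` a module without fixed points. -/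
theorem exists_action [Finite A] (K : Type v) [Field K] (hK : (Nat.card A : K) ≠ 0) :
    ∃ ρ : A →* Module.End K (sol A K), ∀ b : A, b ≠ 1 → ∀ f, ρ b f = f → f = 0 := by
  let T : A → Module.End K (sol A K) := fun b =>
    { toFun := fun f => ⟨fun a => f.1 (b⁻¹ * a), shift_mem_sol b f.2⟩
      map_add' := fun f g => rfl
      map_smul' := fun c f => rfl }
  refine ⟨{ toFun := T
            map_one' := LinearMap.ext fun f => Subtype.ext (funext fun a => by simp [T])
            map_mul' := fun b c => LinearMap.ext fun f =>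
              Subtype.ext (funext fun a => by simp [T, mul_assoc]) }, fun b hb f hf => ?_⟩
  have hfix : ∀ a, f.1 (b⁻¹ * a) = f.1 a := fun a => congrFun (congrArg Subtype.val hf) a
  have hpow : ∀ (n : ℕ) (a : A), f.1 (b⁻¹ ^ n * a) = f.1 a := by
    intro n
    induction n with
    | zero => simp
    | succ n ih => intro a; rw [pow_succ', mul_assoc, hfix, ih]
  obtain ⟨q, hq, hqd⟩ := Nat.exists_prime_and_dvd (mt orderOf_eq_one_iff.mp (inv_ne_one.mpr hb))
  set x := b⁻¹ ^ (orderOf b⁻¹ / q) with hx
  have hxo : orderOf x = q := orderOf_pow_orderOf_div (orderOf_pos _).ne' hqd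
  refine Subtype.ext (funext fun a => ?_)
  have h := f.2 x (by rw [hxo]; exact hq) a
  simp only [hx, ← pow_mul, hpow, Finset.sum_const, Finset.card_range] at h
  rw [← hx, hxo, nsmul_eq_mul, mul_eq_zero] at h
  refine h.resolve_left fun h0 => hK ?_
  obtain ⟨c, hc⟩ := (hqd.trans (orderOf_dvd_natCard b⁻¹))
  rw [hc, Nat.cast_mul, h0, zero_mul]

/-- Reindexing along an isomorphism. -/
theorem sol_comp_equiv {B : Type*} [Group B] (e : A ≃* B) {K : Type v} [CommRing K] {f : B → K}
    (hf : f ∈ sol B K) : (fun a => f (e a)) ∈ sol A K := by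
  intro x hx a
  have h := hf (e x) (by rw [MulEquiv.orderOf_eq]; exact hx) (e a)
  rw [MulEquiv.orderOf_eq] at h
  simpa using h

/-- The element `∑ xⁱ` of the group algebra. -/
noncomputable def normElt (R : Type v) [CommRing R] (x : A) : MonoidAlgebra R A :=
  ∑ i ∈ Finset.range (orderOf x), MonoidAlgebra.single (x ^ i) 1

theorem normElt_mul_self (R : Type v) [CommRing R] (x : A) [Finite A] :
    normElt R x * normElt R x = (orderOf x : R) • normElt R x := by
  have h1 : ∀ i : ℕ, MonoidAlgebra.single (x ^ i) (1 : R) * normElt R x = normElt R x := by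
    intro i
    induction i with
    | zero => rw [pow_zero, ← MonoidAlgebra.one_def, one_mul]
    | succ i ih =>
      rw [show MonoidAlgebra.single (x ^ (i + 1)) (1 : R) =
          MonoidAlgebra.single x 1 * MonoidAlgebra.single (x ^ i) 1 by
        rw [MonoidAlgebra.single_mul_single, one_mul, pow_succ'], mul_assoc, ih]
      have h2 := Finset.sum_range_succ (fun j => MonoidAlgebra.single (x ^ j) (1 : R)) (orderOf x)
      rw [Finset.sum_range_succ', pow_orderOf_eq_one, pow_zero, add_left_inj] at h2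
      conv_rhs => rw [normElt, ← h2]
      rw [normElt, Finset.mul_sum]
      refine Finset.sum_congr rfl fun j _ => ?_
      rw [MonoidAlgebra.single_mul_single, mul_one, pow_succ']
  conv_lhs => arg 1; rw [normElt]
  rw [Finset.sum_mul]
  rw [Finset.sum_congr rfl (fun i _ => h1 i), Finset.sum_const, Finset.card_range, Nat.cast_smul_eq_nsmul]

theorem mapRingHom_normElt {R S : Type*} [CommRing R] [CommRing S] (f : R →+* S) (x : A) :
    MonoidAlgebra.mapRingHom A f (normElt R x) = normElt S x := by
  simp [normElt, map_sum]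

/-- In characteristic prime to the order: a nonzero central element killed by all `normElt`. -/
theorem exists_central_annihilator [Finite A] {p : ℕ} [hp : Fact p.Prime]
    (hpA : ¬ p ∣ Nat.card A) {V : Type v} [AddCommGroup V] [Module (ZMod p) V] [Nontrivial V]
    (ρ : A →* Module.End (ZMod p) V) (hfpf : ∀ a : A, a ≠ 1 → ∀ w, ρ a w = w → w = 0) :
    ∃ e : MonoidAlgebra (ZMod p) A, e ≠ 0 ∧ IsIdempotentElem e ∧ (∀ r, e * r = r * e) ∧
      ∀ x : A, (orderOf x).Prime → normElt (ZMod p) x * e = 0 := by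
  classical
  haveI : NeZero (Nat.card A : ZMod p) :=
    ⟨fun h => hpA ((ZMod.natCast_eq_zero_iff _ _).mp h)⟩
  set π := MonoidAlgebra.lift (ZMod p) (Module.End (ZMod p) V) A ρ with hπ
  have hπN : ∀ x : A, (orderOf x).Prime → π (normElt (ZMod p) x) = 0 := by
    intro x hx
    have hx1 : x ≠ 1 := fun h => by rw [h, orderOf_one] at hx; exact Nat.not_prime_one hx
    refine LinearMap.ext fun w => ?_
    have h0 : π (normElt (ZMod p) x) w = ∑ i ∈ Finset.range (orderOf x), ρ (x ^ i) w := by
      simp [normElt, hπ, LinearMap.sum_apply]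
    rw [h0, LinearMap.zero_apply]
    refine hfpf x hx1 _ ?_
    rw [map_sum]
    have h1 := Finset.sum_range_succ (fun i => ρ (x ^ i) w) (orderOf x)
    rw [Finset.sum_range_succ', pow_orderOf_eq_one, pow_zero, add_left_inj] at h1
    refine Eq.trans (Finset.sum_congr rfl fun i _ => ?_) h1
    rw [pow_succ', map_mul]
    rfl
  set J : Ideal (MonoidAlgebra (ZMod p) A) := Ideal.span
    {y | ∃ x : A, (orderOf x).Prime ∧ ∃ r, y = normElt (ZMod p) x * r} with hJ
  have hJr : ∀ y ∈ J, ∀ b, y * b ∈ J := by
    intro y hy b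
    induction hy using Submodule.span_induction with
    | mem z hz =>
      obtain ⟨x, hx, r, rfl⟩ := hz
      exact Ideal.subset_span ⟨x, hx, r * b, mul_assoc _ _ _⟩
    | zero => rw [zero_mul]; exact J.zero_mem
    | add z w _ _ hz hw => rw [add_mul]; exact J.add_mem hz hw
    | smul c z _ hz => rw [smul_eq_mul, mul_assoc]; exact J.mul_mem_left c hz
  have hJπ : ∀ y ∈ J, π y = 0 := by
    intro y hy
    induction hy using Submodule.span_induction with
    | mem z hz =>
      obtain ⟨x, hx, r, rfl⟩ := hz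
      rw [map_mul, hπN x hx, zero_mul]
    | zero => exact map_zero π
    | add z w _ _ hz hw => rw [map_add, hz, hw, add_zero]
    | smul c z _ hz => rw [smul_eq_mul, map_mul, hz, mul_zero]
  -- no nonzero left ideal squares to zero
  have hsq : ∀ L : Ideal (MonoidAlgebra (ZMod p) A), (∀ r ∈ L, ∀ s ∈ L, r * s = 0) → L = ⊥ := by
    intro L hL
    obtain ⟨L', hc⟩ := MonoidAlgebra.Submodule.exists_isCompl L
    obtain ⟨l, hl, l', hl', h1⟩ := Submodule.mem_sup.mp
      (hc.sup_eq_top.ge (Submodule.mem_top (x := (1 : MonoidAlgebra (ZMod p) A))))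
    rw [eq_bot_iff]
    intro r hr
    have h2 : r = r * l' := by
      calc r = r * (l + l') := by rw [h1, mul_one]
        _ = r * l' := by rw [mul_add, hL r hr l hl, zero_add]
    have h3 : r ∈ L' := h2 ▸ L'.smul_mem r hl'
    exact hc.disjoint.le_bot ⟨hr, h3⟩
  obtain ⟨J', hc⟩ := MonoidAlgebra.Submodule.exists_isCompl J
  obtain ⟨j, hj, e, he, h1⟩ := Submodule.mem_sup.mp
    (hc.sup_eq_top.ge (Submodule.mem_top (x := (1 : MonoidAlgebra (ZMod p) A))))
  have hre : ∀ r ∈ J, r * e = 0 := fun r hr => (Submodule.mem_bot _).mp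
    (hc.disjoint.le_bot ⟨hJr r hr e, J'.smul_mem r he⟩)
  have hidem : e * e = e := by
    conv_rhs => rw [← one_mul e, ← h1, add_mul, hre j hj, zero_add]
  have her : ∀ r ∈ J, e * r = 0 := by
    intro r hr
    have hL := hsq (Ideal.span {y | ∃ s ∈ J, y = e * s}) ?_
    · exact (Submodule.mem_bot _).mp (hL.le (Ideal.subset_span ⟨r, hr, rfl⟩))
    intro y hy z hz
    have hyJ : y ∈ J := by
      induction hy using Submodule.span_induction with
      | mem w hw => obtain ⟨s, hs, rfl⟩ := hw; exact J.mul_mem_left e hs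
      | zero => exact J.zero_mem
      | add a b _ _ ha hb => exact J.add_mem ha hb
      | smul c a _ ha => exact J.smul_mem c ha
    induction hz using Submodule.span_induction generalizing y with
    | mem w hw => obtain ⟨s, hs, rfl⟩ := hw; rw [← mul_assoc, hre y hyJ, zero_mul]
    | zero => rw [mul_zero]
    | add a b _ _ ha hb => rw [mul_add, ha y hy hyJ, hb y hy hyJ, add_zero]
    | smul c a _ ha =>
      rw [smul_eq_mul, ← mul_assoc]
      have hyc : y * c ∈ Ideal.span {y | ∃ s ∈ J, y = e * s} := by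
        clear hyJ
        induction hy using Submodule.span_induction with
        | mem w hw =>
          obtain ⟨s, hs, rfl⟩ := hw
          exact Ideal.subset_span ⟨s * c, hJr s hs c, mul_assoc _ _ _⟩
        | zero => rw [zero_mul]; exact Submodule.zero_mem _
        | add u w _ _ hu hw => rw [add_mul]; exact Submodule.add_mem _ hu hw
        | smul k u _ hu => rw [smul_eq_mul, mul_assoc]; exact Submodule.smul_mem _ k hu
      exact ha _ hyc (hJr y hyJ c)
  have hje : j = 1 - e := eq_sub_of_add_eq h1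
  refine ⟨e, ?_, hidem, fun r => ?_, fun x hx => ?_⟩
  · intro h0
    rw [h0, add_zero] at h1
    have h2 := hJπ j hj
    rw [h1, map_one] at h2
    obtain ⟨w, hw⟩ := exists_ne (0 : V)
    exact hw (LinearMap.congr_fun h2 w)
  · have a1 : e * (r * j) = 0 := her _ (J.mul_mem_left r hj)
    have a2 : j * r * e = 0 := hre _ (hJr j hj r)
    rw [hje, mul_sub, mul_one, mul_sub, sub_eq_zero] at a1
    rw [hje, sub_mul, one_mul, sub_mul, sub_eq_zero] at a2
    exact a1.trans ((mul_assoc e r e).symm.trans a2.symm)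
  · exact hre _ (Ideal.subset_span ⟨x, hx, 1, (mul_one _).symm⟩)

/-- The integral statement: the span of the `normElt x * a` contains no nonzero multiple of `1`. -/
theorem smul_one_eq_zero_of_mem_span [Finite A] {p : ℕ} [hp : Fact p.Prime]
    (hpA : ¬ p ∣ Nat.card A) {e : MonoidAlgebra (ZMod p) A} (he0 : e ≠ 0)
    (heidem : IsIdempotentElem e) (hec : ∀ r, e * r = r * e)
    (heN : ∀ x : A, (orderOf x).Prime → normElt (ZMod p) x * e = 0) (d : ℤ)
    (hd : d • (1 : MonoidAlgebra ℤ A) ∈ Submodule.span ℤ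
      {w | ∃ x : A, (orderOf x).Prime ∧ ∃ a : A, w = normElt ℤ x * MonoidAlgebra.single a 1}) :
    d = 0 := by
  classical
  haveI := Fintype.ofFinite A
  let φ := MonoidAlgebra.mapRingHom A (Int.castRingHom (ZMod p))
  have hφs : ∀ (a : A) (z : ℤ), φ (MonoidAlgebra.single a z) = MonoidAlgebra.single a (z : ZMod p) :=
    fun a z => by simp [φ]
  have hsurj : Function.Surjective φ := by
    intro y
    induction y using MonoidAlgebra.induction_on with
    | of g => exact ⟨MonoidAlgebra.single g 1, by simp [φ, MonoidAlgebra.of_apply]⟩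
    | add f g hf hg =>
      obtain ⟨a, rfl⟩ := hf; obtain ⟨b, rfl⟩ := hg
      exact ⟨a + b, map_add _ _ _⟩
    | smul r f hf =>
      obtain ⟨a, rfl⟩ := hf
      obtain ⟨z, rfl⟩ := ZMod.intCast_surjective r
      exact ⟨z • a, by rw [map_zsmul, Int.cast_smul_eq_zsmul]⟩
  obtain ⟨u₀, hu₀⟩ := hsurj e
  let u : MonoidAlgebra ℤ A :=
    ∑ g : A, MonoidAlgebra.single g 1 * u₀ * MonoidAlgebra.single g⁻¹ 1
  have huc : ∀ r, Commute u r := by
    intro r
    induction r using MonoidAlgebra.induction_on with
    | of h =>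
      show u * MonoidAlgebra.of ℤ A h = MonoidAlgebra.of ℤ A h * u
      rw [MonoidAlgebra.of_apply]
      simp only [u, Finset.sum_mul, Finset.mul_sum]
      refine (Fintype.sum_equiv (Equiv.mulLeft h) _ _ fun g => ?_).symm
      simp only [Equiv.coe_mulLeft, mul_inv_rev, mul_assoc, MonoidAlgebra.single_mul_single,
        one_mul, mul_one]
      rw [inv_mul_cancel, mul_one, ← mul_assoc, MonoidAlgebra.single_mul_single, one_mul]
    | add f g hf hg => exact hf.add_right hg
    | smul r f hf => exact hf.smul_right r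
  have huφ : φ u = (Nat.card A : ZMod p) • e := by
    simp only [u, map_sum, map_mul, hu₀, hφs, Int.cast_one]
    rw [Finset.sum_congr rfl (g := fun _ => e) fun g _ => by
      rw [← hec, mul_assoc, MonoidAlgebra.single_mul_single, mul_inv_cancel, one_mul,
        ← MonoidAlgebra.one_def, mul_one]]
    rw [Finset.sum_const, Finset.card_univ, ← Nat.card_eq_fintype_card, Nat.cast_smul_eq_nsmul]
  by_contra hd0
  -- a power of `p` not dividing `d`
  obtain ⟨k, hk⟩ : ∃ k : ℕ, ¬ (p : ℤ) ^ (k + 1) ∣ d := by
    refine ⟨d.natAbs, fun h => ?_⟩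
    have h2 := Nat.le_of_dvd (Int.natAbs_pos.mpr hd0) (Int.natAbs_dvd_natAbs.mpr h)
    rw [Int.natAbs_pow, Int.natAbs_natCast] at h2
    have h3 := Nat.lt_pow_self (n := d.natAbs + 1) hp.out.one_lt
    omega
  set m := Nat.card A
  have hker : ∀ w, φ w = 0 → ∃ w', w = (p : ℤ) • w' := by
    intro w hw
    refine ⟨MonoidAlgebra.ofCoeff (w.coeff.mapRange (fun z => z / (p : ℤ)) (Int.zero_ediv _)), ?_⟩
    ext a
    have h1 : ((w.coeff a : ℤ) : ZMod p) = 0 := by
      have := congrArg (fun t : MonoidAlgebra (ZMod p) A => t.coeff a) hw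
      simpa [φ] using this
    rw [MonoidAlgebra.coeff_smul_apply, MonoidAlgebra.coeff_ofCoeff, Finsupp.mapRange_apply,
      smul_eq_mul, Int.mul_ediv_cancel' ((ZMod.intCast_zmod_eq_zero_iff_dvd _ _).mp h1)]
  have hkey : ∀ w ∈ Submodule.span ℤ
      {w | ∃ x : A, (orderOf x).Prime ∧ ∃ a : A, w = normElt ℤ x * MonoidAlgebra.single a 1},
      ∃ w', (m : ℤ) ^ k • (w * u ^ (k + 1)) = (p : ℤ) ^ (k + 1) • w' := by
    intro w hw
    induction hw using Submodule.span_induction with
    | mem z hz =>
      obtain ⟨x, hx, a, rfl⟩ := hz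
      obtain ⟨c, hc⟩ : orderOf x ∣ m := orderOf_dvd_natCard x
      have hN : φ (normElt ℤ x * u) = 0 := by
        rw [map_mul, mapRingHom_normElt, huφ, mul_smul_comm, heN x hx, smul_zero]
      obtain ⟨v, hv⟩ := hker _ hN
      have hpw : ∀ i : ℕ, (orderOf x : ℤ) ^ i • (normElt ℤ x * u ^ (i + 1)) =
          (normElt ℤ x * u) ^ (i + 1) := by
        intro i
        induction i with
        | zero => simp
        | succ i ih =>
          calc (orderOf x : ℤ) ^ (i + 1) • (normElt ℤ x * u ^ (i + 1 + 1))
              = (orderOf x : ℤ) ^ i • ((orderOf x : ℤ) • normElt ℤ x * u ^ (i + 1) * u) := by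
                rw [pow_succ, mul_smul, smul_mul_assoc, smul_mul_assoc, pow_succ u (i + 1), mul_assoc]
            _ = (orderOf x : ℤ) ^ i • (normElt ℤ x * normElt ℤ x * u ^ (i + 1) * u) := by
                rw [normElt_mul_self]
            _ = (orderOf x : ℤ) ^ i • (normElt ℤ x * u ^ (i + 1) * (normElt ℤ x * u)) := by
                simp only [mul_assoc]
                rw [← mul_assoc (u ^ (i + 1)) (normElt ℤ x), ((huc (normElt ℤ x)).pow_left (i + 1)).eq,
                  mul_assoc]
            _ = _ := by rw [← smul_mul_assoc, ih, ← pow_succ]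
      refine ⟨(c : ℤ) ^ k • (v ^ (k + 1) * MonoidAlgebra.single a 1), ?_⟩
      rw [mul_assoc, ((huc (MonoidAlgebra.single a 1)).pow_left (k + 1)).symm.eq, ← mul_assoc, hc,
        Nat.cast_mul, mul_pow, mul_comm ((orderOf x : ℤ) ^ k), mul_smul,
        ← smul_mul_assoc ((orderOf x : ℤ) ^ k), hpw, hv, smul_pow, smul_mul_assoc, smul_comm]
    | zero => exact ⟨0, by simp⟩
    | add y z _ _ hy hz =>
      obtain ⟨a, ha⟩ := hy; obtain ⟨b, hb⟩ := hz
      exact ⟨a + b, by rw [add_mul, smul_add, ha, hb, smul_add]⟩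
    | smul r y _ hy =>
      obtain ⟨a, ha⟩ := hy
      exact ⟨r • a, by rw [smul_mul_assoc, smul_comm, ha, smul_comm]⟩
  obtain ⟨w', hw'⟩ := hkey _ hd
  rw [smul_mul_assoc, one_mul, smul_smul] at hw'
  -- a coefficient prime to `p`
  obtain ⟨a, ha⟩ : ∃ a, (e.coeff a : ZMod p) ≠ 0 := by
    by_contra h
    push Not at h
    exact he0 (MonoidAlgebra.ext (Finsupp.ext fun a => by simpa using h a))
  have hcoef : ¬ (p : ℤ) ∣ (u ^ (k + 1)).coeff a := by
    rw [← ZMod.intCast_zmod_eq_zero_iff_dvd]
    intro h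
    have h2 : (φ (u ^ (k + 1))).coeff a = 0 := by
      rw [show (φ (u ^ (k + 1))).coeff a = (((u ^ (k + 1)).coeff a : ℤ) : ZMod p) by simp [φ, -map_pow], h]
    rw [map_pow, huφ, smul_pow, heidem.pow_succ_eq, MonoidAlgebra.coeff_smul_apply, smul_eq_mul,
      mul_eq_zero] at h2
    exact h2.elim (pow_ne_zero _ fun h3 => hpA ((ZMod.natCast_eq_zero_iff _ _).mp h3)) ha
  have h3 : (p : ℤ) ^ (k + 1) ∣ (m : ℤ) ^ k * d * (u ^ (k + 1)).coeff a := by
    have h4 := congrArg (fun t : MonoidAlgebra ℤ A => t.coeff a) hw'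
    simp only [MonoidAlgebra.coeff_smul_apply, smul_eq_mul] at h4
    exact ⟨_, h4⟩
  have hpi : Prime (p : ℤ) := Nat.prime_iff_prime_int.mp hp.out
  refine hk ?_
  have hm : IsCoprime ((p : ℤ) ^ (k + 1)) ((m : ℤ) ^ k) :=
    ((hpi.coprime_iff_not_dvd.mpr (by exact_mod_cast hpA)).pow)
  have hu : IsCoprime ((p : ℤ) ^ (k + 1)) ((u ^ (k + 1)).coeff a) :=
    (hpi.coprime_iff_not_dvd.mpr hcoef).pow_left
  exact hm.dvd_of_dvd_mul_left (hu.dvd_of_dvd_mul_right h3)

/-- The annihilator from an action on a group of exponent `p`. -/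
theorem exists_annihilator_of_exponent [Finite A] {p : ℕ} [hp : Fact p.Prime] {M : Type v}
    [CommGroup M] [Finite M] [Nontrivial M] (hexp : ∀ m : M, m ^ p = 1) (β : A →* MulAut M)
    (hfpf : ∀ a : A, a ≠ 1 → ∀ m : M, β a m = m → m = 1) :
    ¬ p ∣ Nat.card A ∧ ∃ e : MonoidAlgebra (ZMod p) A, e ≠ 0 ∧ IsIdempotentElem e ∧
      (∀ r, e * r = r * e) ∧ ∀ x : A, (orderOf x).Prime → normElt (ZMod p) x * e = 0 := by
  have hpA : ¬ p ∣ Nat.card A := by
    intro hd
    obtain ⟨b, hb⟩ := exists_prime_orderOf_dvd_card' p hd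
    have hb1 : b ≠ 1 := fun h => by rw [h, orderOf_one] at hb; exact hp.out.one_lt.ne hb
    letI : MulAction (zpowers b) M :=
      MulAction.compHom M (β.comp (zpowers b).subtype)
    have hpg : IsPGroup p (zpowers b) :=
      IsPGroup.of_card (n := 1) (by rw [Nat.card_zpowers, hb, pow_one])
    have hMp : IsPGroup p M := fun m => ⟨1, by rw [pow_one]; exact hexp m⟩
    obtain ⟨n, hn, hcard⟩ := hMp.nontrivial_iff_card.mp inferInstance
    obtain ⟨m, hm, hm1⟩ := hpg.exists_fixed_point_of_prime_dvd_card_of_fixed_point (α := M)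
      (hcard ▸ dvd_pow_self p hn.ne') (a := 1) (fun g => map_one (β (g : A)))
    exact hm1 (hfpf b hb1 m (hm ⟨b, mem_zpowers b⟩)).symm
  have hexp' : ∀ m : Additive M, p • m = 0 := fun m => congrArg Additive.ofMul (hexp m.toMul)
  haveI : Module (ZMod p) (Additive M) := by exact AddCommGroup.zmodModule hexp'
  let T : A → (Additive M →+ Additive M) := fun a => MonoidHom.toAdditive (β a).toMonoidHom
  have h1 : (T 1).toZModLinearMap p = (1 : Module.End (ZMod p) (Additive M)) := by
    refine LinearMap.ext fun w => ?_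
    show Additive.ofMul (β 1 w.toMul) = w
    rw [map_one]; rfl
  have h2 : ∀ a b : A, (T (a * b)).toZModLinearMap p =
      ((T a).toZModLinearMap p * (T b).toZModLinearMap p : Module.End (ZMod p) (Additive M)) := by
    intro a b
    refine LinearMap.ext fun w => ?_
    show Additive.ofMul (β (a * b) w.toMul) = Additive.ofMul (β a (β b w.toMul))
    rw [map_mul]; rfl
  let ρ : A →* Module.End (ZMod p) (Additive M) :=
    { toFun := fun a => (T a).toZModLinearMap p
      map_one' := h1
      map_mul' := h2 }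
  exact ⟨hpA, exists_central_annihilator hpA ρ fun a ha w hw =>
    congrArg Additive.ofMul (hfpf a ha w.toMul (congrArg Additive.toMul hw))⟩

/-- A group acting fixed point freely on a nontrivial finite group has a primitive integral
solution. -/
theorem exists_int_sol [Finite A] [Nontrivial A] {V : Type v} [Group V] [Finite V] [Nontrivial V]
    (α : A →* MulAut V) (hfpf : ∀ a : A, a ≠ 1 → ∀ w : V, α a w = w → w = 1) :
    ∃ f : A → ℤ, f ∈ sol A ℤ ∧ ∀ q : ℕ, q.Prime → ∃ a, ¬ (q : ℤ) ∣ f a := by
  classical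
  haveI := Fintype.ofFinite A
  -- an elementary abelian module
  obtain ⟨r, hr, hrd⟩ := Nat.exists_prime_and_dvd (Finite.one_lt_card (α := A)).ne'
  haveI := Fact.mk hr
  obtain ⟨a0, ha0⟩ := exists_prime_orderOf_dvd_card' r hrd
  haveI hnil : Group.IsNilpotent V := isNilpotent_of_fixedPointFree V (α a0)
    (hfpf a0 fun h => by rw [h, orderOf_one] at ha0; exact hr.one_lt.ne ha0) hr
    (by rw [← map_pow, ← ha0, pow_orderOf_eq_one, map_one])
  haveI : Nontrivial (center V) :=
    (nontrivial_iff_ne_bot _).mpr (Group.IsNilpotent.center_ne_bot (G := V))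
  obtain ⟨p, hp, hpd⟩ := Nat.exists_prime_and_dvd (Finite.one_lt_card (α := center V)).ne'
  haveI := Fact.mk hp
  letI : CommGroup (center V) :=
    { (inferInstance : Group (center V)) with
      mul_comm := fun a b => Subtype.ext (mem_center_iff.mp b.2 (a : V)) }
  let W : Subgroup (center V) := (powMonoidHom p : center V →* center V).ker
  have hW1 : ∀ w : W, (((w : center V) : V)) ^ p = 1 := fun w =>
    congrArg Subtype.val (MonoidHom.mem_ker.mp w.2)
  have hW : ∀ (a : A) (w : W), α a ((w : center V) : V) ∈ center V := fun a w =>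
    mem_center_iff.mpr fun g => by
      obtain ⟨g', rfl⟩ := (α a).surjective g
      rw [← map_mul, ← map_mul, mem_center_iff.mp (w : center V).2 g']
  let T0 : A → (W →* W) := fun a =>
    ((((α a).toMonoidHom.comp (center V).subtype).comp W.subtype).codRestrict (center V)
      (fun w => hW a w)).codRestrict W fun w => MonoidHom.mem_ker.mpr
        (Subtype.ext (by
          show (α a ((w : center V) : V)) ^ p = 1
          rw [← map_pow, hW1 w, map_one]))
  obtain ⟨z0, hz0⟩ := exists_prime_orderOf_dvd_card' p hpd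
  haveI : Nontrivial W := by
    refine ⟨⟨⟨z0, MonoidHom.mem_ker.mpr (by rw [powMonoidHom_apply, ← hz0, pow_orderOf_eq_one])⟩,
      1, fun h => ?_⟩⟩
    have h1 : z0 = 1 := congrArg Subtype.val h
    rw [h1, orderOf_one] at hz0
    exact hp.one_lt.ne hz0
  let β : A →* MulAut W :=
    { toFun := fun a =>
        { toFun := T0 a
          invFun := T0 a⁻¹
          left_inv := fun w => Subtype.ext (Subtype.ext (show α a⁻¹ (α a ((w : center V) : V)) =
            ((w : center V) : V) by rw [← MulAut.mul_apply, ← map_mul, inv_mul_cancel, map_one]; rfl))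
          right_inv := fun w => Subtype.ext (Subtype.ext (show α a (α a⁻¹ ((w : center V) : V)) =
            ((w : center V) : V) by rw [← MulAut.mul_apply, ← map_mul, mul_inv_cancel, map_one]; rfl))
          map_mul' := map_mul (T0 a) }
      map_one' := MulEquiv.ext fun w => Subtype.ext (Subtype.ext
        (show α 1 ((w : center V) : V) = ((w : center V) : V) by rw [map_one]; rfl))
      map_mul' := fun a b => MulEquiv.ext fun w => Subtype.ext (Subtype.ext
        (show α (a * b) ((w : center V) : V) = α a (α b ((w : center V) : V)) by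
          rw [map_mul]; rfl)) }
  obtain ⟨hpA, e, he0, heidem, hec, heN⟩ := exists_annihilator_of_exponent
    (fun w : W => Subtype.ext (Subtype.ext (hW1 w))) β
    (fun a ha w hw => Subtype.ext (Subtype.ext (hfpf a ha _
      (congrArg (fun v : W => ((v : center V) : V)) hw))))
  -- rational solution
  let φQ := MonoidAlgebra.mapRingHom A (Int.castRingHom ℚ)
  have hφinj : Function.Injective φQ := fun y z h => MonoidAlgebra.ext (Finsupp.ext fun a => by
    have h2 := congrArg (fun t : MonoidAlgebra ℚ A => t.coeff a) h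
    simpa [φQ] using h2)
  have hnot : (1 : MonoidAlgebra ℚ A) ∉ Submodule.span ℚ
      {w | ∃ x : A, (orderOf x).Prime ∧ ∃ a : A, w = normElt ℚ x * MonoidAlgebra.single a 1} := by
    intro hmem
    have hex : ∀ y ∈ Submodule.span ℚ
        {w | ∃ x : A, (orderOf x).Prime ∧ ∃ a : A, w = normElt ℚ x * MonoidAlgebra.single a 1},
        ∃ d : ℤ, d ≠ 0 ∧ ∃ w ∈ Submodule.span ℤ
          {w | ∃ x : A, (orderOf x).Prime ∧ ∃ a : A, w = normElt ℤ x * MonoidAlgebra.single a 1},
          φQ w = d • y := by
      intro y hy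
      induction hy using Submodule.span_induction with
      | mem z hz =>
        obtain ⟨x, hx, a, rfl⟩ := hz
        refine ⟨1, one_ne_zero, _, Submodule.subset_span ⟨x, hx, a, rfl⟩, ?_⟩
        rw [one_smul, map_mul, mapRingHom_normElt]
        simp [φQ]
      | zero => exact ⟨1, one_ne_zero, 0, Submodule.zero_mem _, by simp⟩
      | add y z _ _ hy hz =>
        obtain ⟨d, hd, w, hw, hwy⟩ := hy
        obtain ⟨d', hd', w', hw', hwz⟩ := hz
        refine ⟨d * d', mul_ne_zero hd hd', d' • w + d • w',
          Submodule.add_mem _ (Submodule.smul_mem _ _ hw) (Submodule.smul_mem _ _ hw'), ?_⟩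
        rw [map_add, map_zsmul, map_zsmul, hwy, hwz, smul_smul, smul_smul, smul_add, mul_comm d' d]
      | smul q y _ hy =>
        obtain ⟨d, hd, w, hw, hwy⟩ := hy
        refine ⟨d * q.den, mul_ne_zero hd (by exact_mod_cast q.den_pos.ne'), q.num • w,
          Submodule.smul_mem _ _ hw, ?_⟩
        rw [map_zsmul, hwy, smul_smul, ← Int.cast_smul_eq_zsmul ℚ, ← Int.cast_smul_eq_zsmul ℚ (d * q.den),
          smul_smul]
        congr 1
        push_cast
        rw [mul_assoc, Rat.den_mul_eq_num]
        ring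
    obtain ⟨d, hd, w, hw, hwd⟩ := hex 1 hmem
    have h1 : w = d • 1 := hφinj (by rw [hwd, map_zsmul, map_one])
    exact hd (smul_one_eq_zero_of_mem_span hpA he0 heidem hec heN d (h1 ▸ hw))
  obtain ⟨ψ, hψ1, hψ⟩ := Submodule.exists_dual_map_eq_bot_of_notMem hnot inferInstance
  let f : A → ℚ := fun a => ψ (MonoidAlgebra.single a 1)
  have hf : f ∈ sol A ℚ := by
    intro x hx a
    have h2 : ψ (normElt ℚ x * MonoidAlgebra.single a 1) = 0 := (Submodule.mem_bot _).mp
      (hψ.le (Submodule.mem_map_of_mem (Submodule.subset_span ⟨x, hx, a, rfl⟩)))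
    rw [normElt, Finset.sum_mul, map_sum] at h2
    simpa [f, MonoidAlgebra.single_mul_single] using h2
  -- clear denominators
  set D : ℕ := ∏ a : A, (f a).den with hD
  have hD0 : (D : ℚ) ≠ 0 := by
    exact_mod_cast (Finset.prod_pos fun a _ => (f a).den_pos).ne'
  let z : A → ℤ := fun a => (f a).num * ((D / (f a).den : ℕ) : ℤ)
  have hz : ∀ a, (z a : ℚ) = (D : ℚ) * f a := fun a => by
    have hdvd : (f a).den ∣ D := Finset.dvd_prod_of_mem _ (Finset.mem_univ a)
    simp only [z, Int.cast_mul, Int.cast_natCast]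
    rw [Nat.cast_div hdvd (by exact_mod_cast (f a).den_pos.ne')]
    conv_rhs => rw [← Rat.num_div_den (f a)]
    ring
  set g := Finset.univ.gcd z with hg
  have hg0 : g ≠ 0 := by
    intro h0
    have h1 := Finset.gcd_eq_zero_iff.mp h0 1 (Finset.mem_univ _)
    have h2 := hz 1
    rw [h1, Int.cast_zero, eq_comm, mul_eq_zero] at h2
    exact hψ1 (by simpa [f, ← MonoidAlgebra.one_def] using h2.resolve_left hD0)
  choose c hc using fun a => (Finset.gcd_dvd (f := z) (Finset.mem_univ a) : g ∣ z a)
  refine ⟨c, fun x hx a => ?_, fun q hq => ?_⟩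
  · have h1 : (g : ℚ) * ((∑ i ∈ Finset.range (orderOf x), c (x ^ i * a) : ℤ) : ℚ) = 0 := by
      rw [Int.cast_sum, Finset.mul_sum]
      rw [Finset.sum_congr rfl (g := fun i => (D : ℚ) * f (x ^ i * a)) fun i _ => by
        rw [← hz, hc, Int.cast_mul]]
      rw [← Finset.mul_sum, hf x hx a, mul_zero]
    exact_mod_cast (mul_eq_zero.mp h1).resolve_left (by exact_mod_cast hg0)
  · by_contra hall
    push Not at hall
    have h1 : g * q ∣ g := Finset.dvd_gcd fun a _ => by
      rw [hc a]; exact mul_dvd_mul_left g (hall a)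
    have h2 : (q : ℤ) ∣ 1 := (mul_dvd_mul_iff_left hg0).mp (by rwa [mul_one])
    have h3 : q ∣ 1 := by exact_mod_cast h2
    exact hq.one_lt.ne' (Nat.dvd_one.mp h3)

/-- Over every field with `|A|` invertible there is a fixed-point-free module. -/
theorem sol_ne_bot_of_int_sol [Finite A] {f : A → ℤ} (hf : f ∈ sol A ℤ)
    (hprim : ∀ q : ℕ, q.Prime → ∃ a, ¬ (q : ℤ) ∣ f a) (K : Type v) [Field K] :
    sol A K ≠ ⊥ := by
  intro h
  have hz : ∀ a, (f a : K) = 0 := by
    have hm : (fun a => (f a : K)) ∈ sol A K := fun x hx a => by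
      rw [← Int.cast_sum, hf x hx a, Int.cast_zero]
    rw [h, Submodule.mem_bot] at hm
    exact congrFun hm
  obtain ⟨q, hq⟩ := CharP.exists K
  rcases CharP.char_is_prime_or_zero K q with hqp | hq0
  · obtain ⟨a, ha⟩ := hprim q hqp
    exact ha ((CharP.intCast_eq_zero_iff K q _).mp (hz a))
  · subst hq0
    obtain ⟨a, ha⟩ := hprim 2 Nat.prime_two
    haveI := CharP.charP_to_charZero K
    exact ha (by rw [show f a = 0 by exact_mod_cast hz a]; exact dvd_zero _)

/-- A nonzero solution space over a finite field gives a Frobenius group. -/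
theorem exists_frobenius_of_sol {B : Type u} [Group B] [Finite B] [Nontrivial B] (K : Type u) [Field K]
    [Finite K] (hK : (Nat.card B : K) ≠ 0) (h : sol B K ≠ ⊥) :
    ∃ (L : Type u) (_ : Group L) (_ : Finite L) (H : Subgroup L),
      IsFrobeniusComplement H ∧ Nonempty (B ≃* H) := by
  obtain ⟨ρ, hρ⟩ := exists_action (A := B) K hK
  haveI : Nontrivial (sol B K) := Submodule.nontrivial_iff_ne_bot.mpr h
  letI : DistribMulAction B (sol B K) := DistribMulAction.compHom _ ρ
  exact exists_frobenius_of_fixedPointFree_add fun b hb v hv => hρ b hb v hv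

end Cfsg.Agent.Frobenius.CharChange
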