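import Cfsg.Agent.Lib.Coprime.Abelian
import Cfsg.Agent.Lib.PGroup.Basic
import Cfsg.Agent.Lib.Solvable.Basic
import Cfsg.Agent.FGS80.Burnside
import Mathlib.GroupTheory.GroupAction.Primitive
import Mathlib.GroupTheory.SpecificGroups.Cyclic

/-!
# Coprime action with fixed points of prime index
-/

set_option autoImplicit false
set_option linter.style.haveILetI false

open scoped commutatorElement Pointwise

namespace Cfsg.Agent.Frobenius

variable {G : Type*} [Group G] [Finite G]

theorem card_commutator_of_isPGroup (A P : Subgroup G) {p : ℕ} [hp : Fact p.Prime]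
    (hP : IsPGroup p P) (hAP : A ≤ Subgroup.normalizer (P : Set G))
    (hcop : (Nat.card A).Coprime (Nat.card P))
    (hidx : (Subgroup.centralizer (A : Set G)).relIndex P = p) :
    Nat.card (⁅P, A⁆ : Subgroup G) = p ∧ ⁅P, A⁆ ⊓ Subgroup.centralizer (A : Set G) = ⊥ := by
  classical
  set D := (Subgroup.centralizer (A : Set G)).subgroupOf P with hD
  have hDi : D.index = p := hidx
  haveI hDn : D.Normal := PGroup.normal_of_index_eq_prime hP hDi
  set Q : Subgroup G := ⁅P, A⁆ with hQ
  have hQP : Q ≤ P := Coprime.commutator_le_of_le_normalizer hAP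
  have hPsolv : Group.IsSolvable P := Coprime.isSolvable_of_isNilpotent' hP.isNilpotent
  have hQQ : ⁅Q, A⁆ = Q := Coprime.commutator_commutator_eq A P hAP hcop (Or.inr hPsolv)
  -- `Q` centralises `D`
  have hQD : ∀ x ∈ Q, ∀ d ∈ P, d ∈ Subgroup.centralizer (A : Set G) → x * d = d * x := by
    intro x hx d hdP hdC
    have hle : Q ≤ Subgroup.centralizer {d} := by
      rw [hQ, Subgroup.commutator_le]
      intro k hk a ha
      rw [Subgroup.mem_centralizer_singleton_iff]
      have hd' : (⟨k⁻¹ * d * k, mul_mem (mul_mem (inv_mem hk) hdP) hk⟩ : P) ∈ D := by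
        have := hDn.conj_mem ⟨d, hdP⟩ hdC ⟨k, hk⟩⁻¹
        rw [inv_inv] at this
        exact this
      have h1 : a * (k⁻¹ * d * k) = (k⁻¹ * d * k) * a :=
        Subgroup.mem_centralizer_iff.1 hd' a ha
      have h2 : a⁻¹ * d = d * a⁻¹ := Subgroup.mem_centralizer_iff.1 hdC a⁻¹ (inv_mem ha)
      simp only [commutatorElement_def]
      calc k * a * k⁻¹ * a⁻¹ * d = k * a * k⁻¹ * (a⁻¹ * d) := by group
        _ = k * (a * (k⁻¹ * d * k)) * k⁻¹ * a⁻¹ := by rw [h2]; group
        _ = d * (k * a * k⁻¹ * a⁻¹) := by rw [h1]; group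
    exact Subgroup.mem_centralizer_singleton_iff.1 (hle hx)
  -- `Q` is not centralised by `A`
  have hQC : ¬ Q ≤ Subgroup.centralizer (A : Set G) := by
    intro hle
    have hbot : Q = ⊥ := by
      rw [← hQQ]
      exact Subgroup.commutator_eq_bot_iff_le_centralizer.2 hle
    have : P ≤ Subgroup.centralizer (A : Set G) :=
      Subgroup.commutator_eq_bot_iff_le_centralizer.1 hbot
    rw [Subgroup.relIndex_eq_one.2 this] at hidx
    exact hp.out.ne_one hidx.symm
  obtain ⟨x, hxQ, hxC⟩ := SetLike.not_le_iff_exists.1 hQC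
  -- `Q` is commutative
  let x' : P := ⟨x, hQP hxQ⟩
  have hxD : x' ∉ D := hxC
  have htop : D ⊔ Subgroup.zpowers x' = ⊤ := by
    refine (PGroup.isCoatom_of_index_prime (hDi ▸ hp.out)).2 _ ?_
    refine lt_of_le_of_ne le_sup_left fun he => hxD ?_
    rw [he]
    exact Subgroup.mem_sup_right (Subgroup.mem_zpowers _)
  have hQcomm : ∀ y ∈ Q, ∀ z ∈ Q, y * z = z * y := by
    have hform : ∀ y ∈ Q, y * x = x * y ∧ ∃ d ∈ Q, d ∈ Subgroup.centralizer (A : Set G) ∧
        ∃ n : ℤ, y = d * x ^ n := by
      intro y hy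
      have hm : (⟨y, hQP hy⟩ : P) ∈ D ⊔ Subgroup.zpowers x' := htop ▸ Subgroup.mem_top _
      obtain ⟨d, hd, e, he, hde⟩ := Subgroup.mem_sup_of_normal_left.1 hm
      obtain ⟨n, rfl⟩ := Subgroup.mem_zpowers_iff.1 he
      have hy' : y = (d : G) * x ^ n := by
        have := congrArg Subtype.val hde
        simpa [x'] using this.symm
      have hdQ : (d : G) ∈ Q := by
        have : (d : G) = y * (x ^ n)⁻¹ := by rw [hy']; group
        rw [this]
        exact mul_mem hy (inv_mem (zpow_mem hxQ n))
      refine ⟨?_, d, hdQ, hd, n, hy'⟩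
      rw [hy', mul_assoc, ← (Commute.self_zpow x n).eq, ← mul_assoc, ← hQD x hxQ d d.2 hd,
        mul_assoc]
    intro y hy z hz
    obtain ⟨hzx, d', hd'Q, hd'C, m, hm⟩ := hform z hz
    have h1 : Commute y d' := hQD y hy d' (hQP hd'Q) hd'C
    have h2 : Commute y (x ^ m) := Commute.zpow_right (hform y hy).1 m
    rw [hm]
    exact (h1.mul_right h2).eq
  haveI : IsMulCommutative Q := ⟨⟨fun a b => Subtype.ext (hQcomm a a.2 b b.2)⟩⟩
  have hbot : Q ⊓ Subgroup.centralizer (A : Set G) = ⊥ := by
    conv_lhs => rw [← hQQ]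
    exact Coprime.commutator_inf_centralizer_eq_bot A Q
      (Coprime.le_normalizer_commutator_right A P)
      (hcop.coprime_dvd_right (Subgroup.card_dvd_of_le hQP))
  refine ⟨le_antisymm ?_ ?_, hbot⟩
  · calc Nat.card Q = (⊥ : Subgroup G).relIndex Q := (Subgroup.relIndex_bot_left Q).symm
      _ = (Subgroup.centralizer (A : Set G)).relIndex Q := by
          rw [← Subgroup.inf_relIndex_right (Subgroup.centralizer (A : Set G)) Q, inf_comm, hbot]
      _ ≤ (Subgroup.centralizer (A : Set G)).relIndex P :=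
          Subgroup.relIndex_le_of_le_right hQP (by rw [hidx]; exact hp.out.ne_zero)
      _ = p := hidx
  · have hQp : IsPGroup p Q := hP.to_le hQP
    obtain ⟨n, hn⟩ := hQp.exists_card_eq
    rw [hn]
    refine Nat.le_self_pow (fun h0 => hQC ?_) p
    rw [h0, pow_zero, Subgroup.card_eq_one] at hn
    rw [hn]
    exact bot_le

/-- If the fixed points of a coprime action have prime index `p`, the commutator has order `p`. -/
theorem card_commutator_of_relIndex_eq_prime (A K : Subgroup G)
    (hAK : A ≤ Subgroup.normalizer (K : Set G)) (hcop : (Nat.card A).Coprime (Nat.card K))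
    (hsolv : Group.IsSolvable A ∨ Group.IsSolvable K) {p : ℕ} (hp : p.Prime)
    (hidx : (K ⊓ Subgroup.centralizer (A : Set G)).relIndex K = p) :
    Nat.card (⁅K, A⁆ : Subgroup G) = p := by
  classical
  haveI := Fact.mk hp
  obtain ⟨P, hPA⟩ := Coprime.exists_invariant_sylow A K hAK hcop hsolv p
  set P' : Subgroup G := (P : Subgroup K).map K.subtype with hP'
  have hP'K : P' ≤ K := Subgroup.map_subtype_le _
  have hP'card : Nat.card P' = Nat.card (P : Subgroup K) :=
    Subgroup.card_map_of_injective K.subtype_injective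
  set C : Subgroup G := Subgroup.centralizer (A : Set G) with hC
  rw [inf_comm, Subgroup.inf_relIndex_right] at hidx
  have hP'p : IsPGroup p P' := P.2.map _
  have hidx' : C.relIndex P' = p := by
    have hle : C.relIndex P' ≤ p :=
      hidx ▸ Subgroup.relIndex_le_of_le_right hP'K (by rw [hidx]; exact hp.ne_zero)
    obtain ⟨n, hn⟩ := hP'p.exists_card_eq
    obtain ⟨k, -, hk⟩ := (Nat.dvd_prime_pow hp).1
      (hn ▸ Subgroup.relIndex_dvd_card C P' : C.relIndex P' ∣ p ^ n)
    rcases k with _ | _ | k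
    · exfalso
      rw [pow_zero, Subgroup.relIndex_eq_one] at hk
      have h1 : Nat.card P' ∣ Nat.card (C ⊓ K : Subgroup G) :=
        Subgroup.card_dvd_of_le (le_inf hk hP'K)
      have h2 : Nat.card (C ⊓ K : Subgroup G) * p = Nat.card K := by
        rw [← hidx, ← Subgroup.inf_relIndex_right C K,
          Solvable.card_mul_relIndex inf_le_right]
      have h3 : Nat.card (P : Subgroup K) * p ∣ Nat.card K :=
        hP'card ▸ h2 ▸ Nat.mul_dvd_mul_right h1 p
      rw [← (P : Subgroup K).card_mul_index] at h3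
      exact P.not_dvd_index (Nat.dvd_of_mul_dvd_mul_left Nat.card_pos h3)
    · simpa using hk
    · exfalso
      rw [hk] at hle
      have : p ^ 1 < p ^ (k + 1 + 1) := Nat.pow_lt_pow_right hp.one_lt (by omega)
      rw [pow_one] at this
      omega
  obtain ⟨hQcard, hQC⟩ := card_commutator_of_isPGroup A P' hP'p hPA
    (hcop.coprime_dvd_right (Subgroup.card_dvd_of_le hP'K)) hidx'
  set Q : Subgroup G := ⁅P', A⁆ with hQ
  have hQK : Q ≤ K := (Coprime.commutator_le_of_le_normalizer hPA).trans hP'K
  set C' := C.subgroupOf K with hC'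
  have hC'i : C'.index = p := hidx
  let Q' := Q.subgroupOf K
  have hQ'card : Nat.card Q' = p := (Nat.card_congr
    (Subgroup.subgroupOfEquivOfLe hQK).toEquiv).trans hQcard
  have hdisj : Q' ⊓ C' = ⊥ := by
    rw [Subgroup.eq_bot_iff_forall]
    rintro x ⟨hx1, hx2⟩
    exact Subtype.ext (Subgroup.mem_bot.1 (hQC ▸ Subgroup.mem_inf.2 ⟨hx1, hx2⟩))
  have hcompl : Subgroup.IsComplement' C' Q' :=
    Subgroup.isComplement'_of_card_mul_and_disjoint (by rw [hQ'card, ← hC'i, C'.card_mul_index])
      (disjoint_iff.2 (by rw [inf_comm, hdisj]))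
  -- the permutation group on the cosets
  let π := (MulAction.toPermHom K (K ⧸ C')).rangeRestrict
  let L := (MulAction.toPermHom K (K ⧸ C')).range
  haveI : Fintype (K ⧸ C') := Fintype.ofFinite _
  have hcardX : Fintype.card (K ⧸ C') = p := by
    rw [← Nat.card_eq_fintype_card]; exact hC'i
  have hact : ∀ (k : K) (y : K ⧸ C'), (π k) • y = k • y := fun k y => rfl
  haveI : MulAction.IsPretransitive L (K ⧸ C') := ⟨fun x y => by
    obtain ⟨k, hk⟩ := MulAction.exists_smul_eq K x y
    exact ⟨π k, by rw [hact]; exact hk⟩⟩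
  have hker : π.ker = C'.normalCore := by
    rw [MonoidHom.ker_rangeRestrict, ← Subgroup.normalCore_eq_ker]
  have hW : ((Q'.map π).comap π) = Q' ⊔ C'.normalCore := by rw [Subgroup.comap_map_eq, hker]
  have hQbar : Nat.card (Q'.map π) = p := by
    rw [← hQ'card]
    refine (Nat.card_congr (Equiv.ofBijective (fun x : Q' => (⟨π x.1, x.1, x.2, rfl⟩ : Q'.map π))
      ⟨?_, ?_⟩)).symm
    · intro a b hab
      have h1 : ((a : K)⁻¹ * (b : K)) ∈ π.ker :=
        (MonoidHom.eq_iff _).1 (congrArg Subtype.val hab).symm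
      rw [hker] at h1
      have : ((a : K)⁻¹ * (b : K)) ∈ Q' ⊓ C' :=
        ⟨Q'.mul_mem (Q'.inv_mem a.2) b.2, Subgroup.normalCore_le _ h1⟩
      rw [hdisj, Subgroup.mem_bot, inv_mul_eq_one] at this
      exact Subtype.ext this
    · rintro ⟨_, x, hx, rfl⟩
      exact ⟨⟨x, hx⟩, rfl⟩
  haveI hnorm : (Q'.map π).Normal := by
    have hnot2 : ¬ MulAction.IsMultiplyPretransitive L (K ⧸ C') 2 := by
      intro h2
      -- `p - 1` divides the order of `K`
      set b : K ⧸ C' := QuotientGroup.mk 1 with hb
      obtain ⟨y, hy⟩ : ∃ y, y ≠ b := Fintype.exists_ne_of_one_lt_card (hcardX ▸ hp.one_lt) b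
      have horb : MulAction.orbit C' y = {b}ᶜ := by
        ext z
        rw [Set.mem_compl_singleton_iff]
        constructor
        · rintro ⟨c, rfl⟩ hz
          refine hy ?_
          have hcb : (c⁻¹) • b = b := by
            show QuotientGroup.mk ((((c⁻¹) : ↥C') : ↥K) * 1) = QuotientGroup.mk 1
            rw [QuotientGroup.eq]
            simp
          rw [← hcb, ← hz, inv_smul_smul]
        · intro hz
          obtain ⟨g, hg1, hg2⟩ := MulAction.is_two_pretransitive_iff.1 h2 hy.symm (Ne.symm hz)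
          obtain ⟨k, hk⟩ := (MulAction.toPermHom K (K ⧸ C')).rangeRestrict_surjective g
          rw [← hk, hact] at hg1 hg2
          have hkC : k ∈ C' := by
            have h3 : QuotientGroup.mk (k * 1) = (QuotientGroup.mk 1 : K ⧸ C') := hg1
            rw [QuotientGroup.eq] at h3
            simpa using h3
          exact ⟨⟨k, hkC⟩, hg2⟩
      have hdvd : p - 1 ∣ Nat.card K := by
        have h1 := Nat.card_congr (MulAction.orbitEquivQuotientStabilizer C' y)
        rw [horb, Nat.card_coe_set_eq, Set.ncard_compl, Set.ncard_singleton,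
          Nat.card_eq_fintype_card, hcardX] at h1
        rw [h1]
        exact ((MulAction.stabilizer C' y).index_dvd_card).trans (Subgroup.card_subgroup_dvd_card _)
      have hQcy : IsCyclic Q := isCyclic_of_prime_card (p := p) hQcard
      have hQC' : Q ≤ C := by
        intro q hq
        rw [hC, Subgroup.mem_centralizer_iff]
        intro a ha
        have hN : a ∈ Subgroup.normalizer (Q : Set G) :=
          Coprime.le_normalizer_commutator_right A P' ha
        let f := Q.normalizerMonoidHom
        have h1 : (f ⟨a, hN⟩) ^ Nat.card A = 1 := by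
          rw [← map_pow]
          have : (⟨a, hN⟩ : Subgroup.normalizer (Q : Set G)) ^ Nat.card A = 1 := by
            apply Subtype.ext
            rw [SubgroupClass.coe_pow, OneMemClass.coe_one, ← orderOf_dvd_iff_pow_eq_one]
            exact Subgroup.orderOf_dvd_natCard A ha
          rw [this, map_one]
        have h2 : (f ⟨a, hN⟩) ^ (p - 1) = 1 := by
          rw [← Nat.totient_prime hp, ← hQcard, ← IsCyclic.card_mulAut]
          exact pow_card_eq_one'
        have h3 := pow_gcd_eq_one.2 ⟨h1, h2⟩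
        rw [hcop.coprime_dvd_right hdvd, pow_one] at h3
        have h4 : a * q * a⁻¹ = q := by
          have e := congrArg Subtype.val (DFunLike.congr_fun h3 (⟨q, hq⟩ : Q))
          exact e
        exact mul_inv_eq_iff_eq_mul.1 h4
      have : Q = ⊥ := by rw [← hQC, inf_eq_left.2 hQC']
      rw [this, Subgroup.card_bot] at hQcard
      exact hp.ne_one hQcard.symm
    haveI : Group.IsSolvable L :=
      (FGS80.Burnside.isSolvable_or_two_transitive (G := L) hcardX).resolve_right hnot2
    have hQne : Q'.map π ≠ ⊥ := fun h => by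
      rw [h, Subgroup.card_bot] at hQbar; exact hp.ne_one hQbar.symm
    haveI : Nontrivial L := by
      by_contra h
      rw [not_nontrivial_iff_subsingleton] at h
      exact hQne (Subsingleton.elim _ _)
    obtain ⟨M, hMn, hMne, hMmin⟩ := Solvable.exists_minimal_normal L
    haveI := hMn
    obtain ⟨r, hr, hMr, -, -, d, hd0, hd⟩ := Solvable.exists_prime_of_minimal_normal M hMne hMmin
    haveI : MulAction.IsPreprimitive L (K ⧸ C') :=
      MulAction.IsPreprimitive.of_prime_card (by rw [Nat.card_eq_fintype_card, hcardX]; exact hp)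
    have htrans : MulAction.IsPretransitive M (K ⧸ C') := by
      refine MulAction.IsQuasiPreprimitive.isPretransitive_of_normal (G := L) ?_
      intro hfix
      refine hMne ((Subgroup.eq_bot_iff_forall _).2 fun m hm => Subtype.ext (Equiv.ext fun x => ?_))
      have := hfix ▸ Set.mem_univ x
      exact this ⟨m, hm⟩
    have hpM : p ∣ Nat.card M := by
      haveI := htrans
      have h1 := MulAction.index_stabilizer_of_transitive M (QuotientGroup.mk 1 : K ⧸ C')
      rw [Nat.card_eq_fintype_card, hcardX] at h1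
      exact h1 ▸ Subgroup.index_dvd_card _
    obtain rfl : p = r := by
      rw [hd] at hpM
      exact (Nat.prime_dvd_prime_iff_eq hp hr).1 (hp.dvd_of_dvd_pow hpM)
    have hpp : ¬ p ^ 2 ∣ Nat.card L := by
      intro h
      have h1 : Nat.card L ∣ p.factorial := by
        have := Subgroup.card_subgroup_dvd_card L
        rwa [Nat.card_perm, Nat.card_eq_fintype_card (α := K ⧸ C'), hcardX] at this
      have h2 := h.trans h1
      rw [← Nat.mul_factorial_pred hp.ne_zero, pow_two] at h2
      have h3 := (Nat.Prime.dvd_factorial hp).1 (Nat.dvd_of_mul_dvd_mul_left hp.pos h2)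
      have := hp.pos
      omega
    obtain ⟨S, hS⟩ := (IsPGroup.of_card (n := 1) (by rw [hQbar, pow_one]) :
      IsPGroup p (Q'.map π)).exists_le_sylow
    have hMS : M ≤ (S : Subgroup L) := hMr.le_sylow_of_normal S
    have hScard : Nat.card (S : Subgroup L) ≤ p := by
      obtain ⟨j, hj⟩ := S.2.exists_card_eq
      rw [hj]
      calc p ^ j ≤ p ^ 1 := Nat.pow_le_pow_right hp.pos (by
            by_contra hj'
            exact hpp ((pow_dvd_pow p (show 2 ≤ j by omega)).trans
              (hj ▸ Subgroup.card_subgroup_dvd_card _)))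
        _ = p := pow_one p
    have e1 : Q'.map π = (S : Subgroup L) := Subgroup.eq_of_le_of_card_ge hS (by rw [hQbar]; exact hScard)
    have e2 : M = (S : Subgroup L) := Subgroup.eq_of_le_of_card_ge hMS
      (le_trans hScard (Nat.le_of_dvd Nat.card_pos hpM))
    rw [e1, ← e2]
    exact hMn
  haveI hWn : (Q' ⊔ C'.normalCore).Normal := hW ▸ hnorm.comap π
  set W : Subgroup G := (Q' ⊔ C'.normalCore).map K.subtype with hWdef
  -- first inclusion
  have h1 : ⁅K, A⁆ ≤ W := by
    rw [Subgroup.commutator_le]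
    intro k hk a ha
    have hm : (⟨k, hk⟩ : K) ∈ (C' : Set K) * (Q' : Set K) := by
      rw [hcompl.mul_eq]; exact Set.mem_univ _
    obtain ⟨c, hc, q, hq, hcq⟩ := hm
    have hk' : k = (c : G) * q := congrArg Subtype.val hcq.symm
    have hqa : ⁅(q : G), a⁆ ∈ Q := by
      rw [← (show ⁅Q, A⁆ = Q from Coprime.commutator_commutator_eq A P' hPA
        (hcop.coprime_dvd_right (Subgroup.card_dvd_of_le hP'K))
        (Or.inr (Coprime.isSolvable_of_isNilpotent' hP'p.isNilpotent)))]
      exact Subgroup.commutator_mem_commutator hq ha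
    refine ⟨c * ⟨⁅(q : G), a⁆, hQK hqa⟩ * c⁻¹, hWn.conj_mem _ (Subgroup.mem_sup_left hqa) c, ?_⟩
    have hca : a⁻¹ * c = c * a⁻¹ := Subgroup.mem_centralizer_iff.1 hc a⁻¹ (inv_mem ha)
    rw [hk']
    simp only [map_mul, map_inv, Subgroup.coe_subtype, commutatorElement_def, mul_inv_rev]
    calc (c : G) * ((q : G) * a * (q : G)⁻¹ * a⁻¹) * (c : G)⁻¹
        = (c : G) * q * a * (q : G)⁻¹ * (c : G)⁻¹ * ((c : G) * a⁻¹) * (c : G)⁻¹ := by group
      _ = (c : G) * q * a * (q : G)⁻¹ * (c : G)⁻¹ * (a⁻¹ * (c : G)) * (c : G)⁻¹ := by rw [hca]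
      _ = (c : G) * q * a * ((q : G)⁻¹ * (c : G)⁻¹) * a⁻¹ := by group
  -- second inclusion
  have h2 : ⁅K, A⁆ ≤ Q := by
    rw [← Coprime.commutator_commutator_eq A K hAK hcop hsolv]
    refine (Subgroup.commutator_mono h1 le_rfl).trans ?_
    rw [Subgroup.commutator_le]
    rintro _ ⟨w, hw, rfl⟩ a ha
    obtain ⟨q, hq, n, hn, rfl⟩ := Subgroup.mem_sup_of_normal_right.1 hw
    have hna : a * n = n * a :=
      Subgroup.mem_centralizer_iff.1 (Subgroup.normalCore_le C' hn : n ∈ C') a ha
    simp only [Subgroup.coe_subtype, Subgroup.coe_mul, commutatorElement_def]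
    have : (q : G) * n * a * ((q : G) * n)⁻¹ * a⁻¹ = (q : G) * a * (q : G)⁻¹ * a⁻¹ := by
      rw [mul_assoc (q : G) n a, ← hna]
      group
    rw [this]
    have hm : ⁅(q : G), a⁆ ∈ ⁅Q, A⁆ := Subgroup.commutator_mem_commutator hq ha
    exact Coprime.commutator_le_of_le_normalizer (Coprime.le_normalizer_commutator_right A P') hm
  rw [le_antisymm h2 (Subgroup.commutator_mono hP'K le_rfl)]
  exact hQcard

end Cfsg.Agent.Frobenius
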