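import Cfsg.Agent.Lib.Frobenius.Kernel
import Cfsg.Agent.Lib.Frobenius.Thompson

/-!
# Nilpotency of the Frobenius kernel, from Thompson's theorem
-/

set_option autoImplicit false
set_option linter.style.haveILetI false

namespace Cfsg.Agent.Frobenius

universe u

theorem exists_nilpotent_frobeniusKernel
    (thm : ∀ (N : Type u) [Group N] [Finite N] (φ : N ≃* N), (∀ g, φ g = g → g = 1) →
      ∀ r : ℕ, r.Prime → φ ^ r = 1 → Group.IsNilpotent N)
    {G : Type u} [Group G] [Finite G] {H : Subgroup G} (hH : IsFrobeniusComplement H) :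
    ∃ N : Subgroup G, (N : Set G) = frobeniusKernel H ∧ N.Normal ∧ Group.IsNilpotent N := by
  obtain ⟨N, hN, hNn, hc⟩ := exists_frobeniusKernel_subgroup hH
  refine ⟨N, hN, hNn, ?_⟩
  haveI := hNn
  obtain ⟨r, hr, hrd⟩ := Nat.exists_prime_and_dvd
    (fun h => hH.1 (Subgroup.card_eq_one.1 h) : Nat.card H ≠ 1)
  haveI := Fact.mk hr
  obtain ⟨h, hh⟩ := exists_prime_orderOf_dvd_card' (G := H) r hrd
  have hfpf := fixedPointFree_of_isFrobeniusComplement hc hH
  refine thm N (MulAut.conjNormal (h : G)) (fun g hg => ?_) r hr ?_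
  · have h1 : (h : G) ≠ 1 := by
      intro h0
      rw [← Subgroup.orderOf_coe, h0, orderOf_one] at hh
      exact hr.ne_one hh.symm
    have hg' : (h : G) * g * (h : G)⁻¹ = g := by
      rw [← MulAut.conjNormal_apply, hg]
    have h2 : (g : G) ∈ N ⊓ Subgroup.centralizer {(h : G)} :=
      ⟨g.2, Subgroup.mem_centralizer_singleton_iff.2 (mul_inv_eq_iff_eq_mul.1 hg').symm⟩
    rw [hfpf h h.2 h1, Subgroup.mem_bot] at h2
    exact Subtype.ext h2
  · rw [← map_pow, ← SubgroupClass.coe_pow, ← hh, pow_orderOf_eq_one, OneMemClass.coe_one, map_one]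

end Cfsg.Agent.Frobenius
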