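import Cfsg.Agent.Lib.Frobenius.Nilpotent
import Cfsg.Agent.Lib.Transfer.Frobenius
import Cfsg.Agent.Lib.Transfer.Residual
import Cfsg.Agent.Lib.Transfer.Hall
import Cfsg.Agent.Lib.PComplement.GlaubermanThompson

/-!
# Groups with a nilpotent maximal subgroup

`isSolvable_of_nilpotent_coatom`: a finite group with a nilpotent maximal subgroup of odd order or
of class at most two is solvable (Thompson; Deskins, Janko).
-/

set_option autoImplicit false
set_option linter.style.haveILetI false

namespace Cfsg.Agent.Frobenius.NilpotentMaximal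

open Subgroup
open scoped Pointwise commutatorElement

universe u

variable {G : Type u} [Group G]

theorem normalizer_eq_of_le {M E : Subgroup G} (hM : IsCoatom M)
    (hcore : ∀ N : Subgroup G, N.Normal → N ≤ M → N = ⊥) (hEM : E ≤ M) (hE : E ≠ ⊥)
    (hle : M ≤ normalizer (E : Set G)) : normalizer (E : Set G) = M := by
  rcases hle.lt_or_eq with h | h
  · exact absurd (hcore E (normalizer_eq_top_iff.mp (hM.2 _ h)) hEM) hE
  · exact h.symm

theorem exists_sylow_le [Finite G] {M : Subgroup G} (hM : IsCoatom M) (hnil : Group.IsNilpotent M)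
    (hcore : ∀ N : Subgroup G, N.Normal → N ≤ M → N = ⊥) {p : ℕ} [hp : Fact p.Prime]
    (hd : p ∣ Nat.card M) :
    ∃ P : Sylow p G, (P : Subgroup G) ≤ M ∧ M ≤ normalizer ((P : Subgroup G) : Set G) ∧
      normalizer ((P : Subgroup G) : Set G) = M := by
  obtain ⟨P0⟩ : Nonempty (Sylow p M) := inferInstance
  haveI hP0n : (P0 : Subgroup M).Normal := inferInstance
  set P' := (P0 : Subgroup M).map M.subtype with hP'
  have hP'M : P' ≤ M := map_subtype_le _
  have hMN : M ≤ normalizer (P' : Set G) := by
    have h := le_normalizer_map M.subtype (H := (P0 : Subgroup M))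
    rwa [normalizer_eq_top_iff.mpr hP0n, ← MonoidHom.range_eq_map, range_subtype] at h
  have hP'b : P' ≠ ⊥ := by
    rw [hP', Ne, map_eq_bot_iff_of_injective _ M.subtype_injective]
    exact P0.ne_bot_of_dvd_card hd
  have hN := normalizer_eq_of_le hM hcore hP'M hP'b hMN
  obtain ⟨R, hR⟩ := (P0.2.map M.subtype).exists_le_sylow
  suffices h : (R : Subgroup G) = P' from ⟨R, h ▸ hP'M, h ▸ hMN, h ▸ hN⟩
  by_contra hne
  have hlt : P' < (R : Subgroup G) := lt_of_le_of_ne hR (Ne.symm hne)
  haveI : Group.IsNilpotent (R : Subgroup G) := R.2.isNilpotent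
  have h1 : P'.subgroupOf (R : Subgroup G) < ⊤ :=
    lt_top_iff_ne_top.mpr fun h => not_le_of_gt hlt (subgroupOf_eq_top.mp h)
  obtain ⟨y, hy, hyP⟩ := SetLike.exists_of_lt
    (Group.normalizerCondition_of_isNilpotent (G := (R : Subgroup G)) _ h1)
  have hyN : (y : G) ∈ normalizer (P' : Set G) := by
    rw [mem_normalizer_iff] at hy ⊢
    refine fun z => ⟨fun hz => (hy ⟨z, hlt.le hz⟩).mp hz, fun hz => ?_⟩
    have hzR : z ∈ (R : Subgroup G) := by
      have := mul_mem (mul_mem (inv_mem y.2) (hlt.le hz)) y.2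
      simpa [mul_assoc] using this
    exact (hy ⟨z, hzR⟩).mpr hz
  rw [hN] at hyN
  have h2 : (R : Subgroup G).comap M.subtype = P0 :=
    P0.3 (R.2.comap_of_injective M.subtype M.subtype_injective)
      fun z hz => hR (mem_map_of_mem M.subtype hz)
  exact hyP (mem_map.mpr ⟨⟨y, hyN⟩, h2.le y.2, rfl⟩)

/-- Class at most two: commutators are central. -/
theorem commutator_comm_of_class_le_two {H : Type u} [Group H] [Group.IsNilpotent H]
    (h : Group.nilpotencyClass H ≤ 2) (x e y : H) : ⁅x, e⁆ * y = y * ⁅x, e⁆ := by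
  have h2 := (Subgroup.lowerCentralSeries_eq_bot_iff_nilpotencyClass_le (G := H) (n := 2)).mpr h
  have h3 : ⁅⁅x, e⁆, y⁆ ∈ (⊤ : Subgroup H).lowerCentralSeries 2 :=
    commutator_mem_commutator (commutator_mem_commutator (mem_top x) (mem_top e)) (mem_top y)
  rw [h2, mem_bot] at h3
  exact (commutatorElement_eq_one_iff_mul_comm.mp h3)

theorem hasNormalPComplement_of_class [Finite G] {M : Subgroup G} (hM : IsCoatom M)
    (hnil : Group.IsNilpotent M) (hcore : ∀ N : Subgroup G, N.Normal → N ≤ M → N = ⊥)
    (hcl : Group.nilpotencyClass M ≤ 2) {p : ℕ} [hp : Fact p.Prime] (hd : p ∣ Nat.card M) :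
    Cfsg.HasNormalPComplement p G := by
  obtain ⟨P, hPM, -, hNP⟩ := exists_sylow_le hM hnil hcore hd
  refine Transfer.hasNormalPComplement_of_normalizer_centralizer P fun D0 hD0P hD0b g0 hg0 hg0p => ?_
  -- move a Sylow subgroup of the normalizer into `P`
  obtain ⟨S⟩ : Nonempty (Sylow p (normalizer (D0 : Set G))) := inferInstance
  have hD0p : IsPGroup p D0 := P.2.to_le hD0P
  have hD0S : D0.subgroupOf (normalizer (D0 : Set G)) ≤ (S : Subgroup _) := by
    haveI : (D0.subgroupOf (normalizer (D0 : Set G))).Normal := normal_in_normalizer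
    have h2 : IsPGroup p (D0.subgroupOf (normalizer (D0 : Set G))) :=
      hD0p.comap_of_injective (normalizer (D0 : Set G)).subtype
        (normalizer (D0 : Set G)).subtype_injective
    have h1 := S.2.to_sup_of_normal_right h2
    exact le_sup_right.trans (S.3 h1 le_sup_left).le
  obtain ⟨R, hR⟩ := (S.2.map (normalizer (D0 : Set G)).subtype).exists_le_sylow
  obtain ⟨r, hr⟩ := MulAction.exists_smul_eq G R P
  set e := MulAut.conj r with he
  have hRP : ∀ z, z ∈ (R : Subgroup G) ↔ e z ∈ (P : Subgroup G) := fun z => by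
    rw [← hr, Sylow.coe_subgroup_smul, he]
    exact (smul_mem_pointwise_smul_iff (a := MulAut.conj r) (S := (R : Subgroup G)) (x := z)).symm
  set D := D0.map e.toMonoidHom with hD
  set K := normalizer (D : Set G) with hK
  have hDP : D ≤ (P : Subgroup G) := by
    rintro _ ⟨d, hd', rfl⟩
    exact (hRP d).mp (hR (mem_map_of_mem _ (hD0S (show (⟨d, le_normalizer hd'⟩ :
      normalizer (D0 : Set G)) ∈ D0.subgroupOf _ from hd'))))
  have hDb : D ≠ ⊥ := by rwa [hD, Ne, map_eq_bot_iff_of_injective _ e.injective]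
  have hKmap : K = (normalizer (D0 : Set G)).map e.toMonoidHom :=
    (map_equiv_normalizer_eq D0 e).symm
  -- `P ⊓ K` contains a Sylow subgroup of `K`
  have hSylK : ∃ T : Sylow p K, (T : Subgroup K).map K.subtype ≤ (P : Subgroup G) := by
    obtain ⟨T⟩ : Nonempty (Sylow p K) := inferInstance
    let Q := ((P : Subgroup G) ⊓ K).subgroupOf K
    have hQp : IsPGroup p Q :=
      (P.2.to_le inf_le_left).comap_of_injective K.subtype K.subtype_injective
    obtain ⟨T, hT⟩ := hQp.exists_le_sylow
    refine ⟨T, ?_⟩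
    have hcard : Nat.card (T : Subgroup K) ≤ Nat.card Q := by
      have e1 : Nat.card (T : Subgroup K) = Nat.card (S : Subgroup (normalizer (D0 : Set G))) := by
        rw [T.card_eq_multiplicity, S.card_eq_multiplicity, hKmap,
          card_map_of_injective e.injective]
      rw [e1]
      refine Nat.card_le_card_of_injective (fun z => (⟨⟨e ((z : normalizer (D0 : Set G)) : G), ?_⟩,
        ⟨(hRP _).mp (hR (mem_map_of_mem _ z.2)), ?_⟩⟩ : Q)) ?_
      · exact hKmap.ge (mem_map_of_mem _ (z : normalizer (D0 : Set G)).2)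
      · exact hKmap.ge (mem_map_of_mem _ (z : normalizer (D0 : Set G)).2)
      · intro z w h
        exact Subtype.ext (Subtype.ext (e.injective (congrArg (fun t : Q => ((t : K) : G)) h)))
    rw [← eq_of_le_of_card_ge hT hcard, subgroupOf_map_subtype]
    exact inf_le_left.trans inf_le_left
  obtain ⟨T, hT⟩ := hSylK
  -- Frattini argument with the Sylow subgroup of the centralizer
  set C := (centralizer (D : Set G)).subgroupOf K with hC
  haveI hCn : C.Normal := normal_subgroupOf_centralizer_normalizer _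
  have key : ∀ n ∈ K, Nat.Coprime (orderOf n) p → n ∈ centralizer (D : Set G) := by
    obtain ⟨U⟩ : Nonempty (Sylow p C) := inferInstance
    obtain ⟨t, ht⟩ : ∃ t : K, ((U : Subgroup C).map C.subtype).map (MulAut.conj t).toMonoidHom
        ≤ (T : Subgroup K) := by
      obtain ⟨T', hT'⟩ := (U.2.map C.subtype).exists_le_sylow
      obtain ⟨t, ht⟩ := MulAction.exists_smul_eq K T' T
      refine ⟨t, ?_⟩
      rintro _ ⟨z, hz, rfl⟩
      rw [← ht, Sylow.coe_subgroup_smul]
      exact smul_mem_pointwise_smul z (MulAut.conj t) _ (hT' hz)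
    set V := ((U : Subgroup C).map C.subtype).map (MulAut.conj t).toMonoidHom with hV
    have hVC : V ≤ C := by
      rintro _ ⟨z, hz, rfl⟩
      exact hCn.conj_mem z (map_subtype_le _ hz) t
    -- `E = D · C_P(D)` is normal in `P`
    set W := ((P : Subgroup G) ⊓ centralizer (D : Set G)) with hW
    have hVW : V.map K.subtype = W := by
      refine eq_of_le_of_card_ge (le_inf ((map_mono ht).trans hT) ?_) ?_
      · rintro _ ⟨z, hz, rfl⟩
        exact hVC hz
      · rw [card_map_of_injective K.subtype_injective, hV, card_map_of_injective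
          (MulAut.conj t).injective, card_map_of_injective C.subtype_injective]
        have hWK : W ≤ K := inf_le_right.trans (centralizer_le_normalizer _)
        let f : W →* C := (inclusion hWK).codRestrict C fun z => z.2.2
        have hf : Function.Injective f := fun z w h =>
          inclusion_injective hWK (congrArg Subtype.val h)
        have hp' : IsPGroup p f.range := (P.2.to_le inf_le_left).of_surjective f.rangeRestrict
          f.rangeRestrict_surjective
        obtain ⟨U', hU'⟩ := hp'.exists_le_sylow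
        calc Nat.card W = Nat.card f.range :=
              Nat.card_congr (MonoidHom.ofInjective hf).toEquiv
          _ ≤ Nat.card (U' : Subgroup C) := card_le_of_le hU'
          _ = Nat.card (U : Subgroup C) := Nat.card_congr (Sylow.equiv U' U).toEquiv
    set E := D ⊔ W with hE
    have hEP : E ≤ (P : Subgroup G) := sup_le hDP inf_le_left
    have hEb : E ≠ ⊥ := fun h => hDb (le_bot_iff.mp (h ▸ le_sup_left))
    have hEM : M ≤ normalizer (E : Set G) := by
      refine Coprime.le_normalizer_of_conj_mem fun m hm z hz => ?_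
      have hzM : z ∈ M := hPM (hEP hz)
      have h1 : m * z * m⁻¹ = ⁅m, z⁆ * z := by rw [commutatorElement_def]; group
      rw [h1]
      refine mul_mem (mem_sup_right ⟨?_, mem_centralizer_iff.mpr fun d hd' => ?_⟩) hz
      · rw [commutatorElement_def, show m * z * m⁻¹ * z⁻¹ = (m * z * m⁻¹) * z⁻¹ from rfl]
        exact (P : Subgroup G).mul_mem ((mem_normalizer_iff.mp (hNP.ge hm) z).mp (hEP hz))
          ((P : Subgroup G).inv_mem (hEP hz))
      · exact (congrArg Subtype.val (commutator_comm_of_class_le_two hcl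
          (⟨m, hm⟩ : M) ⟨z, hzM⟩ ⟨d, hPM (hDP hd')⟩)).symm
    have hNE := normalizer_eq_of_le hM hcore (hEP.trans hPM) hEb hEM
    intro n hn hnp
    let Cs : Sylow p C := U
    have hfr := Sylow.normalizer_sup_eq_top Cs
    obtain ⟨v, hv, c, hc, hvc⟩ := mem_sup_of_normal_right.mp
      (hfr.ge (mem_top ((MulAut.conj t).symm ⟨n, hn⟩)))
    -- conjugate back
    have hn' : (⟨n, hn⟩ : K) = MulAut.conj t v * MulAut.conj t c := by
      rw [← map_mul, hvc, MulEquiv.apply_symm_apply]
    set v' := MulAut.conj t v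
    set c' := MulAut.conj t c
    have hc' : c' ∈ C := hCn.conj_mem c hc t
    have hv' : v' ∈ normalizer (V : Set K) := by
      rw [hV]
      exact le_normalizer_map _ (mem_map_of_mem _ hv)
    have hvW : (v' : G) ∈ normalizer (W : Set G) := by
      rw [← hVW]
      exact le_normalizer_map _ (mem_map_of_mem K.subtype hv')
    have hvE : (v' : G) ∈ M := by
      rw [← hNE]
      exact Coprime.le_normalizer_sup (A := zpowers (v' : G)) (zpowers_le.mpr v'.2) (zpowers_le.mpr hvW)
        (mem_zpowers _)
    -- elements of `M` normalizing `D` induce a `p`-group on it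
    set o := orderOf (v' : G)
    have hpart : v' ^ (p ^ o.factorization p) ∈ C := by
      have ho : (orderOf ((v' : G) ^ (p ^ o.factorization p))).Coprime p := by
        rw [orderOf_pow_of_dvd (pow_ne_zero _ hp.out.ne_zero) (Nat.ordProj_dvd _ _)]
        exact (Nat.coprime_ordCompl hp.out (orderOf_pos _).ne').symm
      refine mem_centralizer_iff.mpr fun d hd' => ?_
      obtain ⟨j, hj⟩ := P.2.exists_orderOf_eq_pow (⟨d, hDP hd'⟩ : (P : Subgroup G))
      rw [← orderOf_coe] at hj
      have hco := Transfer.nilpotent_commute_of_coprime hnil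
        (x := (⟨d, hPM (hDP hd')⟩ : M)) (y := ⟨(v' : G) ^ (p ^ o.factorization p), pow_mem hvE _⟩)
        (by rw [← orderOf_coe, ← orderOf_coe, hj]; exact Nat.Coprime.pow_left _ ho.symm)
      exact congrArg Subtype.val hco
    let π := QuotientGroup.mk' C
    have hπ : π ⟨n, hn⟩ = π v' := by
      rw [hn', map_mul, show π c' = 1 from (QuotientGroup.eq_one_iff _).mpr hc', mul_one]
    have h1 : π ⟨n, hn⟩ ^ (p ^ o.factorization p) = 1 := by
      rw [hπ, ← map_pow]; exact (QuotientGroup.eq_one_iff _).mpr hpart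
    have h2 : π ⟨n, hn⟩ ^ orderOf n = 1 := by
      rw [← map_pow, show (⟨n, hn⟩ : K) ^ orderOf n = 1 from Subtype.ext (pow_orderOf_eq_one n),
        map_one]
    have h3 : π ⟨n, hn⟩ = 1 := orderOf_eq_one_iff.mp (Nat.eq_one_of_dvd_coprimes
      (hnp.pow_right _).symm (orderOf_dvd_of_pow_eq_one h1) (orderOf_dvd_of_pow_eq_one h2))
    exact (QuotientGroup.eq_one_iff (⟨n, hn⟩ : K)).mp h3
  have hcop : Nat.Coprime (orderOf (e g0)) p := by rwa [MulEquiv.orderOf_eq]
  have hmem : e g0 ∈ K := by rw [hKmap]; exact mem_map_of_mem _ hg0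
  have h := key _ hmem hcop
  rw [mem_centralizer_iff] at h ⊢
  intro d hd'
  apply e.injective
  rw [map_mul, map_mul]
  exact h _ ⟨d, hd', rfl⟩

theorem hasNormalPComplement_of_odd [Finite G] {M : Subgroup G} (hM : IsCoatom M)
    (hnil : Group.IsNilpotent M) (hcore : ∀ N : Subgroup G, N.Normal → N ≤ M → N = ⊥)
    (hodd : Odd (Nat.card M)) {p : ℕ} [hp : Fact p.Prime] (hd : p ∣ Nat.card M) :
    Cfsg.HasNormalPComplement p G := by
  obtain ⟨P, hPM, hMP, -⟩ := exists_sylow_le hM hnil hcore hd
  have hp2 : p ≠ 2 := by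
    rintro rfl
    exact (Nat.not_even_iff_odd.mpr hodd) (even_iff_two_dvd.mpr hd)
  have hPb : (P : Subgroup G) ≠ ⊥ := P.ne_bot_of_dvd_card (hd.trans M.card_subgroup_dvd_card)
  set Z := Cfsg.centerThompsonOf p (P : Subgroup G)
  have hZM : Z ≤ M := fun z hz => hPM (Thompson.thompsonSubgroupOf_le _ hz.1)
  have hN : normalizer (Z : Set G) = M := normalizer_eq_of_le hM hcore hZM
    (PComplement.centerThompsonOf_ne_bot P.2 hPb)
    (hMP.trans (PComplement.normalizer_le_normalizer_centerThompsonOf _))
  refine PComplement.glauberman_thompson hp2 P ?_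
  rw [hN]
  exact hasNormalPComplement_of_isNilpotent hnil p

/-- The core-free case. -/
theorem isSolvable_of_core_eq_bot [Finite G] {M : Subgroup G} (hM : IsCoatom M)
    (hnil : Group.IsNilpotent M) (hcore : ∀ N : Subgroup G, N.Normal → N ≤ M → N = ⊥)
    (hMb : M ≠ ⊥) (h : Odd (Nat.card M) ∨ Group.nilpotencyClass M ≤ 2) : Group.IsSolvable G := by
  classical
  let ι := {p : ℕ // p ∈ (Nat.card M).primeFactors}
  haveI hfact : ∀ i : ι, Fact (i : ℕ).Prime := fun i => ⟨Nat.prime_of_mem_primeFactors i.2⟩
  have hnpc : ∀ i : ι, Cfsg.HasNormalPComplement (i : ℕ) G := fun i =>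
    h.elim (fun h' => hasNormalPComplement_of_odd hM hnil hcore h' (Nat.dvd_of_mem_primeFactors i.2))
      (fun h' => hasNormalPComplement_of_class hM hnil hcore h' (Nat.dvd_of_mem_primeFactors i.2))
  haveI hnO : ∀ i : ι, (Cfsg.pResidual (i : ℕ) G).Normal := fun i => by
    obtain ⟨P⟩ : Nonempty (Sylow (i : ℕ) G) := inferInstance
    infer_instance
  let f : G →* (∀ i : ι, G ⧸ Cfsg.pResidual (i : ℕ) G) :=
    Pi.monoidHom fun i => QuotientGroup.mk' _
  set R := f.ker with hR
  have hRmem : ∀ x ∈ R, ∀ i : ι, x ∈ Cfsg.pResidual (i : ℕ) G := fun x hx i =>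
    (QuotientGroup.eq_one_iff x).mp (congrFun hx i)
  have hMR : M ⊓ R = ⊥ := by
    rw [Subgroup.eq_bot_iff_forall]
    rintro x ⟨hxM, hxR⟩
    by_contra hx1
    obtain ⟨q, hq, hqd⟩ := Nat.exists_prime_and_dvd
      (mt orderOf_eq_one_iff.mp hx1 : orderOf x ≠ 1)
    have hqM : q ∣ Nat.card M := hqd.trans (orderOf_dvd_natCard M hxM)
    let i : ι := ⟨q, Nat.mem_primeFactors.mpr ⟨hq, hqM, Nat.card_pos.ne'⟩⟩
    haveI := Fact.mk hq
    exact Transfer.hasNormalPComplement_iff_not_dvd.mp (hnpc i)
      (hqd.trans (orderOf_dvd_natCard _ (hRmem x hxR i)))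
  -- a central element of `M` of prime order acts fixed point freely on `R`
  haveI := hnil
  haveI : Nontrivial M := (nontrivial_iff_ne_bot M).mpr hMb
  have hZ : Nontrivial (center M) :=
    (nontrivial_iff_ne_bot _).mpr (Group.IsNilpotent.center_ne_bot (G := M))
  obtain ⟨r, hr, hrd⟩ := Nat.exists_prime_and_dvd (Finite.one_lt_card (α := center M)).ne'
  haveI := Fact.mk hr
  obtain ⟨z0, hz0⟩ := exists_prime_orderOf_dvd_card' r hrd
  set z : G := ((z0 : M) : G) with hz
  have hzo : orderOf z = r := by rw [hz, Subgroup.orderOf_coe, Subgroup.orderOf_coe, hz0]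
  have hzc : ∀ m ∈ M, m * z = z * m := fun m hm =>
    congrArg Subtype.val (mem_center_iff.mp z0.2 ⟨m, hm⟩)
  have hCz : centralizer ({z} : Set G) = M := by
    have hle : M ≤ centralizer ({z} : Set G) := fun m hm => mem_centralizer_singleton_iff.mpr (hzc m hm)
    rcases hle.lt_or_eq with hlt | heq
    · exfalso
      have htop := hM.2 _ hlt
      have hn : (zpowers z).Normal := by
        refine ⟨fun y hy g => ?_⟩
        obtain ⟨k, rfl⟩ := mem_zpowers_iff.mp hy
        have hg : Commute g z := mem_centralizer_singleton_iff.mp (by rw [htop]; trivial)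
        rw [(hg.zpow_right k).eq, mul_inv_cancel_right]
        exact ⟨k, rfl⟩
      have h0 := hcore (zpowers z) hn (zpowers_le.mpr (SetLike.coe_mem _))
      rw [zpowers_eq_bot] at h0
      rw [h0, orderOf_one] at hzo
      exact hr.one_lt.ne hzo
    · exact heq.symm
  have hRn : R.Normal := f.normal_ker
  let φ : R ≃* R := MulAut.conjNormal z
  have hRnil : Group.IsNilpotent R := by
    refine isNilpotent_of_fixedPointFree R φ (fun x hx => ?_) hr ?_
    · have h1 : z * x * z⁻¹ = x := congrArg Subtype.val hx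
      have h2 : (x : G) ∈ M ⊓ R :=
        ⟨hCz.le (mem_centralizer_singleton_iff.mpr (mul_inv_eq_iff_eq_mul.mp h1).symm), x.2⟩
      rw [hMR, mem_bot] at h2
      exact Subtype.ext h2
    · show (MulAut.conjNormal z : MulAut R) ^ r = 1
      rw [← map_pow, ← hzo, pow_orderOf_eq_one, map_one]
  haveI : ∀ i : ι, Group.IsNilpotent (G ⧸ Cfsg.pResidual (i : ℕ) G) := fun i =>
    (Transfer.isPGroup_quotient_pResidual).isNilpotent
  exact Group.isSolvable_of_ker_le_range R.subtype f (by rw [range_subtype])

private theorem isSolvable_aux : ∀ (n : ℕ) (G : Type u) [Group G] [Finite G], Nat.card G ≤ n →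
    ∀ M : Subgroup G, IsCoatom M → ∀ _ : Group.IsNilpotent M,
      (Odd (Nat.card M) ∨ Group.nilpotencyClass M ≤ 2) → Group.IsSolvable G := by
  intro n
  induction n with
  | zero => intro G _ _ hle; exact absurd hle (by have := Nat.card_pos (α := G); omega)
  | succ n ih =>
    intro G _ _ hle M hM hnil h
    by_cases hMb : M = ⊥
    · obtain ⟨x, hx⟩ : ∃ x : G, x ≠ 1 := by
        by_contra hc
        push Not at hc
        exact hM.1 (eq_top_iff.mpr fun x _ => by rw [hc x]; exact one_mem _)
      have hx' : zpowers x = ⊤ := hM.2 _ (by rw [hMb, bot_lt_iff_ne_bot, Ne, zpowers_eq_bot]; exact hx)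
      refine Group.isSolvable_of_comm fun a b => ?_
      obtain ⟨i, rfl⟩ := mem_zpowers_iff.mp (show a ∈ zpowers x by rw [hx']; trivial)
      obtain ⟨j, rfl⟩ := mem_zpowers_iff.mp (show b ∈ zpowers x by rw [hx']; trivial)
      rw [← zpow_add, ← zpow_add, add_comm]
    by_cases hcore : ∀ N : Subgroup G, N.Normal → N ≤ M → N = ⊥
    · exact isSolvable_of_core_eq_bot hM hnil hcore hMb h
    push Not at hcore
    obtain ⟨N, hN, hNM, hNb⟩ := hcore
    set π := QuotientGroup.mk' N with hπ
    have hπs := QuotientGroup.mk'_surjective N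
    have hcQ : Nat.card (G ⧸ N) ≤ n := by
      have h1 : Nat.card N * N.index = Nat.card G := N.card_mul_index
      rw [index_eq_card] at h1
      have h2 : 2 ≤ Nat.card N := (one_lt_card_iff_ne_bot N).mpr hNb
      have h3 : 0 < Nat.card (G ⧸ N) := Nat.card_pos
      nlinarith
    have hMc : (M.map π).comap π = M :=
      comap_map_eq_self ((QuotientGroup.ker_mk' N).trans_le hNM)
    have hco : IsCoatom (M.map π) := by
      constructor
      · intro ht
        rw [ht, comap_top] at hMc
        exact hM.1 hMc.symm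
      · intro B hB
        have h1 : M < B.comap π := by
          refine lt_of_le_of_ne (hMc ▸ comap_mono hB.le) fun he => ?_
          have h2 : B = M.map π := by rw [he, map_comap_eq_self_of_surjective hπs]
          exact hB.ne h2.symm
        rw [← map_comap_eq_self_of_surjective hπs B, hM.2 _ h1, map_top_of_surjective π hπs]
    have hsurj : Function.Surjective (π.subgroupMap M) := π.subgroupMap_surjective M
    haveI := hnil
    have hQs := ih _ hcQ (M.map π) hco (Group.nilpotent_of_surjective _ hsurj)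
      (h.imp (fun h' => h'.of_dvd_nat (card_dvd_of_surjective _ hsurj)) fun h' =>
        (Group.nilpotencyClass_le_of_surjective _ hsurj).trans h')
    haveI : Group.IsSolvable N :=
      Group.isSolvable_of_isSolvable_injective (inclusion_injective hNM)
    exact Group.isSolvable_of_ker_le_range N.subtype π
      (by rw [QuotientGroup.ker_mk', range_subtype])

/-- A finite group with a nilpotent maximal subgroup of odd order or of class at most two is
solvable. -/
theorem isSolvable_of_nilpotent_coatom [Finite G] {M : Subgroup G} (hM : IsCoatom M)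
    (hnil : Group.IsNilpotent M) (h : Odd (Nat.card M) ∨ Group.nilpotencyClass M ≤ 2) :
    Group.IsSolvable G :=
  isSolvable_aux _ G le_rfl M hM hnil h

end Cfsg.Agent.Frobenius.NilpotentMaximal
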