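import Cfsg.Agent.Lib.Frobenius.Kernel
import Cfsg.Agent.Lib.Frobenius.FixedPointFree

/-!
# Normal subgroups and quotients of Frobenius groups
-/

set_option autoImplicit false

open scoped Pointwise

namespace Cfsg.Agent.Frobenius

variable {G : Type*} [Group G] [Finite G]

/-- For `r` in the complement, `k ↦ r k r⁻¹ k⁻¹` is a bijection of the kernel onto itself. -/
theorem exists_commutator_eq {K H : Subgroup G} [K.Normal] (hc : Subgroup.IsComplement' K H)
    (hH : IsFrobeniusComplement H) {r : G} (hr : r ∈ H) (hr1 : r ≠ 1) {k : G} (hk : k ∈ K) :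
    ∃ l ∈ K, k = r * l * r⁻¹ * l⁻¹ := by
  let f : K → K := fun l =>
    ⟨r * l * r⁻¹ * (l : G)⁻¹, mul_mem (Subgroup.Normal.conj_mem ‹_› _ l.2 r) (inv_mem l.2)⟩
  have hf : Function.Injective f := by
    intro a b hab
    have h1 : r * a * r⁻¹ * (a : G)⁻¹ = r * b * r⁻¹ * (b : G)⁻¹ := congrArg Subtype.val hab
    have hcomm : r * ((b : G)⁻¹ * a) = (b : G)⁻¹ * a * r := by
      calc r * ((b : G)⁻¹ * a) = r * (b : G)⁻¹ * r⁻¹ * (r * a * r⁻¹ * (a : G)⁻¹) * a * r := by group
        _ = r * (b : G)⁻¹ * r⁻¹ * (r * b * r⁻¹ * (b : G)⁻¹) * a * r := by rw [h1]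
        _ = (b : G)⁻¹ * a * r := by group
    have h2 := fixedPointFree_of_isFrobeniusComplement hc hH r hr hr1
    have h3 : (b : G)⁻¹ * a ∈ K ⊓ Subgroup.centralizer {r} :=
      ⟨K.mul_mem (K.inv_mem b.2) a.2, Subgroup.mem_centralizer_singleton_iff.2 hcomm.symm⟩
    rw [h2, Subgroup.mem_bot, inv_mul_eq_one] at h3
    exact Subtype.ext h3.symm
  obtain ⟨l, hl⟩ := (Finite.injective_iff_surjective.1 hf) ⟨k, hk⟩
  exact ⟨l, l.2, (congrArg Subtype.val hl).symm⟩

/-- A normal subgroup either contains the kernel or lies in it. -/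
theorem normal_le_or_ge {K H : Subgroup G} [K.Normal] (hc : Subgroup.IsComplement' K H)
    (hH : IsFrobeniusComplement H) (N : Subgroup G) [hN : N.Normal] : N ≤ K ∨ K ≤ N := by
  refine or_iff_not_imp_left.2 fun hle => ?_
  obtain ⟨x, hxN, hxK⟩ := SetLike.not_le_iff_exists.1 hle
  have hx : x ∉ frobeniusKernel H := by rw [← coe_eq_frobeniusKernel hc hH]; exact hxK
  obtain ⟨hx1, a, ha⟩ := exists_conj_of_not_mem_frobeniusKernel hx
  rw [mem_conj_smul] at ha
  set r := a⁻¹ * x * a with hrdef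
  have hrN : r ∈ N := by
    have := hN.conj_mem x hxN a⁻¹
    rwa [inv_inv] at this
  have hr1 : r ≠ 1 := fun h => hx1 (by
    have h' : x = a * r * a⁻¹ := by rw [hrdef]; group
    rw [h', h]; group)
  intro k hk
  obtain ⟨l, -, rfl⟩ := exists_commutator_eq hc hH ha hr1 hk
  have : r * l * r⁻¹ * l⁻¹ = r * (l * r⁻¹ * l⁻¹) := by group
  rw [this]
  exact N.mul_mem hrN (hN.conj_mem _ (inv_mem hrN) l)

/-- A quotient of a Frobenius group by a normal subgroup not containing the kernel. -/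
theorem isFrobeniusComplement_map {H : Subgroup G} (hH : IsFrobeniusComplement H)
    (N : Subgroup G) [N.Normal] (hKN : ¬ frobeniusKernel H ⊆ N) :
    IsFrobeniusComplement (H.map (QuotientGroup.mk' N)) ∧
      frobeniusKernel (H.map (QuotientGroup.mk' N)) = QuotientGroup.mk' N '' frobeniusKernel H := by
  obtain ⟨K, hKeq, hKn, hc⟩ := exists_frobeniusKernel_subgroup hH
  have hNK : N ≤ K := (normal_le_or_ge hc hH N).resolve_right fun h => hKN (hKeq ▸ h)
  set π := QuotientGroup.mk' N with hπ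
  have hπs := QuotientGroup.mk'_surjective N
  haveI : (K.map π).Normal := hKn.map π hπs
  have hdisj : Disjoint (K.map π) (H.map π) := by
    rw [disjoint_iff_inf_le]
    rintro _ ⟨⟨k, hk, rfl⟩, ⟨h, hh, he⟩⟩
    have h1 : k⁻¹ * h ∈ N := (QuotientGroup.eq).1 (show (k : G ⧸ N) = (h : G ⧸ N) from he.symm)
    have h2 : h ∈ K := by
      have := mul_mem hk (hNK h1)
      simpa using this
    have h3 : h = 1 := Subgroup.mem_bot.1 (hc.disjoint.le_bot ⟨h2, hh⟩)
    rw [← he, h3, map_one]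
    exact one_mem _
  have hc' : Subgroup.IsComplement' (K.map π) (H.map π) := by
    refine Subgroup.isComplement'_of_disjoint_and_mul_eq_univ hdisj (Set.eq_univ_of_forall fun y => ?_)
    obtain ⟨g, rfl⟩ := hπs y
    have : g ∈ (K : Set G) * (H : Set G) := by rw [hc.mul_eq]; trivial
    obtain ⟨k, hk, h, hh, rfl⟩ := this
    exact ⟨π k, Subgroup.mem_map_of_mem π hk, π h, Subgroup.mem_map_of_mem π hh, (map_mul π k h).symm⟩
  have hFC : IsFrobeniusComplement (H.map π) := by
    refine isFrobeniusComplement_of_fixedPointFree hc' ?_ ?_ ?_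
    · intro h
      refine hKN (hKeq ▸ fun k hk => ?_)
      exact (QuotientGroup.eq_one_iff k).1 ((Subgroup.eq_bot_iff_forall _).1 h _
        (Subgroup.mem_map_of_mem π hk))
    · intro h
      obtain ⟨r, hr, hr1⟩ := exists_ne_one_mem hH
      exact hr1 (Subgroup.mem_bot.1 (hc.disjoint.le_bot
        ⟨hNK ((QuotientGroup.eq_one_iff r).1 ((Subgroup.eq_bot_iff_forall _).1 h _
          (Subgroup.mem_map_of_mem π hr))), hr⟩))
    · rintro _ ⟨r, hr, rfl⟩ hne
      rw [Subgroup.eq_bot_iff_forall]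
      rintro _ ⟨⟨k, hk, rfl⟩, hcen⟩
      have hr1 : r ≠ 1 := fun h => hne (by rw [h, map_one])
      have h1 : π (r * k * r⁻¹ * k⁻¹) = 1 := by
        have h2 : π k * π r = π r * π k := Subgroup.mem_centralizer_singleton_iff.1 hcen
        rw [map_mul, map_mul, map_mul, map_inv, map_inv, ← h2]; group
      have h3 : r * k * r⁻¹ * k⁻¹ ∈ N := (QuotientGroup.eq_one_iff _).1 h1
      refine (QuotientGroup.eq_one_iff k).2 ?_
      -- the bijection restricts to the invariant subgroup `N`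
      let f : N → N := fun l => ⟨r * l * r⁻¹ * (l : G)⁻¹,
        mul_mem (Subgroup.Normal.conj_mem ‹_› _ l.2 r) (inv_mem l.2)⟩
      have hinj : ∀ a b : G, a ∈ K → b ∈ K → r * a * r⁻¹ * a⁻¹ = r * b * r⁻¹ * b⁻¹ → a = b := by
        intro a b ha hb hab
        have hcomm : r * (b⁻¹ * a) = b⁻¹ * a * r := by
          calc r * (b⁻¹ * a) = r * b⁻¹ * r⁻¹ * (r * a * r⁻¹ * a⁻¹) * a * r := by group
            _ = r * b⁻¹ * r⁻¹ * (r * b * r⁻¹ * b⁻¹) * a * r := by rw [hab]
            _ = b⁻¹ * a * r := by group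
        have h4 : b⁻¹ * a ∈ K ⊓ Subgroup.centralizer {r} :=
          ⟨K.mul_mem (K.inv_mem hb) ha, Subgroup.mem_centralizer_singleton_iff.2 hcomm.symm⟩
        rw [fixedPointFree_of_isFrobeniusComplement hc hH r hr hr1, Subgroup.mem_bot,
          inv_mul_eq_one] at h4
        exact h4.symm
      have hf : Function.Injective f := fun a b hab =>
        Subtype.ext (hinj a b (hNK a.2) (hNK b.2) (congrArg Subtype.val hab))
      obtain ⟨l, hl⟩ := (Finite.injective_iff_surjective.1 hf) ⟨_, h3⟩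
      rw [hinj k l hk (hNK l.2) (congrArg Subtype.val hl).symm]
      exact l.2
  refine ⟨hFC, ?_⟩
  rw [← coe_eq_frobeniusKernel hc' hFC, ← hKeq]
  rfl

end Cfsg.Agent.Frobenius
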